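import Cfsg.Agent.Lib.DGroup.Defs
import Cfsg.Agent.Lib.Invol.AIC
import Cfsg.Agent.Lib.Transfer.Thompson
import Cfsg.Agent.Lib.OddOrder.Solvable
import Cfsg.Agent.S0215
import Mathlib.GroupTheory.Transfer

/-!
# A self-centralising D-group with two involutions in its rotations

If the rotation group `A` contains two involutions, the intersection `K` of the subgroups of index two has
abelian involution centralisers, so it is an odd central extension of `PSL(2, 2^n)`, and a reflection may be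
chosen isolated modulo the odd core.
-/

set_option autoImplicit false
set_option linter.style.haveILetI false
set_option linter.unusedSectionVars false

namespace CfsgLib.DGroup

open Cfsg CfsgLib CfsgLib.Invol

variable {G : Type*} [Group G] [Finite G]

/-- A nonsolvable group has no cyclic Sylow 2-subgroup. -/
theorem not_isCyclic_of_nonsolvable {K : Type*} [Group K] [Finite K] (hns : ¬ Group.IsSolvable K)
    (T : Sylow 2 K) : ¬ IsCyclic (T : Subgroup K) := by
  haveI : Fact (Nat.Prime 2) := ⟨Nat.prime_two⟩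
  intro hc
  by_cases h2 : 2 ∣ Nat.card K
  · have hne : Nat.card K ≠ 1 := fun e => by rw [e] at h2; omega
    have hmin : (Nat.card K).minFac = 2 := le_antisymm (Nat.minFac_le_of_dvd le_rfl h2)
      (Nat.minFac_prime hne).two_le
    have hP := IsCyclic.normalizer_le_centralizer hmin hc
    have hcmp := MonoidHom.ker_transferSylow_isComplement' T hP
    set f := MonoidHom.transferSylow T hP
    have hodd : Odd (Nat.card f.ker) := by
      rw [← hcmp.index_eq_card, ← Nat.not_even_iff_odd, even_iff_two_dvd]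
      exact T.not_dvd_index
    haveI : Group.IsSolvable f.ker := CfsgLib.OddOrder.odd_order_solvable hodd
    haveI : Group.IsNilpotent (T : Subgroup K) := T.2.isNilpotent
    haveI : Group.IsSolvable (T : Subgroup K) := inferInstance
    exact hns (Group.isSolvable_of_ker_le_range f.ker.subtype f (by rw [Subgroup.range_subtype]))
  · exact hns (CfsgLib.OddOrder.odd_order_solvable
      (by rwa [← Nat.not_even_iff_odd, even_iff_two_dvd]))

/-- Averaging: an element of an abelian group `W`, centralised by a subgroup of odd index of `E`, has a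
translate by `U` centralised by `E`, when `E` moves the elements of `W` only inside their cosets of `U`. -/
theorem exists_fixed_translate {W U E E₀ : Subgroup G} (hWc : ∀ a ∈ W, ∀ b ∈ W, a * b = b * a)
    (hUW : U ≤ W) (hEW : ∀ e ∈ E, ∀ y ∈ W, e * y * e⁻¹ ∈ W)
    (hmove : ∀ e ∈ E, ∀ y ∈ W, e * y * e⁻¹ * y⁻¹ ∈ U) {x : G} (hx : x ∈ W) (hx2 : x * x ∈ U)
    (h0 : ∀ e ∈ E₀, Commute e x) (hodd : Odd (E₀.relIndex E)) :
    ∃ w ∈ W, x⁻¹ * w ∈ U ∧ ∀ e ∈ E, Commute e w := by
  classical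
  letI : CommGroup W :=
    { (inferInstance : Group W) with mul_comm := fun a b => Subtype.ext (hWc a a.2 b b.2) }
  letI := Fintype.ofFinite (E ⧸ E₀.subgroupOf E)
  let f : E ⧸ E₀.subgroupOf E → W := Quotient.lift
    (fun e : E => (⟨e * x * (e : G)⁻¹, hEW e e.2 x hx⟩ : W)) (by
      intro a b hab
      have h1 : a⁻¹ * b ∈ E₀.subgroupOf E := QuotientGroup.leftRel_apply.1 hab
      have h2 := h0 _ (Subgroup.mem_subgroupOf.1 h1)
      apply Subtype.ext
      show (a : G) * x * (a : G)⁻¹ = (b : G) * x * (b : G)⁻¹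
      have h3 : ((a⁻¹ * b : E) : G) = (a : G)⁻¹ * b := rfl
      rw [h3] at h2
      calc (a : G) * x * (a : G)⁻¹
          = (a : G) * (x * ((a : G)⁻¹ * b)) * (b : G)⁻¹ := by group
        _ = (a : G) * ((a : G)⁻¹ * b * x) * (b : G)⁻¹ := by rw [h2.eq]
        _ = (b : G) * x * (b : G)⁻¹ := by group)
  have hfe : ∀ (e : E) (q : E ⧸ E₀.subgroupOf E),
      (f (e • q) : G) = (e : G) * (f q : G) * (e : G)⁻¹ := by
    intro e q
    induction q using QuotientGroup.induction_on with
    | _ b =>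
      show ((e * b : E) : G) * x * ((e * b : E) : G)⁻¹ = (e : G) * ((b : G) * x * (b : G)⁻¹) * (e : G)⁻¹
      rw [Subgroup.coe_mul]; group
  set w := ∏ q, f q with hw
  refine ⟨w, w.2, ?_, fun e he => ?_⟩
  · let π := QuotientGroup.mk' (U.subgroupOf W)
    have hπ : ∀ q, π (f q) = π ⟨x, hx⟩ := by
      intro q
      induction q using QuotientGroup.induction_on with
      | _ b =>
        refine ((QuotientGroup.mk'_eq_mk' _).2 ⟨(f (b : E ⧸ E₀.subgroupOf E))⁻¹ * ⟨x, hx⟩, ?_, by simp⟩)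
        rw [Subgroup.mem_subgroupOf]
        have h := hmove b b.2 x hx
        have e1 : (((f (b : E ⧸ E₀.subgroupOf E))⁻¹ * ⟨x, hx⟩ : W) : G) =
            ((b : G) * x * (b : G)⁻¹ * x⁻¹)⁻¹ := by
          have e2 : ((f (b : E ⧸ E₀.subgroupOf E))⁻¹ * (⟨x, hx⟩ : W)) =
              (⟨x, hx⟩ : W) * (f (b : E ⧸ E₀.subgroupOf E))⁻¹ := mul_comm _ _
          rw [e2, Subgroup.coe_mul, Subgroup.coe_inv]
          show x * ((b : G) * x * (b : G)⁻¹)⁻¹ = _
          group
        rw [e1]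
        exact inv_mem h
    have hπw : π w = π ⟨x, hx⟩ := by
      rw [hw, map_prod, Finset.prod_congr rfl fun q _ => hπ q, Finset.prod_const, Finset.card_univ,
        ← Nat.card_eq_fintype_card]
      obtain ⟨k, hk⟩ : ∃ k, Nat.card (E ⧸ E₀.subgroupOf E) = 2 * k + 1 := hodd
      have h2 : π ⟨x, hx⟩ ^ 2 = 1 := by
        rw [← map_pow]
        exact (QuotientGroup.eq_one_iff _).2 (by rw [Subgroup.mem_subgroupOf, pow_two]; exact hx2)
      rw [hk, pow_succ, pow_mul, h2, one_pow, one_mul]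
    have h := QuotientGroup.eq.1 hπw.symm
    rw [Subgroup.mem_subgroupOf] at h
    exact h
  · have hc : (e * (w : G) * e⁻¹) = w := by
      let ψ : W →* W :=
        { toFun := fun y => ⟨e * y * e⁻¹, hEW e he y y.2⟩
          map_one' := Subtype.ext (by simp)
          map_mul' := fun a b => Subtype.ext (by simp [mul_assoc]) }
      have h1 : ψ w = w := by
        rw [hw, map_prod]
        have h2 : ∀ q, ψ (f q) = f ((⟨e, he⟩ : E) • q) := fun q => Subtype.ext (hfe ⟨e, he⟩ q).symm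
        rw [Finset.prod_congr rfl fun q _ => h2 q]
        exact Equiv.prod_comp (MulAction.toPerm (⟨e, he⟩ : E)) f
      exact congrArg Subtype.val h1
    exact mul_inv_eq_iff_eq_mul.1 hc

/-- If conjugation by `g` maps the centraliser of `i` to itself, as both are `H`, it normalises `H`. -/
theorem mem_normalizer_of_centralizer {H : Subgroup G} {i g : G}
    (h1 : Subgroup.centralizer ({i} : Set G) = H)
    (h2 : Subgroup.centralizer ({g * i * g⁻¹} : Set G) = H) : g ∈ Subgroup.normalizer (H : Set G) := by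
  rw [Subgroup.mem_normalizer_iff]
  intro y
  constructor
  · intro hy
    rw [← h1, Subgroup.mem_centralizer_singleton_iff] at hy
    rw [← h2, Subgroup.mem_centralizer_singleton_iff]
    calc g * y * g⁻¹ * (g * i * g⁻¹) = g * (y * i) * g⁻¹ := by group
      _ = g * (i * y) * g⁻¹ := by rw [hy]
      _ = g * i * g⁻¹ * (g * y * g⁻¹) := by group
  · intro hy
    rw [← h2, Subgroup.mem_centralizer_singleton_iff] at hy
    rw [← h1, Subgroup.mem_centralizer_singleton_iff]
    calc y * i = g⁻¹ * (g * y * g⁻¹ * (g * i * g⁻¹)) * g := by group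
      _ = g⁻¹ * (g * i * g⁻¹ * (g * y * g⁻¹)) * g := by rw [hy]
      _ = i * y := by group

namespace Hyp

variable {H A : Subgroup G} {x : G}

theorem sq_outside (h : Hyp H A x) {y : G} (hy : y ∈ H) (hyA : y ∉ A) : y * y = 1 := by
  have hx : x⁻¹ = x := inv_eq_of_mul_eq_one_right h.xsq
  have ha : x * y ∈ A := (h.cases y hy).resolve_left hyA
  have e := h.inv _ ha
  rw [hx, ← mul_assoc, h.xsq, one_mul, mul_inv_rev, hx] at e
  exact eq_inv_iff_mul_eq_one.mp (mul_right_cancel e)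

theorem inv_outside (h : Hyp H A x) {y : G} (hy : y ∈ H) (hyA : y ∉ A) {a : G} (ha : a ∈ A) :
    y * a * y⁻¹ = a⁻¹ := by
  have hb : x * y ∈ A := (h.cases y hy).resolve_left hyA
  have hx : x⁻¹ = x := inv_eq_of_mul_eq_one_right h.xsq
  have e : (x * y) * a * (x * y)⁻¹ = a := by rw [h.comm _ hb _ ha, mul_inv_cancel_right]
  calc y * a * y⁻¹ = x * ((x * y) * a * (x * y)⁻¹) * x⁻¹ := by
        rw [mul_inv_rev, hx]
        calc y * a * y⁻¹ = (x * x) * y * a * y⁻¹ * (x * x) := by rw [h.xsq, one_mul, mul_one]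
          _ = _ := by group
    _ = a⁻¹ := by rw [e, h.inv a ha]

theorem mul_mem_of_outside (h : Hyp H A x) {y z : G} (hy : y ∈ H) (hyA : y ∉ A) (hz : z ∈ H)
    (hzA : z ∉ A) : y * z ∈ A := by
  have hxy : x * y ∈ A := (h.cases y hy).resolve_left hyA
  have hxz : x * z ∈ A := (h.cases z hz).resolve_left hzA
  have hy2 : y⁻¹ = y := inv_eq_of_mul_eq_one_right (h.sq_outside hy hyA)
  have := mul_mem (inv_mem hxy) hxz
  rwa [mul_inv_rev, mul_assoc, inv_mul_cancel_left, hy2] at this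

/-- An element normalising `H` normalises `A`, when some element of `A` does not square to one. -/
theorem conj_mem (h : Hyp H A x) {c : G} (hc : c ∈ A) (hc2 : c * c ≠ 1) {g : G}
    (hg : g ∈ Subgroup.normalizer (H : Set G)) {a : G} (ha : a ∈ A) : g * a * g⁻¹ ∈ A := by
  have key : ∀ y ∈ A, y * y ≠ 1 → g * y * g⁻¹ ∈ A := by
    intro y hy hy2
    by_contra hn
    have h1 := h.sq_outside ((Subgroup.mem_normalizer_iff.1 hg y).1 (h.le hy)) hn
    rw [show g * y * g⁻¹ * (g * y * g⁻¹) = g * (y * y) * g⁻¹ by group] at h1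
    exact hy2 (conj_eq_one_iff.1 h1)
  by_cases ha2 : a * a = 1
  · have e : a = (a * c) * c⁻¹ := by group
    have h1 : (a * c) * (a * c) ≠ 1 := fun e' => hc2 (by
      rwa [(show Commute a c from h.comm a ha c hc).symm.mul_mul_mul_comm, ha2, one_mul] at e')
    have h2 := key _ (mul_mem ha hc) h1
    have h3 := key c hc hc2
    have e2 : g * a * g⁻¹ = (g * (a * c) * g⁻¹) * (g * c * g⁻¹)⁻¹ := by group
    rw [e2]
    exact mul_mem h2 (inv_mem h3)
  · exact key a ha ha2

theorem central (h : Hyp H A x) {i : G} (hi : i ∈ A) (hi2 : orderOf i = 2) {y : G} (hy : y ∈ H) :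
    Commute y i :=
  Subgroup.mem_centralizer_singleton_iff.1 (h.cent i hi hi2 ▸ hy)

end Hyp

/-- **Two involutions in `A`.** -/
theorem noncyclic_case (hns : ¬ Group.IsSolvable G) {H A : Subgroup G} {x : G} (h : Hyp H A x)
    (hne : ¬ ∀ y ∈ H, y * y = 1) {s t : G} (hs : s ∈ A) (hs2 : orderOf s = 2) (ht : t ∈ A)
    (ht2 : orderOf t = 2) (hst : s ≠ t) : Concl G := by
  classical
  haveI : Fact (Nat.Prime 2) := ⟨Nat.prime_two⟩
  push Not at hne
  obtain ⟨c, hcH, hc2⟩ := hne
  have hcA : c ∈ A := by by_contra hn; exact hc2 (h.sq_outside hcH hn)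
  have hss := mul_self_of_orderOf_two hs2
  have htt := mul_self_of_orderOf_two ht2
  have hst2 : orderOf (s * t) = 2 := orderOf_two_of_mul_self
    (by rw [(show Commute s t from h.comm s hs t ht).symm.mul_mul_mul_comm, hss, htt, one_mul])
    fun e => hst (by rw [eq_inv_of_mul_eq_one_left e, inv_of_orderOf_two ht2])
  -- a conjugation putting the four group into `H` keeps one of its involutions in `A`
  have hfour : ∀ g : G, g * s * g⁻¹ ∈ H → g * t * g⁻¹ ∈ H →
      ∃ i ∈ A, orderOf i = 2 ∧ g * i * g⁻¹ ∈ A ∧ Subgroup.centralizer ({g * i * g⁻¹} : Set G) = H := by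
    intro g hgs hgt
    have key : ∀ i ∈ A, orderOf i = 2 → g * i * g⁻¹ ∈ A →
        ∃ i ∈ A, orderOf i = 2 ∧ g * i * g⁻¹ ∈ A ∧
          Subgroup.centralizer ({g * i * g⁻¹} : Set G) = H :=
      fun i hi hi2 hiA => ⟨i, hi, hi2, hiA, h.cent _ hiA (conj_orderOf_two hi2 g)⟩
    by_cases h1 : g * s * g⁻¹ ∈ A
    · exact key s hs hs2 h1
    by_cases h2 : g * t * g⁻¹ ∈ A
    · exact key t ht ht2 h2
    refine key (s * t) (mul_mem hs ht) hst2 ?_
    have e : g * (s * t) * g⁻¹ = (g * s * g⁻¹) * (g * t * g⁻¹) := by group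
    rw [e]
    exact h.mul_mem_of_outside hgs h1 hgt h2
  have hfour' : ∀ g : G, g * s * g⁻¹ ∈ H → g * t * g⁻¹ ∈ H → g ∈ Subgroup.normalizer (H : Set G) :=
    fun g hgs hgt => by
      obtain ⟨i, hi, hi2, -, hC⟩ := hfour g hgs hgt
      exact mem_normalizer_of_centralizer (h.cent i hi hi2) hC
  -- an element normalising `H` with square in `H` lies in `H`
  have hsqrt : ∀ n ∈ Subgroup.normalizer (H : Set G), n * n ∈ H → n ∈ H := by
    intro n hn hnn
    have hs' : n * s * n⁻¹ ∈ A := h.conj_mem hcA hc2 hn hs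
    have hback : ∀ i ∈ A, orderOf i = 2 → n * i * n⁻¹ = i → n ∈ H := fun i hi hi2 e => by
      rw [← h.cent i hi hi2, Subgroup.mem_centralizer_singleton_iff]
      exact mul_inv_eq_iff_eq_mul.1 e
    by_cases hfix : n * s * n⁻¹ = s
    · exact hback s hs hs2 hfix
    have hc : Commute s (n * s * n⁻¹) := h.comm _ hs _ hs'
    refine hback (s * (n * s * n⁻¹)) (mul_mem hs hs') (orderOf_two_of_mul_self ?_ ?_) ?_
    · rw [hc.symm.mul_mul_mul_comm, hss, one_mul, show n * s * n⁻¹ * (n * s * n⁻¹) = n * (s * s) * n⁻¹ by group,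
        hss]
      group
    · intro e
      exact hfix (by rw [eq_inv_of_mul_eq_one_right e, inv_of_orderOf_two hs2])
    · have h1 : n * n * s * (n * n)⁻¹ = s := by
        rw [(h.central hs hs2 hnn).eq, mul_inv_cancel_right]
      calc n * (s * (n * s * n⁻¹)) * n⁻¹ = (n * s * n⁻¹) * (n * n * s * (n * n)⁻¹) := by group
        _ = s * (n * s * n⁻¹) := by rw [h1, hc.eq]
  have hpow : ∀ (k : ℕ), ∀ n ∈ Subgroup.normalizer (H : Set G), n ^ (2 ^ k) = 1 → n ∈ H := by
    intro k
    induction k with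
    | zero => intro n _ hn; rw [pow_zero, pow_one] at hn; rw [hn]; exact one_mem H
    | succ k ih =>
      intro n hn hk
      refine hsqrt n hn (ih _ (mul_mem hn hn) ?_)
      rw [← pow_two, ← pow_mul, mul_comm, ← pow_succ, hk]
  -- the elements of `H` outside `A` are not conjugate into `A`
  have hnoconj : ∀ y ∈ H, y ∉ A → ∀ g : G, g * y * g⁻¹ ∉ A := by
    intro y hy hyA g hg
    have hyo : orderOf y = 2 := orderOf_two_of_mul_self (h.sq_outside hy hyA)
      fun e => hyA (e ▸ one_mem A)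
    have hb : orderOf (g * y * g⁻¹) = 2 := conj_orderOf_two hyo g
    have hC := h.cent _ hg hb
    have hin : ∀ i ∈ A, orderOf i = 2 → g * i * g⁻¹ ∈ H := fun i hi hi2 => by
      rw [← hC, Subgroup.mem_centralizer_singleton_iff]
      exact (Commute.conj (h.central hi hi2 hy).symm g).eq
    have hgn := hfour' g (hin s hs hs2) (hin t ht ht2)
    have hcy : Commute (g * c * g⁻¹) (g * y * g⁻¹) := Subgroup.mem_centralizer_singleton_iff.1
      (hC.symm ▸ (Subgroup.mem_normalizer_iff.1 hgn c).1 hcH)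
    have hcy' : y * c = c * y :=
      calc y * c = g⁻¹ * ((g * y * g⁻¹) * (g * c * g⁻¹)) * g := by group
        _ = g⁻¹ * ((g * c * g⁻¹) * (g * y * g⁻¹)) * g := by rw [hcy.eq]
        _ = c * y := by group
    have e := h.inv_outside hy hyA hcA
    rw [hcy', mul_inv_cancel_right] at e
    exact hc2 (eq_inv_iff_mul_eq_one.1 e)
  -- a Sylow 2-subgroup inside `H`
  obtain ⟨P, hPH, hVP⟩ : ∃ P : Sylow 2 G, (P : Subgroup G) ≤ H ∧
      (s ∈ (P : Subgroup G) ∧ t ∈ (P : Subgroup G)) := by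
    obtain ⟨T⟩ : Nonempty (Sylow 2 H) := inferInstance
    have hin : ∀ i ∈ A, ∀ (hi2 : orderOf i = 2), i ∈ (T : Subgroup H).map H.subtype := by
      intro i hi hi2
      set z : H := ⟨i, h.le hi⟩
      haveI : (Subgroup.zpowers z).Normal := ⟨fun y hy g => by
        have hz : Commute g z := Subtype.ext (h.central hi hi2 g.2).eq
        obtain ⟨j, rfl⟩ := hy
        rw [(hz.zpow_right j).eq, mul_inv_cancel_right]
        exact ⟨j, rfl⟩⟩
      have hp : IsPGroup 2 (Subgroup.zpowers z) := IsPGroup.of_card (n := 1)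
        (by rw [Nat.card_zpowers, Subgroup.orderOf_mk, hi2, pow_one])
      have hle : Subgroup.zpowers z ≤ (T : Subgroup H) := by
        have h1 := T.3 (T.2.to_sup_of_normal_right hp) le_sup_left
        exact h1 ▸ le_sup_right
      exact ⟨z, hle (Subgroup.mem_zpowers z), rfl⟩
    obtain ⟨P, hP⟩ := (T.2.map H.subtype).exists_le_sylow
    set T₁ := (T : Subgroup H).map H.subtype with hT₁
    have hT₁H : T₁ ≤ H := Subgroup.map_subtype_le _
    refine ⟨P, ?_, hP (hin s hs hs2), hP (hin t ht ht2)⟩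
    -- `P ∩ H = T₁`, and `T₁` is self-normalising in `P`
    have hPT : (P : Subgroup G) ⊓ H = T₁ := by
      refine le_antisymm ?_ (le_inf hP hT₁H)
      have h1 := T.3 (P.2.comap_of_injective H.subtype H.subtype_injective)
        (fun y hy => hP ⟨y, hy, rfl⟩)
      intro y hy
      exact ⟨⟨y, hy.2⟩, h1 ▸ (show (⟨y, hy.2⟩ : H) ∈ (P : Subgroup G).comap H.subtype from hy.1), rfl⟩
    by_contra hle
    haveI : Group.IsNilpotent (P : Subgroup G) := P.2.isNilpotent
    have hlt : T₁.subgroupOf (P : Subgroup G) < ⊤ := lt_top_iff_ne_top.2 fun e => hle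
      ((Subgroup.subgroupOf_eq_top.1 e).trans hT₁H)
    obtain ⟨n, hn, hnT⟩ := SetLike.exists_of_lt (Group.normalizerCondition_of_isNilpotent _ hlt)
    have hnorm : ∀ y ∈ T₁, (n : G) * y * (n : G)⁻¹ ∈ T₁ := fun y hy =>
      Subgroup.mem_subgroupOf.1 ((Subgroup.mem_normalizer_iff.1 hn ⟨y, hP hy⟩).1
        (Subgroup.mem_subgroupOf.2 hy))
    have hnH := hfour' n (hT₁H (hnorm s (hin s hs hs2))) (hT₁H (hnorm t (hin t ht ht2)))
    obtain ⟨k, hk⟩ := P.2 n
    have hk' : (n : G) ^ (2 ^ k) = 1 := by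
      rw [← Subgroup.coe_pow, hk, Subgroup.coe_one]
    exact hnT (Subgroup.mem_subgroupOf.2 (hPT ▸ Subgroup.mem_inf.2 ⟨n.2, hpow k n hnH hk'⟩))
  -- a reflection in `P`
  obtain ⟨r, hrP, hrA⟩ : ∃ r ∈ (P : Subgroup G), r ∉ A := by
    by_contra hall
    push Not at hall
    have hxP : IsPGroup 2 (Subgroup.zpowers (⟨x, h.xmem⟩ : H)) := IsPGroup.of_card (n := 1) (by
      rw [Nat.card_zpowers, Subgroup.orderOf_mk,
        orderOf_two_of_mul_self h.xsq (fun e => h.xnot (e ▸ one_mem A)), pow_one])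
    obtain ⟨Q, hQ⟩ := (hxP.map H.subtype).exists_le_sylow
    obtain ⟨g, hg⟩ := MulAction.exists_smul_eq G Q P
    refine hnoconj x h.xmem h.xnot g (hall _ ?_)
    rw [← hg]
    exact Subgroup.smul_mem_pointwise_smul _ (MulAut.conj g) _
      (hQ ⟨⟨x, h.xmem⟩, Subgroup.mem_zpowers _, rfl⟩)
  -- the intersection of the subgroups of index two
  set K : Subgroup G := sInf {M | M.index = 2} with hK
  haveI hKn : K.Normal := ⟨fun y hy g => Subgroup.mem_sInf.2 fun M hM =>
    (Subgroup.normal_of_index_eq_two hM).conj_mem y (Subgroup.mem_sInf.1 hy M hM) g⟩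
  have hKsq : ∀ y : G, y * y ∈ K := fun y => Subgroup.mem_sInf.2 fun M hM =>
    Subgroup.mul_self_mem_of_index_two hM y
  have hKodd : ∀ y : G, Odd (orderOf y) → y ∈ K := by
    rintro y ⟨k, hk⟩
    have e : y = (y ^ (k + 1)) * (y ^ (k + 1)) := by
      rw [← pow_add, show k + 1 + (k + 1) = orderOf y + 1 by omega, pow_succ, pow_orderOf_eq_one, one_mul]
    rw [e]; exact hKsq _
  have hKcomm : ∀ a b : G, a * b * a⁻¹ * b⁻¹ ∈ K := fun a b => by
    have e : a * b * a⁻¹ * b⁻¹ = (a * b) * (a * b) * ((b⁻¹ * a⁻¹ * b) * (b⁻¹ * a⁻¹ * b)) * (b⁻¹ * b⁻¹) := by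
      group
    rw [e]
    exact mul_mem (mul_mem (hKsq _) (hKsq _)) (hKsq _)
  have hPK : ∀ y ∈ (P : Subgroup G), y ∈ K → y ∈ A := by
    intro y hy hyK
    by_contra hyA
    have hrel : (A ⊓ (P : Subgroup G)).relIndex (P : Subgroup G) = 2 := by
      rw [Subgroup.relIndex_eq_two_iff_exists_notMem_and]
      refine ⟨y, hy, fun hy' => hyA hy'.1, fun b hb => ?_⟩
      by_cases hbA : b ∈ A
      · exact Or.inr ⟨hbA, hb⟩
      · exact Or.inl ⟨h.mul_mem_of_outside (hPH hb) hbA (hPH hy) hyA, mul_mem hb hy⟩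
    rcases Transfer.thompson_transfer P hrel (h.sq_outside (hPH hy) hyA) hy (fun hy' => hyA hy'.1) with
      ⟨M, -, hM, hyM⟩ | ⟨g, -, hg⟩
    · exact hyM (Subgroup.mem_sInf.1 hyK M hM)
    · exact hnoconj y (hPH hy) hyA g hg.1
  set U : Subgroup G := (P : Subgroup G) ⊓ K with hU
  have hUA : U ≤ A := fun y hy => hPK y hy.1 hy.2
  -- centralisers in `K`
  have hHK : ∀ y ∈ H, y ∈ K → y ∈ A := by
    intro y hy hyK
    by_contra hyA
    have hy2 : y * y = 1 := h.sq_outside hy hyA
    have hyo : orderOf y = 2 := orderOf_two_of_mul_self hy2 fun e => hyA (e ▸ one_mem A)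
    have hp : IsPGroup 2 (Subgroup.zpowers y) := IsPGroup.of_card (n := 1)
      (by rw [Nat.card_zpowers, hyo, pow_one])
    obtain ⟨Q, hQ⟩ := hp.exists_le_sylow
    obtain ⟨g, hg⟩ := MulAction.exists_smul_eq G Q P
    refine hnoconj y hy hyA g (hUA ⟨?_, hKn.conj_mem y hyK g⟩)
    rw [← hg]
    exact Subgroup.smul_mem_pointwise_smul _ (MulAut.conj g) _ (hQ (Subgroup.mem_zpowers y))
  have hconjU : ∀ y : G, y ∈ K → (∃ k, orderOf y = 2 ^ k) → ∃ g : G, g * y * g⁻¹ ∈ U := by
    intro y hy hyo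
    obtain ⟨k, hk⟩ := hyo
    obtain ⟨Q, hQ⟩ := (IsPGroup.of_card (p := 2) (G := Subgroup.zpowers y) (n := k)
      (by rw [Nat.card_zpowers, hk])).exists_le_sylow
    obtain ⟨g, hg⟩ := MulAction.exists_smul_eq G Q P
    refine ⟨g, ?_, hKn.conj_mem y hy g⟩
    rw [← hg]
    exact Subgroup.smul_mem_pointwise_smul _ (MulAut.conj g) _ (hQ (Subgroup.mem_zpowers y))
  have hAIC : AIC.AbInvCent K := by
    intro z a b hz hz1 ha hb
    have hzo : orderOf (z : G) = 2 := orderOf_two_of_mul_self (congrArg Subtype.val hz)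
      fun e => hz1 (Subtype.ext e)
    obtain ⟨g, hg⟩ := hconjU z z.2 ⟨1, by rw [pow_one, hzo]⟩
    have hC := h.cent _ (hUA hg) (conj_orderOf_two hzo g)
    have hmem : ∀ a : K, Commute a z → g * (a : G) * g⁻¹ ∈ A := fun a ha =>
      hHK _ (hC ▸ Subgroup.mem_centralizer_singleton_iff.2 (Commute.conj (ha.map K.subtype) g).eq)
        (hKn.conj_mem _ a.2 g)
    have hab := h.comm _ (hmem a ha) _ (hmem b hb)
    apply Subtype.ext
    show (a : G) * b = b * a
    calc (a : G) * b = g⁻¹ * ((g * a * g⁻¹) * (g * b * g⁻¹)) * g := by group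
      _ = g⁻¹ * ((g * b * g⁻¹) * (g * a * g⁻¹)) * g := by rw [hab]
      _ = b * a := by group
  -- `G / K` is an elementary abelian 2-group
  have hGK : IsPGroup 2 (G ⧸ K) := fun q => by
    induction q using QuotientGroup.induction_on with
    | _ y => exact ⟨1, by rw [pow_one, pow_two, ← QuotientGroup.mk_mul]; exact (QuotientGroup.eq_one_iff _).2 (hKsq y)⟩
  have hsup : (P : Subgroup G) ⊔ K = ⊤ := by
    rw [← Subgroup.index_eq_one]
    obtain ⟨k, hk⟩ := hGK.exists_card_eq
    refine Nat.eq_one_of_dvd_coprimes ?_ (Subgroup.index_dvd_of_le (le_sup_left (b := K)))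
      ((Subgroup.index_dvd_of_le (le_sup_right (a := (P : Subgroup G)))).trans
        (dvd_of_eq ((Subgroup.index_eq_card K).trans hk)))
    exact Nat.Coprime.pow_right k ((Nat.prime_two.coprime_iff_not_dvd.2 P.not_dvd_index).symm)
  have hKns : ¬ Group.IsSolvable K := by
    intro hs'
    apply hns
    haveI := hs'
    haveI : Group.IsNilpotent (G ⧸ K) := hGK.isNilpotent
    haveI : Group.IsSolvable (G ⧸ K) := inferInstance
    exact Group.isSolvable_of_ker_le_range K.subtype (QuotientGroup.mk' K)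
      (by rw [QuotientGroup.ker_mk', Subgroup.range_subtype])
  -- `U` is a Sylow subgroup of `K`
  have hUp : IsPGroup 2 (U.subgroupOf K) :=
    (P.2.to_le inf_le_left).comap_subtype
  obtain ⟨T, hT⟩ := hUp.exists_le_sylow
  have hTU : (T : Subgroup K) = U.subgroupOf K := by
    refine (Subgroup.eq_of_le_of_card_ge hT ?_).symm
    obtain ⟨Q, hQ⟩ := (T.2.map K.subtype).exists_le_sylow
    obtain ⟨g, hg⟩ := MulAction.exists_smul_eq G Q P
    rw [Nat.card_congr (Subgroup.subgroupOfEquivOfLe (inf_le_right : U ≤ K)).toEquiv]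
    let emb : ↥(T : Subgroup K) → ↥U := fun y => ⟨g * ((y : K) : G) * g⁻¹, by
      refine ⟨?_, hKn.conj_mem _ (y : K).2 g⟩
      rw [← hg]
      exact Subgroup.smul_mem_pointwise_smul _ (MulAut.conj g) _ (hQ ⟨y, y.2, rfl⟩)⟩
    refine Nat.card_le_card_of_injective emb fun a b e => ?_
    exact Subtype.ext (Subtype.ext (by simpa [emb] using congrArg Subtype.val e))
  have hTn : ¬ (T : Subgroup K).Normal := by
    intro hn
    apply hKns
    haveI := hn
    haveI : Group.IsNilpotent (T : Subgroup K) := T.2.isNilpotent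
    haveI : Group.IsSolvable (T : Subgroup K) := inferInstance
    haveI : Group.IsSolvable (K ⧸ (T : Subgroup K)) := CfsgLib.OddOrder.odd_order_solvable (by
      rw [← Subgroup.index_eq_card, ← Nat.not_even_iff_odd, even_iff_two_dvd]
      exact T.not_dvd_index)
    exact Group.isSolvable_of_ker_le_range (T : Subgroup K).subtype (QuotientGroup.mk' (T : Subgroup K))
      (by rw [QuotientGroup.ker_mk', Subgroup.range_subtype])
  obtain ⟨F, iF, iF', f, hf, hF, φ, hφ, hker, hodd⟩ :=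
    AIC.isOddCover hAIC T (not_isCyclic_of_nonsolvable hKns T) hTn
  haveI : CharP F 2 := AIC.charP_two_of_card hF
  have hq : 3 ≤ Nat.card F := by
    rw [Nat.card_eq_fintype_card, hF]
    have := Nat.pow_le_pow_right two_pos hf
    omega
  have hker2 : ∀ y : K, φ y = 1 → (∃ k, orderOf y = 2 ^ k) → y = 1 := by
    rintro y hy ⟨k, hk⟩
    have h1 : orderOf y ∣ Nat.card φ.ker := Subgroup.orderOf_dvd_natCard _ hy
    rw [hk] at h1
    rw [← orderOf_eq_one_iff, hk]
    exact Nat.eq_one_of_dvd_coprimes ((Nat.coprime_two_right.2 hodd).pow_right k) h1 dvd_rfl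
  -- an involution of `U`
  have hUne : U ≠ ⊥ := by
    intro e
    refine not_isCyclic_of_nonsolvable hKns T ?_
    rw [hTU, e, Subgroup.bot_subgroupOf]
    infer_instance
  have hU2 : ∀ y ∈ U, ∃ k, orderOf y = 2 ^ k := fun y hy => by
    obtain ⟨k, hk⟩ := IsPGroup.iff_orderOf.1 P.2 ⟨y, hy.1⟩
    exact ⟨k, by rwa [Subgroup.orderOf_mk] at hk⟩
  obtain ⟨u₀, hu₀, hu₀2⟩ : ∃ u ∈ U, orderOf u = 2 := by
    haveI : Nontrivial U := (Subgroup.nontrivial_iff_ne_bot U).2 hUne
    obtain ⟨k, hk0, hk⟩ := (P.2.to_le (inf_le_left : U ≤ _)).nontrivial_iff_card.1 inferInstance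
    obtain ⟨u, hu⟩ := exists_prime_orderOf_dvd_card' (G := U) 2 (hk ▸ dvd_pow_self 2 hk0.ne')
    exact ⟨u, u.2, by rw [Subgroup.orderOf_coe, hu]⟩
  have hφu₀ : φ ⟨u₀, hu₀.2⟩ * φ ⟨u₀, hu₀.2⟩ = 1 ∧ φ ⟨u₀, hu₀.2⟩ ≠ 1 := by
    refine ⟨by rw [← map_mul, show (⟨u₀, hu₀.2⟩ : K) * ⟨u₀, hu₀.2⟩ = 1 from
      Subtype.ext (mul_self_of_orderOf_two hu₀2), map_one], fun e => ?_⟩
    have := hker2 _ e ⟨1, by rw [Subgroup.orderOf_mk, hu₀2, pow_one]⟩
    exact ne_one_of_orderOf_two hu₀2 (congrArg Subtype.val this)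
  have hUsq : ∀ y ∈ U, y * y = 1 := by
    intro y hy
    have hc : Commute (⟨y, hy.2⟩ : K) ⟨u₀, hu₀.2⟩ := Subtype.ext (h.comm _ (hUA hy) _ (hUA hu₀))
    have h1 := AIC.sq_of_comm_invol hφu₀.1 hφu₀.2 (hc.map φ)
    rw [← map_mul] at h1
    refine congrArg Subtype.val (hker2 ((⟨y, hy.2⟩ : K) * ⟨y, hy.2⟩) h1 ?_)
    obtain ⟨k, hk⟩ := hU2 _ (mul_mem hy hy)
    exact ⟨k, by rw [← hk, ← Subgroup.orderOf_coe]; rfl⟩
  -- the normaliser of `U` in `K` and its action on the fours
  set N : Subgroup G := Subgroup.normalizer (U : Set G) ⊓ K with hN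
  have hNH : ∀ n ∈ Subgroup.normalizer (U : Set G), n ∈ Subgroup.normalizer (H : Set G) := by
    intro n hn
    have h1 : n * u₀ * n⁻¹ ∈ U := (Subgroup.mem_normalizer_iff.1 hn u₀).1 hu₀
    exact mem_normalizer_of_centralizer (h.cent u₀ (hUA hu₀) hu₀2)
      (h.cent _ (hUA h1) (conj_orderOf_two hu₀2 n))
  have hNA : ¬ ∀ n ∈ N, n ∈ A := by
    intro hall
    apply hTn
    exfalso
    have hle : Subgroup.normalizer ((T : Subgroup K) : Set K) ≤
        Subgroup.centralizer ((T : Subgroup K) : Set K) := by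
      intro n hn y hy
      rw [hTU] at hn hy
      refine Subtype.ext (h.comm _ (hUA hy) _ (hall _ ⟨?_, n.2⟩))
      show (n : G) ∈ Subgroup.normalizer (U : Set G)
      rw [Subgroup.mem_normalizer_iff]
      intro z
      constructor
      · intro hz
        exact Subgroup.mem_subgroupOf.1 ((Subgroup.mem_normalizer_iff.1 hn ⟨z, hz.2⟩).1
          (Subgroup.mem_subgroupOf.2 hz))
      · intro hz
        have hzK : z ∈ K := by
          have := hKn.conj_mem _ hz.2 (n : G)⁻¹
          rwa [show (n : G)⁻¹ * ((n : G) * z * (n : G)⁻¹) * (n : G)⁻¹⁻¹ = z by group] at this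
        exact Subgroup.mem_subgroupOf.1 ((Subgroup.mem_normalizer_iff.1 hn ⟨z, hzK⟩).2
          (Subgroup.mem_subgroupOf.2 hz))
    have hcmp := MonoidHom.ker_transferSylow_isComplement' T hle
    set tr := MonoidHom.transferSylow T hle
    haveI : Group.IsSolvable tr.ker := CfsgLib.OddOrder.odd_order_solvable (by
      rw [← hcmp.index_eq_card, ← Nat.not_even_iff_odd, even_iff_two_dvd]
      exact T.not_dvd_index)
    haveI : Group.IsNilpotent (T : Subgroup K) := T.2.isNilpotent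
    haveI : Group.IsSolvable (T : Subgroup K) := inferInstance
    exact hKns (Group.isSolvable_of_ker_le_range tr.ker.subtype tr (by rw [Subgroup.range_subtype]))
  have hNfix : ∀ i ∈ A, orderOf i = 2 → ¬ ∀ n ∈ N, Commute n i := fun i hi hi2 hall =>
    hNA fun n hn => hHK n (h.cent i hi hi2 ▸ Subgroup.mem_centralizer_singleton_iff.2 (hall n hn).eq) hn.2
  set A₂ : Subgroup G := A ⊓ (P : Subgroup G) with hA₂
  have hNA₂ : ∀ n ∈ Subgroup.normalizer (U : Set G), ∀ y ∈ A₂,
      n * y * n⁻¹ ∈ A₂ ∧ n * y * n⁻¹ * y⁻¹ ∈ U := by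
    intro n hn y hy
    have hA' : n * y * n⁻¹ ∈ A := h.conj_mem hcA hc2 (hNH n hn) hy.1
    obtain ⟨k, hk⟩ := P.2 ⟨y, hy.2⟩
    have hk' : y ^ (2 ^ k) = 1 := by simpa using congrArg Subtype.val hk
    -- the 2-elements of `A` lie in `P`
    have htwo : ∀ z ∈ A, z ^ (2 ^ k) = 1 → z ∈ (P : Subgroup G) := by
      intro z hz hzk
      set z' : H := ⟨z, h.le hz⟩
      have hzn : ∀ g : H, g * z' * g⁻¹ ∈ Subgroup.zpowers z' := fun g => by
        by_cases hgA : (g : G) ∈ A
        · have e : g * z' * g⁻¹ = z' := Subtype.ext (by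
            show (g : G) * z * (g : G)⁻¹ = z
            rw [h.comm _ hgA _ hz, mul_inv_cancel_right])
          rw [e]; exact Subgroup.mem_zpowers z'
        · have e : g * z' * g⁻¹ = z'⁻¹ := Subtype.ext (h.inv_outside g.2 hgA hz)
          rw [e]; exact inv_mem (Subgroup.mem_zpowers z')
      haveI : (Subgroup.zpowers z').Normal := ⟨fun y hy g => by
        obtain ⟨j, rfl⟩ := hy
        rw [← conj_zpow]
        exact zpow_mem (hzn g) j⟩
      have hzp : IsPGroup 2 (Subgroup.zpowers z') := by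
        obtain ⟨j, -, hj⟩ := (Nat.dvd_prime_pow Nat.prime_two).1 (orderOf_dvd_of_pow_eq_one hzk)
        exact IsPGroup.of_card (n := j) (by rw [Nat.card_zpowers, Subgroup.orderOf_mk, hj])
      have h1 := (P.subtype hPH).3 ((P.subtype hPH).2.to_sup_of_normal_right hzp) le_sup_left
      have h2 : z' ∈ ((P.subtype hPH : Sylow 2 H) : Subgroup H) :=
        h1 ▸ (le_sup_right (α := Subgroup H) (Subgroup.mem_zpowers z'))
      exact h2
    have hP' : n * y * n⁻¹ ∈ (P : Subgroup G) := htwo _ hA' (by rw [conj_pow, hk']; group)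
    exact ⟨⟨hA', hP'⟩, (P : Subgroup G).mul_mem hP' ((P : Subgroup G).inv_mem hy.2), hKcomm n y⟩
  have hUA₂ : U ≤ A₂ := fun y hy => ⟨hUA hy, hy.1⟩
  -- `A₂` is elementary
  have hA₂sq : ∀ a ∈ A₂, a * a = 1 := by
    intro a ha
    by_contra ha2
    have hau : a * a ∈ U := ⟨mul_mem ha.2 ha.2, hKsq a⟩
    have ho : orderOf (a * a) = 2 := orderOf_two_of_mul_self (hUsq _ hau) ha2
    refine hNfix _ (hUA hau) ho fun n hn => ?_
    obtain ⟨⟨hA', -⟩, hd⟩ := hNA₂ n hn.1 a ha
    refine mul_inv_eq_iff_eq_mul.1 ?_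
    calc n * (a * a) * n⁻¹ = (n * a * n⁻¹) * (n * a * n⁻¹) := by group
      _ = ((n * a * n⁻¹ * a⁻¹) * a) * ((n * a * n⁻¹ * a⁻¹) * a) := by group
      _ = (n * a * n⁻¹ * a⁻¹) * (n * a * n⁻¹ * a⁻¹) * (a * a) :=
          (show Commute a (n * a * n⁻¹ * a⁻¹) from h.comm _ ha.1 _ (hUA hd)).mul_mul_mul_comm _ _
      _ = a * a := by rw [hUsq _ hd, one_mul]
  -- `U` is a Sylow subgroup of its normaliser in `K`
  have hUN : U ≤ N := fun y hy => ⟨Subgroup.le_normalizer hy, hy.2⟩
  have hUodd : Odd (U.relIndex N) := by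
    rw [← Nat.not_even_iff_odd, even_iff_two_dvd]
    intro hd
    refine T.not_dvd_index (hd.trans ?_)
    rw [hTU]
    calc U.relIndex N ∣ U.relIndex K := ⟨N.relIndex K, (Subgroup.relIndex_mul_relIndex U N K hUN inf_le_right).symm⟩
      _ = _ := rfl
  -- `A₂ = U`
  have hAU : A₂ ≤ U := by
    intro a ha
    by_contra haU
    obtain ⟨w, hw, hwU, hwfix⟩ := exists_fixed_translate (W := A₂) (U := U) (E := N) (E₀ := U)
      (fun p hp q hq => h.comm _ hp.1 _ hq.1) hUA₂ (fun e he y hy => (hNA₂ e he.1 y hy).1)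
      (fun e he y hy => (hNA₂ e he.1 y hy).2) ha (by rw [hA₂sq a ha]; exact one_mem U)
      (fun e he => h.comm _ (hUA he) _ ha.1) hUodd
    have hw1 : w ≠ 1 := fun e => haU (by rw [e, mul_one] at hwU; exact inv_mem_iff.1 hwU)
    exact hNfix w hw.1 (orderOf_two_of_mul_self (hA₂sq w hw) hw1) hwfix
  have hPcases : ∀ p ∈ (P : Subgroup G), p ∈ U ∨ r * p ∈ U := fun p hp => by
    by_cases hpA : p ∈ A
    · exact Or.inl (hAU ⟨hpA, hp⟩)
    · exact Or.inr (hAU ⟨h.mul_mem_of_outside (hPH hrP) hrA (hPH hp) hpA, mul_mem hrP hp⟩)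
  have hPsq : ∀ p ∈ (P : Subgroup G), p * p = 1 := fun p hp => by
    by_cases hpA : p ∈ A
    · exact hA₂sq p ⟨hpA, hp⟩
    · exact h.sq_outside (hPH hp) hpA
  have hPc : ∀ p ∈ (P : Subgroup G), ∀ q ∈ (P : Subgroup G), p * q = q * p := fun p hp q hq => by
    have h1 := hPsq _ (mul_mem hp hq)
    calc p * q = (p * q)⁻¹ := eq_inv_of_mul_eq_one_left h1
      _ = q⁻¹ * p⁻¹ := mul_inv_rev p q
      _ = q * p := by
          rw [inv_eq_of_mul_eq_one_right (hPsq q hq), inv_eq_of_mul_eq_one_right (hPsq p hp)]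
  have hr2 : r * r = 1 := hPsq r hrP
  have hrK : r ∉ K := fun hk => hrA (hPK r hrP hk)
  -- an isolated element outside `K`
  have hPn : ∀ e ∈ Subgroup.normalizer ((P : Subgroup G) : Set G), ∀ y ∈ (P : Subgroup G),
      e * y * e⁻¹ ∈ (P : Subgroup G) := fun e he y hy => (Subgroup.mem_normalizer_iff.1 he y).1 hy
  obtain ⟨w, hwP, hwU, hwfix⟩ := exists_fixed_translate (W := (P : Subgroup G)) (U := U)
    (E := Subgroup.normalizer ((P : Subgroup G) : Set G)) (E₀ := (P : Subgroup G)) hPc inf_le_left hPn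
    (fun e he y hy => ⟨(P : Subgroup G).mul_mem (hPn e he y hy) ((P : Subgroup G).inv_mem hy), hKcomm e y⟩) hrP
    (by rw [hr2]; exact one_mem U) (fun e he => hPc e he r hrP) (by
      rw [← Nat.not_even_iff_odd, even_iff_two_dvd]
      exact fun hd => P.not_dvd_index (hd.trans (Subgroup.relIndex_dvd_index_of_le Subgroup.le_normalizer)))
  have hwK : w ∉ K := fun hk => hrK (by
    have := mul_mem hk (inv_mem (show r⁻¹ * w ∈ K from hwU.2))
    rwa [mul_inv_rev, inv_inv, mul_inv_cancel_left] at this)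
  have hw2 : w * w = 1 := hPsq w hwP
  have hwo : orderOf w = 2 := orderOf_two_of_mul_self hw2 fun e => hwK (e ▸ one_mem K)
  obtain ⟨M, hMn, hModd, hMw⟩ := Cfsg.Agent.S0215.result P w hwo hwP fun g hg => by
    have hcent : ∀ y ∈ (P : Subgroup G), y ∈ Subgroup.centralizer ((P : Subgroup G) : Set G) :=
      fun y hy z hz => (hPc y hy z hz).symm
    obtain ⟨n, hn, he⟩ := Sylow.conj_eq_normalizer_conj_of_mem_centralizer P w g⁻¹ (hcent w hwP)
      (hcent _ (by rwa [inv_inv]))
    rw [inv_inv] at he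
    rw [he]
    calc n⁻¹ * w * n = n⁻¹ * (n * w) := by rw [mul_assoc, (hwfix n hn).symm.eq]
      _ = w := inv_mul_cancel_left n w
  haveI := hMn
  -- `|G : K| = 2`
  have hsplit : ∀ g : G, g ∈ K ∨ g * w ∈ K := by
    intro g
    have hg : g ∈ (P : Subgroup G) ⊔ K := hsup ▸ Subgroup.mem_top g
    obtain ⟨p, hp, k, hk, rfl⟩ := Subgroup.mem_sup_of_normal_right.1 hg
    rcases hPcases p hp with hpU | hpU
    · exact Or.inl (mul_mem hpU.2 hk)
    · refine Or.inr ?_
      have e : p * k * w = (p * r) * (r⁻¹ * k * r⁻¹⁻¹) * (r⁻¹ * w) := by group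
      rw [e, hPc p hp r hrP]
      exact mul_mem (mul_mem hpU.2 (hKn.conj_mem k hk r⁻¹)) hwU.2
  have hKi : K.index = 2 := Subgroup.index_eq_two_iff_exists_notMem_and.2
    ⟨w, hwK, fun g => (hsplit g).symm⟩
  have hMK : M ≤ K := fun y hy => hKodd y (hModd.of_dvd_nat (Subgroup.orderOf_dvd_natCard M hy))
  -- the kernel of `φ` is normal in `G`
  haveI hsimp := AIC.isSimple (F := F) hq
  have hkc : φ.ker = Subgroup.center K := by
    refine le_antisymm hker fun z hz => ?_
    have hzc : φ z ∈ Subgroup.center (Matrix.ProjectiveSpecialLinearGroup (Fin 2) F) := by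
      rw [Subgroup.mem_center_iff]
      intro q
      obtain ⟨y, rfl⟩ := hφ q
      rw [← map_mul, ← map_mul, Subgroup.mem_center_iff.1 hz y]
    rcases (inferInstance : (Subgroup.center
      (Matrix.ProjectiveSpecialLinearGroup (Fin 2) F)).Normal).eq_bot_or_eq_top with e | e
    · rw [e, Subgroup.mem_bot] at hzc; exact hzc
    · exfalso
      have h1 : commutator (Matrix.ProjectiveSpecialLinearGroup (Fin 2) F) = ⊥ := by
        rw [commutator_def, Subgroup.commutator_eq_bot_iff_le_centralizer]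
        exact fun a _ b _ => Subgroup.mem_center_iff.1 (e ▸ Subgroup.mem_top a) b
      rw [AIC.commutator_eq_top hq] at h1
      exact hφu₀.2 (Subgroup.mem_bot.1 (h1 ▸ Subgroup.mem_top _))
  haveI hRn : (φ.ker.map K.subtype).Normal := by
    haveI : φ.ker.Characteristic := hkc ▸ inferInstance
    exact ConjAct.normal_of_characteristic_of_normal
  set R := φ.ker.map K.subtype with hR
  have hMR : M ≤ R := by
    intro y hy
    refine ⟨⟨y, hMK hy⟩, ?_, rfl⟩
    haveI : ((M.subgroupOf K).map φ).Normal := Subgroup.Normal.map inferInstance φ hφ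
    rcases (inferInstance : ((M.subgroupOf K).map φ).Normal).eq_bot_or_eq_top with e | e
    · exact Subgroup.mem_bot.1 (e ▸ ⟨⟨y, hMK hy⟩, Subgroup.mem_subgroupOf.2 hy, rfl⟩)
    · exfalso
      obtain ⟨z, hz, hze⟩ : φ ⟨u₀, hu₀.2⟩ ∈ (M.subgroupOf K).map φ := e ▸ Subgroup.mem_top _
      apply hφu₀.2
      rw [← hze, ← orderOf_eq_one_iff]
      have h1 : orderOf (φ z) ∣ 2 := by
        rw [hze]
        exact orderOf_dvd_of_pow_eq_one (by rw [pow_two, hφu₀.1])
      have h2 : orderOf (φ z) ∣ Nat.card M := (orderOf_map_dvd φ z).trans (by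
        rw [← Subgroup.orderOf_coe z]
        exact Subgroup.orderOf_dvd_natCard M hz)
      exact Nat.eq_one_of_dvd_coprimes (Nat.coprime_two_right.2 hModd) h2 h1
  -- the normal subgroup of order `2 |R|`
  have hRK : R ≤ K := Subgroup.map_subtype_le _
  have hwR : ∀ g : G, w * g * w⁻¹ * g⁻¹ ∈ R := fun g => hMR (hMw g)
  let N₀ : Subgroup G :=
    { carrier := {y | y ∈ R ∨ y * w ∈ R}
      one_mem' := Or.inl (one_mem R)
      mul_mem' := by
        rintro a b (ha | ha) (hb | hb)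
        · exact Or.inl (mul_mem ha hb)
        · exact Or.inr (by rw [mul_assoc]; exact mul_mem ha hb)
        · refine Or.inr ?_
          have e : a * b * w = (a * w) * (w⁻¹ * b * w⁻¹⁻¹) := by group
          rw [e]
          exact mul_mem ha (hRn.conj_mem b hb w⁻¹)
        · refine Or.inl ?_
          have e : a * b = (a * w) * (w⁻¹ * (b * w) * w⁻¹⁻¹) * (w * w)⁻¹ := by group
          rw [e, hw2, inv_one, mul_one]
          exact mul_mem ha (hRn.conj_mem _ hb w⁻¹)
      inv_mem' := by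
        rintro a (ha | ha)
        · exact Or.inl (inv_mem ha)
        · refine Or.inr ?_
          have e : a⁻¹ * w = w * (a * w)⁻¹ * w⁻¹ * (w * w) := by group
          rw [e, hw2, mul_one]
          exact hRn.conj_mem _ (inv_mem ha) w }
  haveI hN₀ : N₀.Normal := by
    refine ⟨fun y hy g => ?_⟩
    rcases hy with hy | hy
    · exact Or.inl (hRn.conj_mem y hy g)
    · refine Or.inr ?_
      have e : g * y * g⁻¹ * w = (g * (y * w) * g⁻¹) * (g * (w⁻¹ * g⁻¹ * w⁻¹⁻¹ * g⁻¹⁻¹) * g⁻¹) := by group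
      rw [e]
      exact mul_mem (hRn.conj_mem _ hy g) (hRn.conj_mem _ (hMR (by
        have h1 := hMw g⁻¹
        simp only [inv_inv, inv_of_orderOf_two hwo] at h1 ⊢
        exact h1)) g)
  let ψ : K →* G ⧸ N₀ := (QuotientGroup.mk' N₀).comp K.subtype
  have hψ : Function.Surjective ψ := by
    intro q
    obtain ⟨g, rfl⟩ := QuotientGroup.mk_surjective q
    rcases hsplit g with hg | hg
    · exact ⟨⟨g, hg⟩, rfl⟩
    · refine ⟨⟨g * w, hg⟩, QuotientGroup.eq.2 (Or.inr ?_)⟩
      show (g * w)⁻¹ * g * w ∈ R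
      rw [show (g * w)⁻¹ * g * w = 1 by group]
      exact one_mem R
  have hψk : ψ.ker = φ.ker := by
    ext z
    rw [MonoidHom.mem_ker]
    show ((z : G) : G ⧸ N₀) = 1 ↔ _
    rw [QuotientGroup.eq_one_iff]
    constructor
    · rintro (hz | hz)
      · obtain ⟨z', hz', e⟩ := hz
        exact (Subtype.ext e : z' = z) ▸ hz'
      · exact absurd (by simpa using mul_mem (inv_mem z.2) (hRK hz)) hwK
    · exact fun hz => Or.inl ⟨z, hz, rfl⟩
  have hiso : G ⧸ N₀ ≃* Matrix.ProjectiveSpecialLinearGroup (Fin 2) F :=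
    (QuotientGroup.quotientKerEquivOfSurjective ψ hψ).symm.trans
      ((QuotientGroup.quotientMulEquivOfEq hψk).trans (QuotientGroup.quotientKerEquivOfSurjective φ hφ))
  refine ⟨N₀, hN₀, Or.inr ⟨Nat.card φ.ker, hodd, ?_⟩, F, iF, iF', ?_, Or.inl ⟨hiso⟩⟩
  · have h1 := N₀.card_mul_index
    have h2 := φ.ker.card_mul_index
    have h3 := K.card_mul_index
    rw [hKi] at h3
    have hi : N₀.index = φ.ker.index := by
      rw [Subgroup.index_eq_card, Subgroup.index_eq_card, Nat.card_congr hiso.toEquiv,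
        Nat.card_congr (QuotientGroup.quotientKerEquivOfSurjective φ hφ).toEquiv]
    rw [hi, ← h3, ← h2] at h1
    have hpos : 0 < φ.ker.index := Nat.pos_of_ne_zero Subgroup.index_ne_zero_of_finite
    refine Nat.eq_of_mul_eq_mul_right hpos ?_
    rw [h1]; ring
  · rw [hF]
    have := Nat.pow_le_pow_right two_pos hf
    omega

end CfsgLib.DGroup
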