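import Cfsg.Agent.Lib.DGroup.Defs
import Cfsg.Agent.Lib.ThreeOrders.Odd
import Cfsg.Agent.Lib.CyclicNorm.Abelian
import Cfsg.Agent.Lib.PSolvable.Constrained
import Cfsg.Agent.S0514
import Cfsg.Agent.S3864
import Cfsg.Agent.S0205

/-!
# Transport of dihedral centraliser data, classes of involutions and cores
-/

set_option autoImplicit false
set_option linter.unusedSectionVars false
set_option linter.style.haveILetI false

namespace CfsgLib.DGroup

open Cfsg CfsgLib.Invol

variable {G : Type*} [Group G]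

theorem DihData.conj {v : G} {A : Subgroup G} {x : G} (d : DihData v A x) (g : G) :
    DihData (g * v * g⁻¹) (A.map (MulAut.conj g).toMonoidHom) (g * x * g⁻¹) := by
  have hC : ∀ {h : G}, h ∈ Subgroup.centralizer ({g * v * g⁻¹} : Set G) →
      g⁻¹ * h * g ∈ Subgroup.centralizer ({v} : Set G) := fun {h} hh => by
    rw [Subgroup.mem_centralizer_singleton_iff] at hh ⊢
    calc g⁻¹ * h * g * v = g⁻¹ * (h * (g * v * g⁻¹)) * g := by group
      _ = g⁻¹ * (g * v * g⁻¹ * h) * g := by rw [hh]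
      _ = v * (g⁻¹ * h * g) := by group
  have hC' : ∀ {h : G}, h ∈ Subgroup.centralizer ({v} : Set G) →
      g * h * g⁻¹ ∈ Subgroup.centralizer ({g * v * g⁻¹} : Set G) := fun {h} hh => by
    rw [Subgroup.mem_centralizer_singleton_iff] at hh ⊢
    calc g * h * g⁻¹ * (g * v * g⁻¹) = g * (h * v) * g⁻¹ := by group
      _ = g * (v * h) * g⁻¹ := by rw [hh]
      _ = g * v * g⁻¹ * (g * h * g⁻¹) := by group
  have hmem : ∀ {h : G}, g⁻¹ * h * g ∈ A → h ∈ A.map (MulAut.conj g).toMonoidHom :=
    fun {h} hh => ⟨_, hh, by simp [mul_assoc]⟩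
  refine ⟨⟨v, d.mem, rfl⟩, ?_, ?_, hC' d.xmem, ?_, ?_, ?_, ?_, ?_⟩
  · rintro _ ⟨a, ha, rfl⟩
    simpa using hC' (d.le ha)
  · rintro _ ⟨a, ha, rfl⟩ _ ⟨b, hb, rfl⟩
    rw [← map_mul, ← map_mul, d.comm a ha b hb]
  · rintro ⟨a, ha, e⟩
    have : a = x := by
      simpa [mul_assoc] using congrArg (fun y => g⁻¹ * y * g) e
    exact d.xnot (this ▸ ha)
  · rw [show g * x * g⁻¹ * (g * x * g⁻¹) = g * (x * x) * g⁻¹ by group, d.xsq]; group
  · rintro _ ⟨a, ha, rfl⟩
    simp only [MulEquiv.coe_toMonoidHom, MulAut.conj_apply]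
    rw [show g * x * g⁻¹ * (g * a * g⁻¹) * (g * x * g⁻¹)⁻¹ = g * (x * a * x⁻¹) * g⁻¹ by group,
      d.inv a ha]
    group
  · intro h hh
    rcases d.cases _ (hC hh) with h1 | h1
    · exact Or.inl (hmem h1)
    · refine Or.inr (hmem ?_)
      rwa [show g⁻¹ * (g * x * g⁻¹ * h) * g = x * (g⁻¹ * h * g) by group]
  · rintro _ ⟨a, ha, rfl⟩ hs
    simp only [MulEquiv.coe_toMonoidHom, MulAut.conj_apply] at hs ⊢
    have : a * a = 1 := by
      have := congrArg (fun y => g⁻¹ * y * g) hs
      simpa [mul_assoc] using this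
    rcases d.uniq a ha this with rfl | rfl
    · exact Or.inl (by group)
    · exact Or.inr rfl

/-- Data for representatives of all involution classes give data everywhere. -/
theorem dihCent_of_reps (h : ∀ v : G, orderOf v = 2 → ∃ (u : G) (A : Subgroup G) (x : G),
    IsConj u v ∧ DihData u A x) : DihCent G := fun v hv => by
  obtain ⟨u, A, x, hc, d⟩ := h v hv
  obtain ⟨g, rfl⟩ := isConj_iff.1 hc
  exact ⟨_, _, d.conj g⟩

/-- A reflection outside `A` may replace `x`. -/
theorem DihData.mul_mem_of_outside {v : G} {A : Subgroup G} {x : G} (d : DihData v A x) {w h : G}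
    (hw : Commute w v) (hwA : w ∉ A) (hh : Commute h v) (hhA : h ∉ A) : w * h ∈ A := by
  have hxw : x * w ∈ A := (d.cases w (Subgroup.mem_centralizer_singleton_iff.2 hw)).resolve_left hwA
  have hxh : x * h ∈ A := (d.cases h (Subgroup.mem_centralizer_singleton_iff.2 hh)).resolve_left hhA
  have hw2 : w⁻¹ = w := inv_eq_of_mul_eq_one_right (d.sq_outside hw hwA)
  have := mul_mem (inv_mem hxw) hxh
  rwa [mul_inv_rev, mul_assoc, inv_mul_cancel_left, hw2] at this

theorem DihData.not_mem_of_invol {v : G} {A : Subgroup G} {x : G} (d : DihData v A x) {w : G}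
    (hw : orderOf w = 2) (hne : w ≠ v) : w ∉ A := fun h => by
  rcases d.uniq w h (mul_self_of_orderOf_two hw) with e | e
  · exact ne_one_of_orderOf_two hw e
  · exact hne e

/-- The data pass to a subgroup containing `v` and a further involution of its centraliser. -/
theorem DihData.restrict {v : G} {A : Subgroup G} {x : G} (d : DihData v A x) (K : Subgroup G)
    (hv : v ∈ K) {w : G} (hwK : w ∈ K) (hw : orderOf w = 2) (hne : w ≠ v) (hwv : Commute w v) :
    DihData (⟨v, hv⟩ : K) (A.subgroupOf K) (⟨w, hwK⟩ : K) := by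
  have hwA := d.not_mem_of_invol hw hne
  have hC : ∀ {h : K}, h ∈ Subgroup.centralizer ({(⟨v, hv⟩ : K)} : Set K) → Commute (h : G) v :=
    fun {h} hh => congrArg Subtype.val (Subgroup.mem_centralizer_singleton_iff.1 hh)
  refine ⟨d.mem, fun a ha => ?_, fun a ha b hb => Subtype.ext (d.comm _ ha _ hb), ?_, hwA,
    Subtype.ext (mul_self_of_orderOf_two hw), fun a ha => Subtype.ext (d.inv_outside hwv hwA ha), ?_, ?_⟩
  · exact Subgroup.mem_centralizer_singleton_iff.2 (Subtype.ext (d.commute ha).eq)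
  · exact Subgroup.mem_centralizer_singleton_iff.2 (Subtype.ext hwv.eq)
  · intro h hh
    by_cases hhA : (h : G) ∈ A
    · exact Or.inl hhA
    · exact Or.inr (d.mul_mem_of_outside hwv hwA (hC hh) hhA)
  · intro a ha h2
    rcases d.uniq _ ha (congrArg Subtype.val h2) with e | e
    · exact Or.inl (Subtype.ext e)
    · exact Or.inr (Subtype.ext e)

variable [Finite G]

theorem eq_bot_of_odd_normal (hcore : oddCore G = ⊥) (N : Subgroup G) [hN : N.Normal]
    (ho : Odd (Nat.card N)) : N = ⊥ :=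
  le_bot_iff.1 (hcore ▸ Transfer.le_pPrimeCore hN (Nat.coprime_two_right.2 ho))

theorem oddCore_normal_eq_bot (hcore : oddCore G = ⊥) (N : Subgroup G) [N.Normal] :
    oddCore ↥N = ⊥ := by
  haveI : (oddCore ↥N).Characteristic := PSolvable.pPrimeCore_characteristic 2
  haveI : ((oddCore ↥N).map N.subtype).Normal := ConjAct.normal_of_characteristic_of_normal
  have h := eq_bot_of_odd_normal hcore ((oddCore ↥N).map N.subtype) (by
    rw [Subgroup.card_map_of_injective N.subtype_injective]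
    exact Nat.coprime_two_right.1 (Transfer.pPrimeCore_coprime 2))
  exact (Subgroup.map_eq_bot_iff_of_injective _ N.subtype_injective).1 h

theorem solvable_of_hasNormalComplement (h : HasNormalPComplement 2 G) : Group.IsSolvable G := by
  haveI := Fact.mk Nat.prime_two
  obtain ⟨P, N, hN, hc⟩ := h
  haveI := hN
  exact ThreeOrders.solvable_of_complement rfl hc

/-- An odd element lies in a normal subgroup of 2-power index. -/
theorem odd_mem_of_index_two_pow {N : Subgroup G} [N.Normal] {k : ℕ} (hk : N.index = 2 ^ k) {y : G}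
    (ho : Odd (orderOf y)) : y ∈ N := by
  rw [← QuotientGroup.eq_one_iff, ← orderOf_eq_one_iff]
  refine Nat.eq_one_of_dvd_coprimes (Nat.coprime_pow_left_iff ?_ 2 _ |>.2
    (Nat.coprime_two_left.mpr ho) : (2 ^ (k + 1)).Coprime (orderOf y)) ?_
    (orderOf_map_dvd (QuotientGroup.mk' N) y)
  · omega
  · refine dvd_trans ?_ (pow_dvd_pow 2 (Nat.le_succ k))
    rw [← hk, Subgroup.index_eq_card]
    exact orderOf_dvd_natCard _

/-- A group with a Klein four or dihedral Sylow subgroup, not solvable: one class, or an index two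
normal subgroup and none of index four. -/
theorem classes_of_dihedral (hns : ¬ Group.IsSolvable G) (S : Sylow 2 G) {k : ℕ} (hk : 2 ≤ k)
    (eS : Nonempty ((S : Subgroup G) ≃* DihedralGroup (2 ^ k))) :
    (∀ s t : G, orderOf s = 2 → orderOf t = 2 → IsConj s t) ∨
      ((∀ s t u : G, orderOf s = 2 → orderOf t = 2 → orderOf u = 2 →
        IsConj s t ∨ IsConj s u ∨ IsConj t u) ∧ (∃ N : Subgroup G, N.Normal ∧ N.index = 2) ∧
          ∀ N : Subgroup G, N.Normal → N.index ≠ 4) := by
  classical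
  letI := Fintype.ofFinite G
  set α := {C : ConjClasses G // ∃ g : G, ConjClasses.mk g = C ∧ orderOf g = 2} with hα
  let mk : {g : G // orderOf g = 2} → α := fun g => ⟨ConjClasses.mk (g : G), g, rfl, g.2⟩
  have hmk : ∀ a b, mk a = mk b → IsConj (a : G) b := fun a b e =>
    ConjClasses.mk_eq_mk_iff_isConj.1 (congrArg Subtype.val e)
  rcases Cfsg.Agent.S3864.result S (k + 1) (by omega) (by simpa using eS) with
    ⟨h1, -⟩ | ⟨h2, hN, h4⟩ | ⟨-, h3⟩
  · haveI := (Nat.card_eq_one_iff_unique.1 h1).1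
    exact Or.inl fun s t hs ht => hmk ⟨s, hs⟩ ⟨t, ht⟩ (Subsingleton.elim _ _)
  · refine Or.inr ⟨fun s t u hs ht hu => ?_, hN, h4⟩
    by_contra h
    push Not at h
    obtain ⟨n1, n2, n3⟩ := h
    have h3 : ({mk ⟨s, hs⟩, mk ⟨t, ht⟩, mk ⟨u, hu⟩} : Finset α).card = 3 :=
      Finset.card_eq_three.2 ⟨_, _, _, fun e => n1 (hmk _ _ e), fun e => n2 (hmk _ _ e),
        fun e => n3 (hmk _ _ e), rfl⟩
    have := Finset.card_le_univ ({mk ⟨s, hs⟩, mk ⟨t, ht⟩, mk ⟨u, hu⟩} : Finset α)
    rw [h3, ← Nat.card_eq_fintype_card, h2] at this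
    omega
  · exact absurd (solvable_of_hasNormalComplement h3) hns

end CfsgLib.DGroup
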