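import Cfsg.Agent.Lib.DGroup.Basic
import Cfsg.Agent.S0213

/-!
# The order of a group with an outer class of involutions
-/

set_option autoImplicit false
set_option linter.unusedSectionVars false
set_option linter.style.haveILetI false

namespace CfsgLib.DGroup

open Cfsg CfsgLib.Invol

variable {G : Type*} [Group G] [Finite G]

/-- A subgroup whose complement is one coset has index two. -/
theorem card_two_coset {H K : Subgroup G} (hle : K ≤ H) {x : G} (hx : x ∈ H) (hxn : x ∉ K)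
    (hcases : ∀ h ∈ H, h ∈ K ∨ x * h ∈ K) : Nat.card H = 2 * Nat.card K := by
  let f : Bool × K → H := fun p =>
    if p.1 then ⟨x⁻¹ * (p.2 : G), mul_mem (inv_mem hx) (hle p.2.2)⟩ else ⟨p.2, hle p.2.2⟩
  have hf : Function.Bijective f := by
    constructor
    · rintro ⟨b, a⟩ ⟨b', a'⟩ e
      have e' := congrArg Subtype.val e
      cases b <;> cases b' <;> simp [f] at e'
      · rw [e']
      · exact absurd (show x ∈ K from (show x = (a' : G) * (a : G)⁻¹ by rw [e']; group) ▸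
          mul_mem a'.2 (inv_mem a.2)) hxn
      · exact absurd (show x ∈ K from (show x = (a : G) * (a' : G)⁻¹ by rw [← e']; group) ▸
          mul_mem a.2 (inv_mem a'.2)) hxn
      · rw [e']
    · rintro ⟨h, hh⟩
      rcases hcases h hh with hk | hk
      · exact ⟨(false, ⟨h, hk⟩), Subtype.ext rfl⟩
      · exact ⟨(true, ⟨_, hk⟩), Subtype.ext (by simp [f])⟩
  rw [← Nat.card_congr (Equiv.ofBijective f hf), Nat.card_prod]
  simp

/-- A subgroup of index two: products of two outside elements are inside. -/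
theorem mem_or_mul_mem {G₀ : Subgroup G} (h2 : G₀.index = 2) {x : G} (hx : x ∉ G₀) (h : G) :
    h ∈ G₀ ∨ x * h ∈ G₀ := by
  by_cases hh : h ∈ G₀
  · exact Or.inl hh
  · exact Or.inr ((Subgroup.mul_mem_iff_of_index_two h2).2 (iff_of_false hx hh))

/-- The centraliser of `v` has four times as many elements as the inner part of `A`. -/
theorem DihData.card_eq_four_mul {G₀ : Subgroup G} (h2 : G₀.index = 2) {v : G} {A : Subgroup G}
    {x : G} (d : DihData v A x) {k₀ k₁ : G} (h0 : k₀ ∈ G₀) (h0v : Commute k₀ v) (h0A : k₀ ∉ A)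
    (h1 : k₁ ∉ G₀) (h1v : Commute k₁ v) (h1A : k₁ ∉ A) :
    Nat.card (Subgroup.centralizer ({v} : Set G)) = 4 * Nat.card ↥(A ⊓ G₀) := by
  have hy : k₀ * k₁ ∈ A := d.mul_mem_of_outside h0v h0A h1v h1A
  have hyn : k₀ * k₁ ∉ G₀ := fun e => h1 ((G₀.mul_mem_cancel_left h0).1 e)
  rw [card_two_coset d.le d.xmem d.xnot d.cases,
    card_two_coset (K := A ⊓ G₀) inf_le_left hy (fun e => hyn e.2) fun a ha =>
      (mem_or_mul_mem h2 hyn a).imp (fun e => ⟨ha, e⟩) fun e => ⟨mul_mem hy ha, e⟩]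
  omega

/-- The pairs counted by Thompson's order formula at `v`. -/
theorem DihData.card_pairs {G₀ : Subgroup G} (h2 : G₀.index = 2) {v : G} {A : Subgroup G}
    {x : G} (d : DihData v A x) (hv : orderOf v = 2) {k₀ k₁ : G} (h0 : k₀ ∈ G₀)
    (h0v : Commute k₀ v) (h0A : k₀ ∉ A) (h1 : k₁ ∉ G₀) (h1v : Commute k₁ v) (h1A : k₁ ∉ A) :
    16 * Nat.card {p : G × G // (orderOf p.1 = 2 ∧ p.1 ∈ G₀) ∧ (orderOf p.2 = 2 ∧ p.2 ∉ G₀) ∧
      v ∈ Subgroup.zpowers (p.1 * p.2)} =
      Nat.card (Subgroup.centralizer ({v} : Set G)) * Nat.card (Subgroup.centralizer ({v} : Set G)) := by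
  rw [d.card_eq_four_mul h2 h0 h0v h0A h1 h1v h1A]
  have hN : G₀.Normal := Subgroup.normal_of_index_eq_two h2
  have hv1 := ne_one_of_orderOf_two hv
  have hcomm : ∀ {u w : G}, orderOf u = 2 → orderOf w = 2 → v ∈ Subgroup.zpowers (u * w) →
      Commute u v ∧ Commute w v := by
    intro u w hu hw hvz
    obtain ⟨i, hi⟩ := hvz
    simp only at hi
    have e1 : u * v * u⁻¹ = v := by
      rw [← hi, ← conj_zpow, conj_prod hu hw, inv_zpow, hi, inv_of_orderOf_two hv]
    have hcu : Commute u v := mul_inv_eq_iff_eq_mul.1 e1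
    have hcp : Commute (u * w) v := hi ▸ (Commute.refl (u * w)).zpow_right i
    refine ⟨hcu, ?_⟩
    have h := hcu.mul_left hcp
    rwa [← mul_assoc, mul_self_of_orderOf_two hu, one_mul] at h
  -- a member in `A` would be `v`, and then the product has order two
  have hnot : ∀ {u w : G}, orderOf u = 2 → orderOf w = 2 → u ≠ w → Commute u w →
      v ∈ Subgroup.zpowers (u * w) → v ≠ u ∧ v ≠ w := by
    intro u w hu hw huw hc hvz
    have hs : (u * w) * (u * w) = 1 := by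
      rw [hc.symm.mul_mul_mul_comm, mul_self_of_orderOf_two hu, mul_self_of_orderOf_two hw, one_mul]
    have hve : v = u * w := by
      rcases Subgroup.mem_zpowers_iff.1 hvz with ⟨i, hi⟩
      rcases Int.even_or_odd' i with ⟨j, rfl | rfl⟩
      · rw [zpow_mul, zpow_two, hs, one_zpow] at hi
        exact absurd hi.symm hv1
      · rw [zpow_add, zpow_one, zpow_mul, zpow_two, hs, one_zpow, one_mul] at hi
        exact hi.symm
    exact ⟨fun e => ne_one_of_orderOf_two hw (mul_eq_left.mp (hve.symm.trans e)),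
      fun e => ne_one_of_orderOf_two hu (mul_eq_right.mp (hve.symm.trans e))⟩
  have hP : ∀ {u w : G}, orderOf u = 2 → u ∈ G₀ → orderOf w = 2 → w ∉ G₀ →
      v ∈ Subgroup.zpowers (u * w) → k₀ * u ∈ A ⊓ G₀ ∧ k₁ * w ∈ A ⊓ G₀ := by
    intro u w hu hu0 hw hw0 hvz
    obtain ⟨hcu, hcw⟩ := hcomm hu hw hvz
    have hne : u ≠ w := fun e => hw0 (e ▸ hu0)
    have huA : u ∉ A := fun hA => by
      rcases d.uniq u hA (mul_self_of_orderOf_two hu) with e | e
      · exact ne_one_of_orderOf_two hu e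
      · exact (hnot hu hw hne (e ▸ hcw.symm) hvz).1 e.symm
    have hwA : w ∉ A := fun hA => by
      rcases d.uniq w hA (mul_self_of_orderOf_two hw) with e | e
      · exact ne_one_of_orderOf_two hw e
      · exact (hnot hu hw hne (e ▸ hcu) hvz).2 e.symm
    exact ⟨⟨d.mul_mem_of_outside h0v h0A hcu huA, mul_mem h0 hu0⟩,
      ⟨d.mul_mem_of_outside h1v h1A hcw hwA, (Subgroup.mul_mem_iff_of_index_two h2).2 (iff_of_false h1 hw0)⟩⟩
  have hk0 : k₀ * k₀ = 1 := d.sq_outside h0v h0A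
  have hk1 : k₁ * k₁ = 1 := d.sq_outside h1v h1A
  have hrefl : ∀ {k a : G}, Commute k v → k ∉ A → a ∈ A →
      Commute (k * a) v ∧ k * a ∉ A ∧ orderOf (k * a) = 2 := by
    intro k a hkv hkA ha
    have hA : k * a ∉ A := fun e => hkA ((A.mul_mem_cancel_right ha).1 e)
    have hc := hkv.mul_left (d.commute ha)
    exact ⟨hc, hA, orderOf_two_of_mul_self (d.sq_outside hc hA) fun e => hA (e ▸ one_mem A)⟩
  let e : {p : G × G // (orderOf p.1 = 2 ∧ p.1 ∈ G₀) ∧ (orderOf p.2 = 2 ∧ p.2 ∉ G₀) ∧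
      v ∈ Subgroup.zpowers (p.1 * p.2)} ≃ ↥(A ⊓ G₀) × ↥(A ⊓ G₀) :=
    { toFun := fun p => (⟨k₀ * p.1.1, (hP p.2.1.1 p.2.1.2 p.2.2.1.1 p.2.2.1.2 p.2.2.2).1⟩,
        ⟨k₁ * p.1.2, (hP p.2.1.1 p.2.1.2 p.2.2.1.1 p.2.2.1.2 p.2.2.2).2⟩)
      invFun := fun q => ⟨(k₀ * q.1, k₁ * q.2), by
        obtain ⟨hu, huA, hu2⟩ := hrefl h0v h0A q.1.2.1
        obtain ⟨hw, hwA, hw2⟩ := hrefl h1v h1A q.2.2.1
        have hu0 : k₀ * (q.1 : G) ∈ G₀ := mul_mem h0 q.1.2.2
        have hw0 : k₁ * (q.2 : G) ∉ G₀ := fun e => h1 ((G₀.mul_mem_cancel_right q.2.2.2).1 e)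
        refine ⟨⟨hu2, hu0⟩, ⟨hw2, hw0⟩, ?_⟩
        set p := k₀ * (q.1 : G) * (k₁ * (q.2 : G)) with hp
        have hpA : p ∈ A := d.mul_mem_of_outside hu huA hw hwA
        have hp0 : p ∉ G₀ := fun e => hw0 ((G₀.mul_mem_cancel_left hu0).1 e)
        have hev : Even (orderOf p) := by
          by_contra ho
          exact hp0 (CyclicNorm.odd_mem_of_index_two h2 (Nat.not_even_iff_odd.1 ho))
        obtain ⟨r, hr⟩ := hev
        have hpos := orderOf_pos p
        have hne : p ^ r ≠ 1 := pow_ne_one_of_lt_orderOf (by omega) (by omega)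
        rcases d.uniq (p ^ r) (pow_mem hpA r) (by rw [← pow_add, ← hr, pow_orderOf_eq_one]) with e | e
        · exact absurd e hne
        · exact ⟨r, by simpa using e⟩⟩
      left_inv := fun p => Subtype.ext (Prod.ext (by simp [← mul_assoc, hk0])
        (by simp [← mul_assoc, hk1]))
      right_inv := fun q => Prod.ext (Subtype.ext (by simp [← mul_assoc, hk0]))
        (Subtype.ext (by simp [← mul_assoc, hk1])) }
  rw [Nat.card_congr e, Nat.card_prod]
  ring

variable {G₀ : Subgroup G}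

theorem TwoClass.isConj_inner (h : TwoClass G G₀) {s t : G} (hs : orderOf s = 2) (ht : orderOf t = 2)
    (hs0 : s ∈ G₀) (ht0 : t ∈ G₀) : IsConj s t := by
  obtain ⟨g, hg⟩ := isConj_iff.1 (h.one.one ⟨s, hs0⟩ ⟨t, ht0⟩
    (by rwa [← Subgroup.orderOf_coe]) (by rwa [← Subgroup.orderOf_coe]))
  exact isConj_iff.2 ⟨g, congrArg Subtype.val hg⟩

/-- The order of a group with an outer class of involutions. -/
theorem TwoClass.card_eq (h : TwoClass G G₀) {z j : G} (hz : orderOf z = 2) (hj : orderOf j = 2)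
    (hz0 : z ∈ G₀) (hj0 : j ∉ G₀) (hc : Commute j z) :
    16 * Nat.card G = Nat.card (Subgroup.centralizer ({z} : Set G)) *
      Nat.card (Subgroup.centralizer ({j} : Set G)) *
      (Nat.card (Subgroup.centralizer ({z} : Set G)) + Nat.card (Subgroup.centralizer ({j} : Set G))) := by
  have hN : G₀.Normal := Subgroup.normal_of_index_eq_two h.index
  have hcl0 : ∀ u : G, IsConj z u ↔ orderOf u = 2 ∧ u ∈ G₀ := fun u => ⟨fun e => by
      obtain ⟨g, rfl⟩ := isConj_iff.1 e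
      exact ⟨conj_orderOf_two hz g, hN.conj_mem z hz0 g⟩,
    fun e => h.isConj_inner hz e.1 hz0 e.2⟩
  have hcl1 : ∀ u : G, IsConj j u ↔ orderOf u = 2 ∧ u ∉ G₀ := fun u => ⟨fun e => by
      obtain ⟨g, rfl⟩ := isConj_iff.1 e
      refine ⟨conj_orderOf_two hj g, fun e' => hj0 ?_⟩
      simpa [mul_assoc] using hN.conj_mem _ e' g⁻¹,
    fun e => h.outer_conj j u hj e.1 hj0 e.2⟩
  have hnc : ¬ IsConj z j := fun e => hj0 ((hcl0 j).1 e).2
  have key := Cfsg.Agent.S0213.result z j hz hj hnc fun t ht => by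
    by_cases ht0 : t ∈ G₀
    · exact Or.inl ((hcl0 t).2 ⟨ht, ht0⟩)
    · exact Or.inr ((hcl1 t).2 ⟨ht, ht0⟩)
  simp only [hcl0, hcl1] at key
  obtain ⟨Az, xz, dz⟩ := h.cent z hz
  obtain ⟨Aj, xj, dj⟩ := h.cent j hj
  have hzA : z ∉ Aj := dj.not_mem_of_invol hz fun e => hj0 (e ▸ hz0)
  have hjA : j ∉ Az := dz.not_mem_of_invol hj fun e => hj0 (e.symm ▸ hz0)
  obtain ⟨w, hw, hwne, hwc⟩ := h.one.cent.exists_partner (v := (⟨z, hz0⟩ : G₀))
    (by rwa [← Subgroup.orderOf_coe])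
  have e1 := dz.card_pairs h.index hz w.2 (congrArg Subtype.val hwc)
    (dz.not_mem_of_invol (by rwa [Subgroup.orderOf_coe]) fun e => hwne (Subtype.ext e)) hj0 hc hjA
  have hjz0 : j * z ∉ G₀ := fun e => hj0 ((G₀.mul_mem_cancel_right hz0).1 e)
  have e2 := dj.card_pairs h.index hj hz0 hc.symm hzA hjz0 ((Commute.refl j).mul_left hc.symm)
    fun e => hzA ((Aj.mul_mem_cancel_left dj.mem).1 e)
  rw [key, mul_add, mul_left_comm, e1, mul_left_comm 16 (Nat.card _), e2]
  ring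

end CfsgLib.DGroup
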