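import Cfsg.Agent.Lib.DGroup.Defs

/-!
# Three involutions of a four group permuted cyclically

In a group with generalised dihedral involution centralisers, two commuting conjugate involutions
`z`, `k` whose product is conjugate to them are permuted cyclically with it.
-/

set_option autoImplicit false

namespace CfsgLib.DGroup

open Cfsg CfsgLib.Invol

variable {G : Type*} [Group G]

/-- A square root of `k` conjugates an involution commuting with `k` to its product with `k`. -/
theorem DihCent.conj_of_sqrt (hG : DihCent G) {k w b : G} (hk : orderOf k = 2) (hw : orderOf w = 2)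
    (hne : w ≠ k) (hwk : Commute w k) (hb : b * b = k) :
    b * w * b⁻¹ = w * k ∧ b * k * b⁻¹ = k := by
  have hbk : Commute b k := hb ▸ (Commute.refl b).mul_right (Commute.refl b)
  refine ⟨?_, by rw [hbk.eq, mul_inv_cancel_right]⟩
  obtain ⟨A, x, d⟩ := hG k hk
  have hbA : b ∈ A := by
    by_contra h
    exact ne_one_of_orderOf_two hk (hb ▸ d.sq_outside hbk h)
  have hwA : w ∉ A := fun h => by
    rcases d.uniq w h (mul_self_of_orderOf_two hw) with e | e
    · exact ne_one_of_orderOf_two hw e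
    · exact hne e
  have e := d.inv_outside hwk hwA hbA
  have hb4 : b⁻¹ * b⁻¹ = k := by rw [← mul_inv_rev, hb, inv_of_orderOf_two hk]
  rw [mul_inv_eq_iff_eq_mul] at e
  have e2 : b * w = w * b⁻¹ := by
    calc b * w = b * (w * b) * b⁻¹ := by group
      _ = b * (b⁻¹ * w) * b⁻¹ := by rw [e]
      _ = w * b⁻¹ := by group
  rw [e2, mul_assoc, hb4]

/-- The product of two elements of the centraliser outside `A` lies in `A`. -/
theorem DihData.mul_mem_outside {v : G} {A : Subgroup G} {x : G} (d : DihData v A x) {r w : G}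
    (hr : Commute r v) (hrA : r ∉ A) (hw : Commute w v) (hwA : w ∉ A) : r * w ∈ A := by
  have hwx : x * w ∈ A :=
    (d.cases w (Subgroup.mem_centralizer_singleton_iff.2 hw)).resolve_left hwA
  have hrx : x * r ∈ A :=
    (d.cases r (Subgroup.mem_centralizer_singleton_iff.2 hr)).resolve_left hrA
  have e := d.inv_outside hr hrA hrx
  rw [show r * (x * r) * r⁻¹ = r * x by group] at e
  have := mul_mem (e ▸ inv_mem hrx : r * x ∈ A) hwx
  rwa [show r * x * (x * w) = r * (x * x) * w by group, d.xsq, mul_one] at this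

variable [Finite G]

/-- Without a square root of `k`, every element of the rotation group is odd up to `k`. -/
theorem DihData.odd_or_mul {k : G} {A : Subgroup G} {x : G} (d : DihData k A x) (hk : orderOf k = 2)
    (hno : ∀ a : G, a * a ≠ k) {h : G} (hh : h ∈ A) :
    Odd (orderOf h) ∨ Odd (orderOf (h * k)) := by
  rcases Nat.even_or_odd (orderOf h) with hev | hodd
  swap
  · exact Or.inl hodd
  right
  obtain ⟨j, hj⟩ := hev
  have hpos := orderOf_pos h
  have hsq : h ^ j * h ^ j = 1 := by rw [← pow_add, ← hj, pow_orderOf_eq_one]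
  have hne : h ^ j ≠ 1 := fun e => by
    have := Nat.le_of_dvd (by omega) (orderOf_dvd_of_pow_eq_one e)
    omega
  have hjk : h ^ j = k := (d.uniq _ (pow_mem hh j) hsq).resolve_left hne
  have hjodd : Odd j := by
    rw [← Nat.not_even_iff_odd]
    rintro ⟨i, hi⟩
    exact hno (h ^ i) (by rw [← pow_add, ← hi, hjk])
  refine hjodd.of_dvd_nat (orderOf_dvd_of_pow_eq_one ?_)
  rw [(d.commute hh).mul_pow, hjk]
  obtain ⟨i, hi⟩ := hjodd
  rw [hi, pow_succ, pow_mul, pow_two, mul_self_of_orderOf_two hk, one_pow, one_mul,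
    mul_self_of_orderOf_two hk]

/-- **Cyclic fusion.** -/
theorem exists_cyc (hG : DihCent G) {z k : G} (hz : orderOf z = 2) (hk : orderOf k = 2) (hne : k ≠ z)
    (hc : Commute k z) (hconj : IsConj z k) (hconj2 : IsConj z (z * k)) :
    ∃ n, Cyc z k n := by
  obtain ⟨g, hg⟩ := isConj_iff.1 hconj
  have hzz := mul_self_of_orderOf_two hz
  have hkk := mul_self_of_orderOf_two hk
  by_cases hroot : ∃ a : G, a * a = z
  · obtain ⟨a, ha⟩ := hroot
    obtain ⟨ha1, ha2⟩ := hG.conj_of_sqrt hz hk hne hc ha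
    have hb : g * a * g⁻¹ * (g * a * g⁻¹) = k := by
      rw [show g * a * g⁻¹ * (g * a * g⁻¹) = g * (a * a) * g⁻¹ by group, ha, hg]
    obtain ⟨hb1, hb2⟩ := hG.conj_of_sqrt hk hz hne.symm hc.symm hb
    refine ⟨a * (g * a * g⁻¹), ?_, ?_⟩
    · calc a * (g * a * g⁻¹) * z * (a * (g * a * g⁻¹))⁻¹
          = a * ((g * a * g⁻¹) * z * (g * a * g⁻¹)⁻¹) * a⁻¹ := by group
        _ = a * (z * k) * a⁻¹ := by rw [hb1]
        _ = (a * z * a⁻¹) * (a * k * a⁻¹) := by group
        _ = k := by rw [ha1, ha2, ← mul_assoc, ← hc.eq, mul_assoc, hzz, mul_one]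
    · calc a * (g * a * g⁻¹) * k * (a * (g * a * g⁻¹))⁻¹
          = a * ((g * a * g⁻¹) * k * (g * a * g⁻¹)⁻¹) * a⁻¹ := by group
        _ = a * k * a⁻¹ := by rw [hb2]
        _ = z * k := by rw [ha1, hc.eq]
  push Not at hroot
  have hnok : ∀ a : G, a * a ≠ k := fun a ha => hroot (g⁻¹ * a * g) (by
    rw [show g⁻¹ * a * g * (g⁻¹ * a * g) = g⁻¹ * (a * a) * g by group, ha, ← hg]
    group)
  obtain ⟨A, x, d⟩ := hG k hk
  have hAout : ∀ r : G, orderOf r = 2 → r ≠ k → r ∉ A := fun r hr hrk h => by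
    rcases d.uniq r h (mul_self_of_orderOf_two hr) with e | e
    · exact ne_one_of_orderOf_two hr e
    · exact hrk e
  set w := g * k * g⁻¹ with hw
  have hw2 : orderOf w = 2 := conj_orderOf_two hk g
  have hwk : Commute w k := by
    have := hc.map (MulAut.conj g).toMonoidHom
    simp only [MulEquiv.coe_toMonoidHom, MulAut.conj_apply, hg] at this
    exact this
  have hwne : w ≠ k := fun e => hne (mul_left_cancel (mul_right_cancel (e.trans hg.symm)))
  -- an element of `A` moving a reflection `r` onto `w`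
  have move : ∀ r : G, orderOf r = 2 → r ≠ k → Commute r k → Odd (orderOf (r * w)) →
      ∃ c : G, Commute c k ∧ c * w * c⁻¹ = r := by
    intro r hr hrk hrc ho
    have hrA := hAout r hr hrk
    have hmem : r * w ∈ A := d.mul_mem_outside hrc hrA hwk (hAout w hw2 hwne)
    obtain ⟨i, hi⟩ := ho
    have hrw : r * w * (r * w) ^ i * ((r * w) ^ i) = 1 := by
      rw [mul_assoc, ← pow_add, ← pow_succ', show i + i + 1 = orderOf (r * w) by omega,
        pow_orderOf_eq_one]
    refine ⟨((r * w) ^ i)⁻¹, (d.commute (inv_mem (pow_mem hmem i))), ?_⟩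
    have hinv : w * (r * w) ^ i * w⁻¹ = ((r * w) ^ i)⁻¹ :=
      d.inv_outside hwk (hAout w hw2 hwne) (pow_mem hmem i)
    rw [inv_inv]
    calc ((r * w) ^ i)⁻¹ * w * (r * w) ^ i
        = ((r * w) ^ i)⁻¹ * (w * (r * w) ^ i * w⁻¹) * w := by group
      _ = ((r * w) ^ i)⁻¹ * ((r * w) ^ i)⁻¹ * w := by rw [hinv]
      _ = r * w * w := by
        rw [← mul_inv_rev, inv_eq_of_mul_eq_one_left (a := r * w)]
        rw [← mul_assoc]
        exact hrw
      _ = r := by rw [mul_assoc, mul_self_of_orderOf_two hw2, mul_one]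
  have hfix : ∀ c : G, Commute c k → c * g * z * (c * g)⁻¹ = k := fun c hck => by
    rw [show c * g * z * (c * g)⁻¹ = c * (g * z * g⁻¹) * c⁻¹ by group, hg, hck.eq,
      mul_inv_cancel_right]
  have hzk2 : orderOf (z * k) = 2 := orderOf_two_of_mul_self
    (by rw [hc.mul_mul_mul_comm, hzz, hkk, mul_one]) fun e => hne
      (by rw [← inv_of_orderOf_two hz]; exact eq_inv_of_mul_eq_one_right e)
  have hzkk : Commute (z * k) k := hc.symm.mul_left (Commute.refl k)
  have hzkne : z * k ≠ k := fun e => ne_one_of_orderOf_two hz (mul_eq_right.1 e)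
  have hzA := hAout z hz hne.symm
  have hzw : z * w ∈ A := d.mul_mem_outside hc.symm hzA hwk (hAout w hw2 hwne)
  rcases d.odd_or_mul hk hnok hzw with ho | ho
  · -- `g` may be corrected to swap `z` and `k`; then it centralises `z * k`
    obtain ⟨c, hck, hcw⟩ := move z hz hne.symm hc.symm ho
    have h1 : c * g * z * (c * g)⁻¹ = k := hfix c hck
    have h2 : c * g * k * (c * g)⁻¹ = z := by
      rw [show c * g * k * (c * g)⁻¹ = c * w * c⁻¹ by rw [hw]; group, hcw]
    set m := c * g with hm
    obtain ⟨B, y, e⟩ := hG (z * k) hzk2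
    have hmzk : Commute m (z * k) := by
      refine mul_inv_eq_iff_eq_mul.1 ?_
      rw [show m * (z * k) * m⁻¹ = m * z * m⁻¹ * (m * k * m⁻¹) by group, h1, h2, hc.eq]
    have hzB : z ∉ B := fun h => by
      rcases e.uniq z h hzz with e' | e'
      · exact ne_one_of_orderOf_two hz e'
      · exact ne_one_of_orderOf_two hk (mul_eq_left.1 e'.symm)
    have hzzk : Commute z (z * k) := (Commute.refl z).mul_right hc.symm
    obtain ⟨u, huB, hu⟩ : ∃ u ∈ B, u * z * u⁻¹ = k := by
      by_cases hmB : m ∈ B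
      · exact ⟨m, hmB, h1⟩
      refine ⟨m * z, ?_, by rw [show m * z * z * (m * z)⁻¹ = m * (z * z) * z⁻¹ * m⁻¹ by group, hzz,
        mul_one, inv_of_orderOf_two hz, h1]⟩
      exact e.mul_mem_outside hmzk hmB hzzk hzB
    -- `u` has order four over `z * k`, which is conjugate to `z`
    exfalso
    have hzu := e.inv_outside hzzk hzB huB
    have huu : u * u = z * k := by
      rw [inv_of_orderOf_two hz] at hzu
      have h3 : u⁻¹ * u⁻¹ = z * k := by
        rw [← hu, show z * (u * z * u⁻¹) = z * u * z * u⁻¹ by group, hzu]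
      rw [← inv_of_orderOf_two hzk2, ← h3, mul_inv_rev, inv_inv]
    obtain ⟨f, hf⟩ := isConj_iff.1 hconj2
    exact hroot (f⁻¹ * u * f) (by
      rw [show f⁻¹ * u * f * (f⁻¹ * u * f) = f⁻¹ * (u * u) * f by group, huu, ← hf]
      group)
  · obtain ⟨c, hck, hcw⟩ := move (z * k) hzk2 hzkne hzkk (by
      rwa [show z * k * w = z * w * k by rw [mul_assoc, ← hwk.eq, ← mul_assoc]])
    exact ⟨c * g, hfix c hck, by
      rw [show c * g * k * (c * g)⁻¹ = c * w * c⁻¹ by rw [hw]; group, hcw]⟩

/-- Cyclic fusion with one class of involutions. -/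
theorem OneClass.exists_cyc (h : OneClass G) {z k : G} (hz : orderOf z = 2) (hk : orderOf k = 2)
    (hne : k ≠ z) (hc : Commute k z) : ∃ n, Cyc z k n :=
  CfsgLib.DGroup.exists_cyc h.cent hz hk hne hc (h.one z k hz hk) (h.one z (z * k) hz
    (orderOf_two_of_mul_self
      (by rw [hc.mul_mul_mul_comm, mul_self_of_orderOf_two hz, mul_self_of_orderOf_two hk,
        mul_one])
      fun e => hne (by rw [← inv_of_orderOf_two hz]; exact eq_inv_of_mul_eq_one_right e)))

end CfsgLib.DGroup
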