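import Cfsg.Statements.S3322
import Cfsg.Prelude.Def_CaseTheorems
import Cfsg.Agent.Lib.Invol.Dihedral
import Mathlib.GroupTheory.SpecificGroups.Dihedral

/-!
# Groups with generalised dihedral involution centralisers: the shared definitions

Common vocabulary of the proof that a non-solvable group with a self-centralising D-group has a
`PSL(2, q)` or `PGL(2, q)` quotient.
-/

set_option autoImplicit false

namespace CfsgLib.DGroup

open Cfsg CfsgLib.Invol

variable {G : Type*} [Group G]

/-- The centraliser of `v` is generalised dihedral over the abelian group `A`, in which `v` is the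
only involution; `x` is a reflection. -/
structure DihData (v : G) (A : Subgroup G) (x : G) : Prop where
  mem : v ∈ A
  le : A ≤ Subgroup.centralizer ({v} : Set G)
  comm : ∀ a ∈ A, ∀ b ∈ A, a * b = b * a
  xmem : x ∈ Subgroup.centralizer ({v} : Set G)
  xnot : x ∉ A
  xsq : x * x = 1
  inv : ∀ a ∈ A, x * a * x⁻¹ = a⁻¹
  cases : ∀ h ∈ Subgroup.centralizer ({v} : Set G), h ∈ A ∨ x * h ∈ A
  uniq : ∀ a ∈ A, a * a = 1 → a = 1 ∨ a = v

/-- Every involution centraliser is generalised dihedral with cyclic rotation 2-part. -/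
def DihCent (G : Type*) [Group G] : Prop :=
  ∀ v : G, orderOf v = 2 → ∃ (A : Subgroup G) (x : G), DihData v A x

/-- The element `n` permutes the involutions `z`, `k`, `z * k` cyclically. -/
def Cyc (z k n : G) : Prop :=
  n * z * n⁻¹ = k ∧ n * k * n⁻¹ = z * k

/-- The core-free configuration with one class of involutions. -/
structure OneClass (G : Type*) [Group G] : Prop where
  core : oddCore G = ⊥
  cent : DihCent G
  one : ∀ s t : G, orderOf s = 2 → orderOf t = 2 → IsConj s t
  sylow : ∀ S : Sylow 2 G, ∃ m : ℕ, 2 ≤ m ∧ Nonempty ((S : Subgroup G) ≃* DihedralGroup m)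

/-- The core-free configuration with an outer class of involutions over the subgroup `G₀` of index
two. -/
structure TwoClass (G : Type*) [Group G] (G₀ : Subgroup G) : Prop where
  core : oddCore G = ⊥
  cent : DihCent G
  sylow : ∀ S : Sylow 2 G, ∃ m : ℕ, 2 ≤ m ∧ Nonempty ((S : Subgroup G) ≃* DihedralGroup m)
  index : G₀.index = 2
  one : OneClass ↥G₀
  outer : ∃ j : G, orderOf j = 2 ∧ j ∉ G₀
  outer_conj : ∀ s t : G, orderOf s = 2 → orderOf t = 2 → s ∉ G₀ → t ∉ G₀ → IsConj s t

/-- The D-group data of the statement: `A` is abelian of index two in `H`, inverted by `x`, and the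
centraliser of each of its involutions is `H`. -/
structure Hyp (H A : Subgroup G) (x : G) : Prop where
  le : A ≤ H
  comm : ∀ a ∈ A, ∀ b ∈ A, a * b = b * a
  xmem : x ∈ H
  xnot : x ∉ A
  xsq : x * x = 1
  inv : ∀ a ∈ A, x * a * x⁻¹ = a⁻¹
  cases : ∀ h ∈ H, h ∈ A ∨ x * h ∈ A
  cent : ∀ t ∈ A, orderOf t = 2 → Subgroup.centralizer ({t} : Set G) = H
  exists_invol : ∃ t ∈ A, orderOf t = 2

/-- The conclusion of the statement. -/
def Concl (G : Type*) [Group G] : Prop :=
  ∃ (N : Subgroup G) (_ : N.Normal), (Odd (Nat.card ↥N) ∨ ∃ m : ℕ, Odd m ∧ Nat.card ↥N = 2 * m) ∧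
    ∃ (F : Type) (_ : Field F) (_ : Fintype F), 3 < Fintype.card F ∧
      (Nonempty (G ⧸ N ≃* Matrix.ProjectiveSpecialLinearGroup (Fin 2) F) ∨
        Nonempty (G ⧸ N ≃* Matrix.ProjGenLinGroup (Fin 2) F))

/-! ### Elementary consequences -/

theorem ne_one_of_odd_ne {a v : G} (hv : orderOf v = 2) (ho : Odd (orderOf a)) : a ≠ v := fun e => by
  rw [e, hv] at ho
  exact absurd ho (by decide)

theorem eq_one_of_odd_sq {a : G} (ho : Odd (orderOf a)) (h : a * a = 1) : a = 1 := by
  rw [← orderOf_eq_one_iff]
  exact Nat.eq_one_of_dvd_coprimes (Nat.coprime_two_right.2 ho) dvd_rfl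
    (orderOf_dvd_of_pow_eq_one (by rw [pow_two, h]))

theorem DihData.commute {v : G} {A : Subgroup G} {x : G} (d : DihData v A x) {a : G} (ha : a ∈ A) :
    Commute a v :=
  Subgroup.mem_centralizer_singleton_iff.1 (d.le ha)

/-- An element of the centraliser outside `A` squares to one. -/
theorem DihData.sq_outside {v : G} {A : Subgroup G} {x : G} (d : DihData v A x) {h : G}
    (hh : Commute h v) (hA : h ∉ A) : h * h = 1 := by
  have hx : x⁻¹ = x := inv_eq_of_mul_eq_one_right d.xsq
  have ha : x * h ∈ A := (d.cases h (Subgroup.mem_centralizer_singleton_iff.2 hh)).resolve_left hA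
  have e := d.inv _ ha
  rw [hx, ← mul_assoc, d.xsq, one_mul, mul_inv_rev, hx] at e
  -- `e : h * x = h⁻¹ * x`
  exact eq_inv_iff_mul_eq_one.mp (mul_right_cancel e)

/-- An element of the centraliser outside `A` inverts `A`. -/
theorem DihData.inv_outside {v : G} {A : Subgroup G} {x : G} (d : DihData v A x) {h : G}
    (hh : Commute h v) (hA : h ∉ A) {a : G} (ha : a ∈ A) : h * a * h⁻¹ = a⁻¹ := by
  have hb : x * h ∈ A := (d.cases h (Subgroup.mem_centralizer_singleton_iff.2 hh)).resolve_left hA
  have e : (x * h) * a * (x * h)⁻¹ = a := by rw [d.comm _ hb _ ha, mul_inv_cancel_right]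
  have hx : x⁻¹ = x := inv_eq_of_mul_eq_one_right d.xsq
  calc h * a * h⁻¹ = x * ((x * h) * a * (x * h)⁻¹) * x⁻¹ := by
        rw [mul_inv_rev, hx]
        calc h * a * h⁻¹ = (x * x) * h * a * h⁻¹ * (x * x) := by rw [d.xsq, one_mul, mul_one]
          _ = _ := by group
    _ = a⁻¹ := by rw [e, d.inv a ha]

theorem DihData.odd_mem {v : G} {A : Subgroup G} {x : G} (d : DihData v A x) {a : G}
    (ho : Odd (orderOf a)) (ha : Commute a v) : a ∈ A := by
  by_contra h
  exact h (eq_one_of_odd_sq ho (d.sq_outside ha h) ▸ one_mem A)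

/-- Odd elements centralising one involution commute. -/
theorem DihCent.comm_odd (hG : DihCent G) {v a b : G} (hv : orderOf v = 2) (hao : Odd (orderOf a))
    (hbo : Odd (orderOf b)) (ha : Commute a v) (hb : Commute b v) : Commute a b := by
  obtain ⟨A, x, d⟩ := hG v hv
  exact d.comm _ (d.odd_mem hao ha) _ (d.odd_mem hbo hb)

/-- A further involution commuting with `v` inverts the odd elements centralising `v`. -/
theorem DihCent.inv_odd (hG : DihCent G) {v w a : G} (hv : orderOf v = 2) (hw : orderOf w = 2)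
    (hne : w ≠ v) (hwv : Commute w v) (hao : Odd (orderOf a)) (ha : Commute a v) :
    w * a * w⁻¹ = a⁻¹ := by
  obtain ⟨A, x, d⟩ := hG v hv
  refine d.inv_outside hwv (fun h => ?_) (d.odd_mem hao ha)
  rcases d.uniq w h (mul_self_of_orderOf_two hw) with e | e
  · exact ne_one_of_orderOf_two hw e
  · exact hne e

/-- No odd element centralises a four group. -/
theorem DihCent.eq_one_of_four (hG : DihCent G) {v w a : G} (hv : orderOf v = 2) (hw : orderOf w = 2)
    (hne : w ≠ v) (hwv : Commute w v) (hao : Odd (orderOf a)) (ha : Commute a v) (haw : Commute a w) :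
    a = 1 := by
  have e := hG.inv_odd hv hw hne hwv hao ha
  rw [← haw.eq, mul_inv_cancel_right] at e
  exact eq_one_of_odd_sq hao (eq_inv_iff_mul_eq_one.mp e)

/-- An involution centraliser contains a second involution commuting with the given one. -/
theorem DihCent.exists_partner (hG : DihCent G) {v : G} (hv : orderOf v = 2) :
    ∃ w : G, orderOf w = 2 ∧ w ≠ v ∧ Commute w v := by
  obtain ⟨A, x, d⟩ := hG v hv
  exact ⟨x, orderOf_two_of_mul_self d.xsq fun e => d.xnot (e ▸ one_mem A),
    fun e => d.xnot (e ▸ d.mem), Subgroup.mem_centralizer_singleton_iff.1 d.xmem⟩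

end CfsgLib.DGroup
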