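import Cfsg.Agent.Lib.DGroup.Defs
import Cfsg.Agent.Lib.Invol.AIC
import Cfsg.Agent.Lib.RealClassGraph.Basic

/-!
# A self-centralising elementary abelian subgroup

An elementary abelian subgroup of order divisible by four that is the centraliser of each of its
involutions is a Sylow subgroup, so every involution centraliser is abelian and the group is a
central extension of `PSL(2, 2^n)` by a group of odd order.
-/

set_option autoImplicit false

namespace CfsgLib.DGroup

open Cfsg CfsgLib.Invol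

variable {G : Type*} [Group G] [Finite G]

theorem elementary_case (hns : ¬ Group.IsSolvable G) (H : Subgroup G) (hE : ∀ h ∈ H, h * h = 1)
    (h4 : 4 ∣ Nat.card H) (hC : ∀ h ∈ H, h ≠ 1 → Subgroup.centralizer ({h} : Set G) = H) :
    Concl G := by
  have := Fact.mk Nat.prime_two
  have hH2 : IsPGroup 2 H := fun a => ⟨1, Subtype.ext (by
    rw [pow_one, pow_two]; exact hE a a.2)⟩
  have h1 : 1 < Nat.card H := lt_of_lt_of_le (by omega) (Nat.le_of_dvd Nat.card_pos h4)
  have := Finite.one_lt_card_iff_nontrivial.1 h1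
  obtain ⟨y, hy1⟩ := exists_ne (1 : H)
  obtain ⟨S, hS⟩ := hH2.exists_le_sylow
  have hSn : Nontrivial (S : Subgroup G) := ⟨⟨⟨y, hS y.2⟩, 1, fun e =>
    hy1 (Subtype.ext (congrArg (fun s : (S : Subgroup G) => (s : G)) e :))⟩⟩
  have := S.2.center_nontrivial
  obtain ⟨z, hz⟩ := exists_ne (1 : Subgroup.center (S : Subgroup G))
  have hzS : ∀ s ∈ (S : Subgroup G), Commute s ((z : (S : Subgroup G)) : G) := fun s hs =>
    congrArg Subtype.val (Subgroup.mem_center_iff.1 z.2 ⟨s, hs⟩)
  have hz1 : ((z : (S : Subgroup G)) : G) ≠ 1 := fun e => hz (Subtype.ext (Subtype.ext e))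
  have hzH : ((z : (S : Subgroup G)) : G) ∈ H := by
    rw [← hC y y.2 fun e => hy1 (Subtype.ext e)]
    exact Subgroup.mem_centralizer_singleton_iff.2 (hzS y (hS y.2)).symm.eq
  have hSH : (S : Subgroup G) = H := le_antisymm (fun s hs => by
    rw [← hC _ hzH hz1]
    exact Subgroup.mem_centralizer_singleton_iff.2 (hzS s hs).eq) hS
  have hcomm : ∀ a ∈ H, ∀ b ∈ H, a * b = b * a := fun a ha b hb => by
    calc a * b = (a * b)⁻¹ := eq_inv_iff_mul_eq_one.2 (hE _ (mul_mem ha hb))
      _ = b * a := by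
        rw [mul_inv_rev, inv_eq_of_mul_eq_one_right (hE b hb), inv_eq_of_mul_eq_one_right (hE a ha)]
  have hAIC : AIC.AbInvCent G := by
    intro t a b ht ht1 hat hbt
    have hp : IsPGroup 2 (Subgroup.zpowers t) := IsPGroup.of_card (n := 1) (by
      rw [Nat.card_zpowers, orderOf_eq_prime (by rw [pow_two, ht]) ht1, pow_one])
    obtain ⟨S', hS'⟩ := hp.exists_le_sylow
    obtain ⟨g, hg⟩ := MulAction.exists_smul_eq G S' S
    have hgt : g * t * g⁻¹ ∈ H := by
      rw [← hSH, ← hg]
      exact Subgroup.smul_mem_pointwise_smul t (MulAut.conj g) _ (hS' (Subgroup.mem_zpowers t))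
    have hC' := hC _ hgt fun e => ht1 (conj_eq_one_iff.1 e)
    have hmem : ∀ c, Commute c t → g * c * g⁻¹ ∈ H := fun c hc => by
      rw [← hC']
      exact Subgroup.mem_centralizer_singleton_iff.2 (hc.map (MulAut.conj g).toMonoidHom).eq
    have e := hcomm _ (hmem a hat) _ (hmem b hbt)
    exact (MulAut.conj g).injective (by simpa using e)
  have hnc : ¬ IsCyclic (S : Subgroup G) := fun hc => by
    obtain ⟨g, hg⟩ := hc.exists_generator
    have h2 : orderOf g ≤ 2 := Nat.le_of_dvd two_pos (orderOf_dvd_of_pow_eq_one (Subtype.ext (by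
      rw [pow_two]; exact hE g (hSH ▸ g.2))))
    rw [orderOf_eq_card_of_forall_mem_zpowers hg, hSH] at h2
    have := Nat.le_of_dvd Nat.card_pos h4
    omega
  have hnn : ¬ (S : Subgroup G).Normal := fun hn =>
    hns (RealClassGraph.solvable_of_normal_sylow_two S hn)
  obtain ⟨F, iF, iF', f, hf, hF, φ, hφ, -, hodd⟩ := AIC.isOddCover hAIC S hnc hnn
  refine ⟨φ.ker, inferInstance, Or.inl hodd, F, iF, iF', ?_,
    Or.inl ⟨QuotientGroup.quotientKerEquivOfSurjective φ hφ⟩⟩
  rw [hF]
  calc 3 < 2 ^ 2 := by norm_num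
    _ ≤ 2 ^ f := Nat.pow_le_pow_right two_pos hf

end CfsgLib.DGroup
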