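import Cfsg.Agent.Lib.DGroup.Defs
import Cfsg.Agent.Lib.TwoPointStab.Formula
import Cfsg.Agent.Lib.DihBlock.Centralizer
import Cfsg.Agent.S4482
import Mathlib.GroupTheory.GroupAction.Quotient

/-!
# One class of involutions: a subgroup containing an involution centraliser has index at most five

The order formulas of the principal 2-block (Klein four and dihedral Sylow 2-subgroups) determine the
order of the group from the involution centralisers up to a factor between `3 / 8` and `15 / 8`.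
-/

set_option autoImplicit false
set_option linter.style.haveILetI false
set_option linter.unusedSectionVars false

namespace CfsgLib.DGroup

open Cfsg CfsgLib CfsgLib.Invol

variable {G : Type*} [Group G] [Finite G]

/-- A Sylow subgroup in which a given involution is central. -/
theorem exists_sylow_central (S : Sylow 2 G) {m : ℕ}
    (eS : Nonempty ((S : Subgroup G) ≃* DihedralGroup m))
    (hone : ∀ s t : G, orderOf s = 2 → orderOf t = 2 → IsConj s t) {v : G} (hv : orderOf v = 2) :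
    ∃ P : Sylow 2 G, v ∈ (P : Subgroup G) ∧ (∀ x ∈ (P : Subgroup G), Commute v x) ∧
      Nonempty ((P : Subgroup G) ≃* DihedralGroup m) := by
  haveI : Fact (Nat.Prime 2) := ⟨Nat.prime_two⟩
  obtain ⟨T, hT⟩ := (IsPGroup.of_card (p := 2) (G := Subgroup.zpowers v) (n := 1)
    (by rw [Nat.card_zpowers, hv, pow_one])).exists_le_sylow
  haveI : Nontrivial (T : Subgroup G) :=
    ⟨⟨⟨v, hT (Subgroup.mem_zpowers v)⟩, 1, fun e => ne_one_of_orderOf_two hv (congrArg Subtype.val e)⟩⟩
  haveI := T.2.center_nontrivial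
  have h2 : 2 ∣ Nat.card (Subgroup.center (T : Subgroup G)) := by
    obtain ⟨n, hn0, hn⟩ :=
      (T.2.to_subgroup (Subgroup.center (T : Subgroup G))).nontrivial_iff_card.mp inferInstance
    rw [hn]; exact dvd_pow_self 2 hn0.ne'
  obtain ⟨u, hu⟩ := exists_prime_orderOf_dvd_card' 2 h2
  have huo : orderOf ((u : (T : Subgroup G)) : G) = 2 := by
    rw [Subgroup.orderOf_coe, Subgroup.orderOf_coe, hu]
  obtain ⟨g, hg⟩ := isConj_iff.1 (hone _ _ huo hv)
  obtain ⟨e⟩ := eS
  have hmem : ∀ x ∈ ((g • T : Sylow 2 G) : Subgroup G), ∃ t ∈ (T : Subgroup G), x = g * t * g⁻¹ := by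
    intro x hx
    rw [Sylow.coe_subgroup_smul, Subgroup.mem_pointwise_smul_iff_inv_smul_mem] at hx
    refine ⟨_, hx, ?_⟩
    simp [MulAut.smul_def, mul_assoc]
  refine ⟨g • T, ?_, fun x hx => ?_, ⟨((g • T).equiv S).trans e⟩⟩
  · rw [Sylow.coe_subgroup_smul, ← hg]
    exact Subgroup.smul_mem_pointwise_smul _ (MulAut.conj g) _ u.1.2
  · obtain ⟨t, ht, rfl⟩ := hmem x hx
    have hc : Commute ((u : (T : Subgroup G)) : G) t :=
      (congrArg Subtype.val (Subgroup.mem_center_iff.1 u.2 ⟨t, ht⟩)).symm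
    rw [← hg]
    exact Commute.conj hc g

/-- Klein four Sylow subgroups: the order lies between `3 n²` and `15 n²` times the centraliser. -/
theorem klein_bounds (P : Sylow 2 G) (hP : IsKleinFour (P : Subgroup G))
    (hone : ∀ s t : G, orderOf s = 2 → orderOf t = 2 → IsConj s t) {v : G} (hv : orderOf v = 2)
    (hvP : v ∈ (P : Subgroup G)) {n : ℕ}
    (hn : Nat.card (Subgroup.centralizer ({v} : Set G)) =
      Nat.card (Subgroup.centralizer ((P : Subgroup G) : Set G)) * n) :
    ∃ k : ℕ, Nat.card G = Nat.card (Subgroup.centralizer ({v} : Set G)) * k ∧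
      3 * n ^ 2 ≤ k ∧ k ≤ 15 * n ^ 2 := by
  obtain ⟨k, hk⟩ := Subgroup.card_subgroup_dvd_card (Subgroup.centralizer ({v} : Set G))
  refine ⟨k, hk, ?_⟩
  rcases TwoPointStab.klein_shape P hP hone hvP hv hn hk with ⟨a, ha, he⟩ | ⟨d₁, d₂, h1, h2, -, he⟩
  · have hn0 : 0 < n := Nat.pos_of_ne_zero fun e => by
      rw [e, mul_zero] at hn
      exact absurd hn Nat.card_pos.ne'
    have hle := Nat.le_of_dvd hn0 ha
    obtain ⟨b, rfl⟩ := Nat.exists_eq_add_of_le hle
    constructor <;> nlinarith [Nat.zero_le (a * b), Nat.zero_le (b * b), Nat.zero_le (a * a)]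
  · obtain ⟨x, rfl⟩ : ∃ x, d₁ = x + 3 := ⟨d₁ - 3, by omega⟩
    obtain ⟨y, rfl⟩ : ∃ y, d₂ = y + 3 := ⟨d₂ - 3, by omega⟩
    rw [show x + 3 - 1 = x + 2 by omega, show y + 3 - 1 = y + 2 by omega,
      show x + 3 + (y + 3) - 1 = x + y + 5 by omega] at he
    set a := (x + 2) * (y + 2) * (x + 3 + (y + 3)) with ha
    set b := (x + 3) * (y + 3) * (x + y + 5) with hb
    have h5 : 3 * a ≤ 8 * b := by rw [ha, hb]; nlinarith
    have h6 : 8 * b ≤ 15 * a := by
      rw [ha, hb]
      nlinarith [Nat.zero_le (x * x * y), Nat.zero_le (x * y * y), Nat.zero_le (x * y),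
        Nat.zero_le (x * x), Nat.zero_le (y * y)]
    have ha0 : 0 < a := by positivity
    constructor
    · refine Nat.le_of_mul_le_mul_right (c := a) ?_ ha0
      nlinarith [Nat.mul_le_mul_left (n ^ 2) h5]
    · refine Nat.le_of_mul_le_mul_right (c := a) ?_ ha0
      nlinarith [Nat.mul_le_mul_left (n ^ 2) h6]

/-- The order quotient of the dihedral formula. -/
theorem dihedral_bounds (P : Sylow 2 G) {σ τ : G} {m : ℕ} (D : DihBlock.Data P σ τ m)
    (hone : ∀ s t : G, orderOf s = 2 → orderOf t = 2 → IsConj s t) :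
    ∃ f : ℚ, 3 / 8 ≤ f ∧ f ≤ 15 / 8 ∧ (Nat.card G : ℚ) =
      2 * (Nat.card (Subgroup.centralizer ({σ ^ m} : Set G)) : ℚ) ^ 3 *
        (1 / (Nat.card (Subgroup.centralizer ({σ ^ m, τ} : Set G)) : ℚ) +
          1 / (Nat.card (Subgroup.centralizer ({σ ^ m, σ * τ} : Set G)) : ℚ)) ^ 2 * f := by
  classical
  letI := Fintype.ofFinite G
  haveI := Fact.mk Nat.prime_two
  obtain ⟨M, hM⟩ := Blocks.exists_isPModular Nat.prime_two
  haveI := Blocks.isPrime_of_isPModular hM
  obtain ⟨k, hk0, hmk⟩ := D.pow_two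
  obtain ⟨R⟩ := DihBlock.exists_rotations D hM (Complex.isPrimitiveRoot_exp (2 * m)
    (by have := DihBlock.two_le D; omega))
  have hgen : Subgroup.closure ({σ, τ} : Set G) = (P : Subgroup G) := by
    refine le_antisymm ((Subgroup.closure_le _).mpr ?_) fun x hx => ?_
    · rintro x (rfl | rfl)
      exacts [D.memσ, D.memτ]
    · have hs : σ ∈ Subgroup.closure ({σ, τ} : Set G) := Subgroup.subset_closure (Or.inl rfl)
      obtain ⟨i, rfl | rfl⟩ := D.cases x hx
      · exact pow_mem hs i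
      · exact mul_mem (pow_mem hs i) (Subgroup.subset_closure (Or.inr rfl))
  have h2m : 2 ^ (k + 1) = 2 * m := by rw [pow_succ, hmk, mul_comm]
  obtain ⟨hne, h⟩ := Cfsg.Agent.S4482.result M hM (k + 2) (by omega) P σ τ D.memσ D.memτ
    (by rw [show k + 2 - 1 = k + 1 by omega, h2m]; exact D.ordσ) (DihBlock.orderOf_tau D) D.rel hgen
    (by
      rw [show k + 2 - 2 = k by omega, ← hmk]
      exact ⟨hone _ _ (DihBlock.orderOf_z D) (DihBlock.orderOf_tau D),
        hone _ _ (DihBlock.orderOf_z D) (DihBlock.orderOf_tau (DihBlock.swap D))⟩)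
    R.a R.mem_a (fun e => R.ne_a (Subtype.ext e)) R.δ R.signδ
    (fun l h0 hl => R.val_a l h0 (by rwa [show k + 2 - 1 = k + 1 by omega, h2m] at hl))
  rw [show k + 2 - 2 = k by omega, ← hmk] at h
  -- the congruence for the degree
  obtain ⟨n, hn⟩ := DihBlock.exists_mult R.a (DihBlock.pow_period D)
    (by have := DihBlock.two_le D; omega) (c := 1) (one_pow _)
  set d := Cfsg.charDegree (R.a : G → ℂ) with hd
  have hd0 : 0 < d := (Blocks.irr_degree_eq R.a).2
  obtain ⟨j, hj⟩ : ∃ j, m = 2 * j := ⟨2 ^ (k - 1), by rw [hmk, ← pow_succ', show k - 1 + 1 = k by omega]⟩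
  have hsum : ∑ i ∈ Finset.range (2 * m), (R.a : G → ℂ) (σ ^ i) * (1 : ℂ) ^ i =
      (d : ℂ) + ((2 * m - 1 : ℕ) : ℂ) * (R.δ : ℂ) := by
    rw [show Finset.range (2 * m) = Finset.range ((2 * m - 1) + 1) from congrArg Finset.range
        (by have := DihBlock.two_le D; omega), Finset.sum_range_succ']
    simp only [one_pow, mul_one, pow_zero, (Blocks.irr_degree_eq R.a).1]
    rw [Finset.sum_congr rfl fun i hi => R.val_a (i + 1) (by omega)
      (by rw [Finset.mem_range] at hi; omega)]
    rw [Finset.sum_const, Finset.card_range, nsmul_eq_mul, add_comm]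
  rw [hsum] at hn
  have hn' : (d : ℤ) + ((2 * m - 1 : ℕ) : ℤ) * R.δ = ((2 * m : ℕ) : ℤ) * n := by
    apply Int.cast_injective (α := ℂ)
    push_cast at hn ⊢
    exact hn
  have hmod : (4 : ℤ) ∣ (d : ℤ) - R.δ := ⟨(j : ℤ) * n - (j : ℤ) * R.δ, by
    have := DihBlock.two_le D
    rw [show ((2 * m - 1 : ℕ) : ℤ) = 4 * (j : ℤ) - 1 by omega,
      show ((2 * m : ℕ) : ℤ) = 4 * (j : ℤ) by omega] at hn'
    linear_combination hn'⟩
  have hdne : (d : ℚ) - (R.δ : ℚ) ≠ 0 := by
    intro e
    apply hne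
    rw [sub_eq_zero] at e
    exact_mod_cast e
  refine ⟨(d : ℚ) * ((d : ℚ) + R.δ) / ((d : ℚ) - R.δ) ^ 2, ?_, ?_, ?_⟩
  · rw [le_div_iff₀ (by positivity)]
    rcases R.signδ with e | e <;> rw [e] at hmod hne ⊢
    · have : (5 : ℤ) ≤ d := by omega
      have : (5 : ℚ) ≤ d := by exact_mod_cast this
      push_cast; nlinarith
    · have : (3 : ℤ) ≤ d := by omega
      have : (3 : ℚ) ≤ d := by exact_mod_cast this
      push_cast; nlinarith
  · rw [div_le_iff₀ (by positivity)]
    rcases R.signδ with e | e <;> rw [e] at hmod hne ⊢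
    · have : (5 : ℤ) ≤ d := by omega
      have : (5 : ℚ) ≤ d := by exact_mod_cast this
      push_cast; nlinarith
    · have : (3 : ℤ) ≤ d := by omega
      have : (3 : ℚ) ≤ d := by exact_mod_cast this
      push_cast; nlinarith
  · rw [mul_div_assoc', eq_div_iff (pow_ne_zero _ hdne), h]
    ring

/-- Centralisers inside a subgroup containing them. -/
theorem card_centralizer_sub (M : Subgroup G) (T : Set M)
    (h : Subgroup.centralizer (Subtype.val '' T) ≤ M) :
    Nat.card (Subgroup.centralizer T) = Nat.card (Subgroup.centralizer (Subtype.val '' T)) :=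
  Nat.card_congr
    { toFun := fun x => ⟨((x : M) : G), by
        rintro _ ⟨t, ht, rfl⟩
        exact congrArg Subtype.val (x.2 t ht)⟩
      invFun := fun y => ⟨⟨y, h y.2⟩, fun t ht => Subtype.ext (y.2 t ⟨t, ht, rfl⟩)⟩
      left_inv := fun _ => rfl
      right_inv := fun _ => rfl }

/-- A dihedral Sylow subgroup of order at least eight with given central involution: standing data. -/
theorem exists_data (P : Sylow 2 G) {m : ℕ} (hm : 2 ≤ m)
    (e : (P : Subgroup G) ≃* DihedralGroup m) {v : G} (hv : orderOf v = 2) (hvP : v ∈ (P : Subgroup G))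
    (hvc : ∀ x ∈ (P : Subgroup G), Commute v x) :
    IsKleinFour (P : Subgroup G) ∨ ∃ (σ τ : G) (j : ℕ), DihBlock.Data P σ τ j ∧ σ ^ j = v := by
  haveI : Fact (Nat.Prime 2) := ⟨Nat.prime_two⟩
  by_cases h2 : m = 2
  · subst h2
    haveI : IsKleinFour (DihedralGroup 2) := DihedralGroup.instIsKleinFourOfNatNat
    exact Or.inl ⟨by rw [Nat.card_congr e.toEquiv, IsKleinFour.card_four],
      (Monoid.exponent_eq_of_mulEquiv e).trans IsKleinFour.exponent_two⟩
  obtain ⟨a, ha⟩ := IsPGroup.iff_card.mp P.2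
  rw [Nat.card_congr e.toEquiv, DihedralGroup.nat_card] at ha
  obtain ⟨k, hk0, hmk⟩ : ∃ k, 0 < k ∧ m = 2 * 2 ^ k := by
    have h3 : 3 ≤ a := by
      by_contra hlt
      interval_cases a <;> omega
    refine ⟨a - 2, by omega, ?_⟩
    rw [show a = a - 2 + 1 + 1 by omega, pow_succ, pow_succ] at ha
    omega
  set s := e.symm (DihedralGroup.r 1)
  have hso : orderOf (s : G) = m := by
    rw [Subgroup.orderOf_coe, MulEquiv.orderOf_eq, DihedralGroup.orderOf_r_one]
  obtain ⟨τ, D⟩ := DihBlock.data_of_iso P hk0 hmk e s.2 hso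
  refine Or.inr ⟨s, τ, 2 ^ k, D, ?_⟩
  obtain ⟨i, hi | hi⟩ := D.cases v hvP
  · exact (DihBlock.eq_z_of_sq D (hi ▸ pow_mem (Subgroup.mem_zpowers (s : G)) i)
      (mul_self_of_orderOf_two hv) (ne_one_of_orderOf_two hv)).symm
  · exfalso
    have hc := hvc _ D.memσ
    rw [hi] at hc
    have h1 : Commute τ (s : G) := by
      have := ((Commute.pow_self (s : G) i).inv_left).mul_left hc
      rwa [inv_mul_cancel_left] at this
    have h3 : (s : G) = (s : G)⁻¹ := by rw [← D.rel, h1.eq, mul_inv_cancel_right]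
    have h4 : orderOf (s : G) ∣ 2 :=
      orderOf_dvd_of_pow_eq_one (by rw [pow_two]; exact eq_inv_iff_mul_eq_one.1 h3)
    rw [hso] at h4
    have := Nat.le_of_dvd two_pos h4
    omega

/-- **Index at most five.** -/
theorem index_le_five (S : Sylow 2 G) {m : ℕ} (hm : 2 ≤ m)
    (eS : Nonempty ((S : Subgroup G) ≃* DihedralGroup m))
    (hone : ∀ s t : G, orderOf s = 2 → orderOf t = 2 → IsConj s t) (M : Subgroup G) {v : G}
    (hv : orderOf v = 2) (hC : Subgroup.centralizer ({v} : Set G) ≤ M)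
    (honeM : ∀ s ∈ M, ∀ t ∈ M, orderOf s = 2 → orderOf t = 2 → ∃ g ∈ M, g * s * g⁻¹ = t) :
    M.index ≤ 5 := by
  obtain ⟨P, hvP, hvc, ⟨e⟩⟩ := exists_sylow_central S eS hone hv
  have hPM : (P : Subgroup G) ≤ M := fun x hx =>
    hC (Subgroup.mem_centralizer_singleton_iff.2 (hvc x hx).symm.eq)
  have hvM : v ∈ M := hPM hvP
  set P' := P.subtype hPM with hP'
  have hone' : ∀ s t : M, orderOf s = 2 → orderOf t = 2 → IsConj s t := fun s t hs ht => by
    obtain ⟨g, hg, hgt⟩ := honeM s s.2 t t.2 (by rw [Subgroup.orderOf_coe, hs])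
      (by rw [Subgroup.orderOf_coe, ht])
    exact isConj_iff.2 ⟨⟨g, hg⟩, Subtype.ext hgt⟩
  have hcard : Nat.card M * M.index = Nat.card G := M.card_mul_index
  have hv' : orderOf (⟨v, hvM⟩ : M) = 2 := by rw [Subgroup.orderOf_mk, hv]
  have hsub : ∀ T : Set M, (⟨v, hvM⟩ : M) ∈ T →
      Nat.card (Subgroup.centralizer T) = Nat.card (Subgroup.centralizer (Subtype.val '' T)) :=
    fun T hT => card_centralizer_sub M T fun y hy =>
      hC (Subgroup.mem_centralizer_singleton_iff.2 (hy v ⟨_, hT, rfl⟩).symm)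
  have hc1 : Nat.card (Subgroup.centralizer ({(⟨v, hvM⟩ : M)} : Set M)) =
      Nat.card (Subgroup.centralizer ({v} : Set G)) := by
    rw [hsub {(⟨v, hvM⟩ : M)} rfl, Set.image_singleton]
  rcases exists_data P hm e hv hvP hvc with hK | ⟨σ, τ, j, D, hσv⟩
  · have hK' : IsKleinFour (P' : Subgroup M) := by
      haveI := hK
      have e' : (P' : Subgroup M) ≃* (P : Subgroup G) := Subgroup.subgroupOfEquivOfLe hPM
      exact ⟨by rw [Nat.card_congr e'.toEquiv, IsKleinFour.card_four],
        (Monoid.exponent_eq_of_mulEquiv e').trans IsKleinFour.exponent_two⟩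
    obtain ⟨n, hn⟩ := Subgroup.card_dvd_of_le
      (Subgroup.centralizer_le (Set.singleton_subset_iff.2 hvP) :
        Subgroup.centralizer ((P : Subgroup G) : Set G) ≤ Subgroup.centralizer ({v} : Set G))
    obtain ⟨k, hk, -, hk15⟩ := klein_bounds P hK hone hv hvP hn
    have hcP : Nat.card (Subgroup.centralizer ((P' : Subgroup M) : Set M)) =
        Nat.card (Subgroup.centralizer ((P : Subgroup G) : Set G)) := by
      rw [hsub _ hvP, show Subtype.val '' ((P' : Subgroup M) : Set M) = ((P : Subgroup G) : Set G) from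
        Set.ext fun y => ⟨fun ⟨z, hz, hzy⟩ => hzy ▸ hz, fun hy => ⟨⟨y, hPM hy⟩, hy, rfl⟩⟩]
    obtain ⟨k', hk', hk3, -⟩ := klein_bounds P' hK' hone' hv' hvP (n := n) (by rw [hc1, hcP, hn])
    rw [hc1] at hk'
    refine Nat.le_of_mul_le_mul_left ?_ (Nat.card_pos : 0 < Nat.card M)
    rw [hcard, hk, hk']
    nlinarith
  · obtain ⟨f, -, hf2, hfG⟩ := dihedral_bounds P D hone
    have hσM : σ ∈ M := hPM D.memσ
    have hτM : τ ∈ M := hPM D.memτ
    have D' : DihBlock.Data P' ⟨σ, hσM⟩ ⟨τ, hτM⟩ j :=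
      { pow_two := D.pow_two
        memσ := D.memσ
        memτ := D.memτ
        ordσ := by rw [Subgroup.orderOf_mk, D.ordσ]
        sqτ := Subtype.ext D.sqτ
        rel := Subtype.ext D.rel
        card := by
          show Nat.card ↥((P : Subgroup G).subgroupOf M) = _
          rw [Nat.card_congr (Subgroup.subgroupOfEquivOfLe hPM).toEquiv, D.card]
        cases := fun x hx => by
          obtain ⟨i, hi | hi⟩ := D.cases x hx
          · exact ⟨i, Or.inl (Subtype.ext hi)⟩
          · exact ⟨i, Or.inr (Subtype.ext hi)⟩ }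
    obtain ⟨f', hf', -, hfM⟩ := dihedral_bounds P' D' hone'
    have hz : (⟨σ, hσM⟩ : M) ^ j = ⟨v, hvM⟩ := Subtype.ext hσv
    rw [hσv] at hfG
    rw [hz, hc1, hsub _ (Or.inl rfl), hsub _ (Or.inl rfl), Set.image_pair, Set.image_pair] at hfM
    simp only [Subgroup.coe_mul] at hfM
    set K := 2 * (Nat.card (Subgroup.centralizer ({v} : Set G)) : ℚ) ^ 3 *
      (1 / (Nat.card (Subgroup.centralizer ({v, τ} : Set G)) : ℚ) +
        1 / (Nat.card (Subgroup.centralizer ({v, σ * τ} : Set G)) : ℚ)) ^ 2 with hKdef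
    have hK0 : 0 ≤ K := by positivity
    refine Nat.le_of_mul_le_mul_left ?_ (Nat.card_pos : 0 < Nat.card M)
    rw [hcard, ← Nat.cast_le (α := ℚ), hfG, Nat.cast_mul, hfM]
    push_cast
    nlinarith

/-- The lower bound for the order. -/
theorem three_mul_cube_le (S : Sylow 2 G) {m : ℕ} (hm : 2 ≤ m)
    (eS : Nonempty ((S : Subgroup G) ≃* DihedralGroup m))
    (hone : ∀ s t : G, orderOf s = 2 → orderOf t = 2 → IsConj s t) {v : G} (hv : orderOf v = 2)
    (hpair : ∀ w : G, orderOf w = 2 → w ≠ v → Commute v w →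
      Nat.card (Subgroup.centralizer ({v, w} : Set G)) = 4) :
    3 * Nat.card (Subgroup.centralizer ({v} : Set G)) ^ 3 ≤ 16 * Nat.card G := by
  obtain ⟨P, hvP, hvc, ⟨e⟩⟩ := exists_sylow_central S eS hone hv
  rcases exists_data P hm e hv hvP hvc with hK | ⟨σ, τ, j, D, hσv⟩
  · haveI := hK
    obtain ⟨n, hn⟩ := Subgroup.card_dvd_of_le
      (Subgroup.centralizer_le (Set.singleton_subset_iff.2 hvP) :
        Subgroup.centralizer ((P : Subgroup G) : Set G) ≤ Subgroup.centralizer ({v} : Set G))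
    obtain ⟨k, hk, hk3, -⟩ := klein_bounds P hK hone hv hvP hn
    obtain ⟨w, hw1, hwv⟩ : ∃ w : (P : Subgroup G), w ≠ 1 ∧ (w : G) ≠ v := by
      by_contra hall
      push Not at hall
      have h4 : Nat.card (P : Subgroup G) = 4 := IsKleinFour.card_four
      have hle : Nat.card (P : Subgroup G) ≤ Nat.card Bool := by
        classical
        refine Nat.card_le_card_of_injective (fun w => decide (w = 1)) fun a b hab => ?_
        by_cases ha : a = 1
        · simp only [ha, decide_true] at hab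
          exact ha.trans (of_decide_eq_true hab.symm).symm
        · simp only [ha, decide_false] at hab
          have hb : b ≠ 1 := of_decide_eq_false hab.symm
          exact Subtype.ext ((hall a ha).trans (hall b hb).symm)
      rw [h4, Nat.card_eq_fintype_card, Fintype.card_bool] at hle
      omega
    have hwo : orderOf (w : G) = 2 :=
      orderOf_two_of_mul_self (congrArg Subtype.val (IsKleinFour.mul_self w))
        fun h => hw1 (Subtype.ext h)
    have hcP : Subgroup.centralizer ((P : Subgroup G) : Set G) =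
        Subgroup.centralizer ({v, (w : G)} : Set G) := by
      refine le_antisymm (Subgroup.centralizer_le (Set.insert_subset hvP
        (Set.singleton_subset_iff.2 w.2))) fun y hy z hz => ?_
      have hy1 : Commute v y := hy v (Or.inl rfl)
      have hy2 : Commute (w : G) y := hy _ (Or.inr rfl)
      by_cases hz1 : (⟨z, hz⟩ : (P : Subgroup G)) = 1
      · rw [show z = 1 from congrArg Subtype.val hz1, one_mul, mul_one]
      by_cases hzv : z = v
      · exact (hzv ▸ hy1).eq
      by_cases hzw : z = (w : G)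
      · exact (hzw ▸ hy2).eq
      have h3 : (⟨z, hz⟩ : (P : Subgroup G)) = ⟨v, hvP⟩ * w :=
        IsKleinFour.eq_mul_of_ne_all (fun h => ne_one_of_orderOf_two hv (congrArg Subtype.val h))
          hw1 (fun h => hwv (congrArg Subtype.val h).symm) hz1
          (fun h => hzv (congrArg Subtype.val h)) (fun h => hzw (congrArg Subtype.val h))
      rw [show z = v * (w : G) from congrArg Subtype.val h3]
      exact (hy1.mul_left hy2).eq
    have h4 := hpair _ hwo hwv (hvc _ w.2)
    rw [hcP, h4] at hn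
    rw [hk, hn]
    nlinarith [Nat.mul_le_mul_left (64 * n) hk3]
  · obtain ⟨f, hf, -, hfG⟩ := dihedral_bounds P D hone
    have hw : ∀ w ∈ (P : Subgroup G), orderOf w = 2 → w ≠ v →
        Nat.card (Subgroup.centralizer ({v, w} : Set G)) = 4 := fun w hwP hwo hne =>
      hpair w hwo hne (hvc w hwP)
    have hne : ∀ {τ' : G}, DihBlock.Data P σ τ' j → τ' ≠ v := fun {τ'} D' h => by
      have hc : Commute τ' σ := h ▸ hvc _ D'.memσ
      have h1 : σ⁻¹ = σ := by rw [← D'.rel, hc.eq, mul_inv_cancel_right]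
      have h4 : orderOf σ ∣ 2 :=
        orderOf_dvd_of_pow_eq_one (by rw [pow_two]; exact inv_eq_iff_mul_eq_one.1 h1)
      rw [D'.ordσ] at h4
      have := Nat.le_of_dvd two_pos h4
      have := DihBlock.two_le D'
      omega
    rw [hσv, hw τ D.memτ (DihBlock.orderOf_tau D) (hne D),
      hw (σ * τ) (DihBlock.swap D).memτ (DihBlock.orderOf_tau (DihBlock.swap D))
        (hne (DihBlock.swap D))] at hfG
    rw [← Nat.cast_le (α := ℚ)]
    push_cast
    rw [hfG]
    have hC0 : (0 : ℚ) ≤ (Nat.card (Subgroup.centralizer ({v} : Set G)) : ℚ) ^ 3 := by positivity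
    norm_num
    nlinarith

theorem perm_three : ∀ q : Equiv.Perm (Fin 3), q * q = 1 → ∀ i, q i = i → (∀ l, q l = l → l = i) →
    ∀ p : Equiv.Perm (Fin 3), p * q = q * p → p ^ 4 = 1 := by
  decide +kernel

theorem perm_five : ∀ q : Equiv.Perm (Fin 5), q * q = 1 → ∀ i, q i = i → (∀ l, q l = l → l = i) →
    ∀ p : Equiv.Perm (Fin 5), p * q = q * p → p ^ 4 = 1 := by
  decide +kernel

theorem perm_one : ∀ p : Equiv.Perm (Fin 1), p ^ 4 = 1 := fun _ => Subsingleton.elim _ _

/-- **One class of involutions in the group and in the subgroup: the subgroup is everything.** -/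
theorem eq_top_of_one_class (hcore : Cfsg.oddCore G = ⊥) (S : Sylow 2 G) {m : ℕ} (hm : 2 ≤ m)
    (eS : Nonempty ((S : Subgroup G) ≃* DihedralGroup m))
    (hone : ∀ s t : G, orderOf s = 2 → orderOf t = 2 → IsConj s t) (M : Subgroup G) {v : G}
    (hv : orderOf v = 2) (hC : Subgroup.centralizer ({v} : Set G) ≤ M)
    (honeM : ∀ s ∈ M, ∀ t ∈ M, orderOf s = 2 → orderOf t = 2 → ∃ g ∈ M, g * s * g⁻¹ = t)
    {a : G} (ha1 : a ≠ 1) (hao : Odd (orderOf a)) (hav : Commute a v) : M = ⊤ := by
  classical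
  haveI : Fact (Nat.Prime 2) := ⟨Nat.prime_two⟩
  by_contra hM
  have h5 := index_le_five S hm eS hone M hv hC honeM
  obtain ⟨P, hvP, hvc, -⟩ := exists_sylow_central S eS hone hv
  have hPM : (P : Subgroup G) ≤ M := fun x hx =>
    hC (Subgroup.mem_centralizer_singleton_iff.2 (hvc x hx).symm.eq)
  have hodd : ¬ 2 ∣ M.index := fun h => P.not_dvd_index (h.trans (Subgroup.index_dvd_of_le hPM))
  have hvM : v ∈ M := hPM hvP
  -- a conjugate of `v` lies in `M` only for the elements of `M`
  have hfix : ∀ g : G, g⁻¹ * v * g ∈ M → g ∈ M := by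
    intro g hg
    have ho : orderOf (g⁻¹ * v * g) = 2 := by
      have := conj_orderOf_two hv g⁻¹
      rwa [inv_inv] at this
    obtain ⟨h, hh, he⟩ := honeM v hvM _ hg hv ho
    have hc : g * h ∈ M := hC (Subgroup.mem_centralizer_singleton_iff.2 (by
      calc g * h * v = g * (h * v * h⁻¹) * h := by group
        _ = g * (g⁻¹ * v * g) * h := by rw [he]
        _ = v * (g * h) := by group))
    simpa using mul_mem hc (inv_mem hh)
  set ρ := MulAction.toPermHom G (G ⧸ M) with hρ
  have hker : ρ.ker = M.normalCore := M.normalCore_eq_ker.symm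
  have hkodd : (Nat.card ρ.ker).Coprime 2 := by
    rw [Nat.coprime_comm, Nat.prime_two.coprime_iff_not_dvd]
    intro h2
    obtain ⟨s, hs⟩ := exists_prime_orderOf_dvd_card' 2 h2
    obtain ⟨g, hg⟩ := isConj_iff.1 (hone (s : G) v (by rw [Subgroup.orderOf_coe, hs]) hv)
    have hvk : v ∈ ρ.ker := hg ▸ (inferInstance : ρ.ker.Normal).conj_mem _ s.2 g
    apply hM
    rw [eq_top_iff]
    intro g _
    refine hfix g ?_
    have h := (inferInstance : ρ.ker.Normal).conj_mem _ hvk g⁻¹
    rw [inv_inv] at h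
    rw [hker] at h
    exact M.normalCore_le h
  have hinj : Function.Injective ρ := by
    rw [← MonoidHom.ker_eq_bot_iff, eq_bot_iff, ← hcore]
    exact le_sSup ⟨inferInstance, hkodd⟩
  -- the action on the cosets
  have hn : M.index = Nat.card (G ⧸ M) := M.index_eq_card
  obtain ⟨π⟩ : Nonempty (G ⧸ M ≃ Fin M.index) := ⟨Finite.equivFinOfCardEq hn.symm⟩
  set θ : G →* Equiv.Perm (Fin M.index) := π.permCongrHom.toMonoidHom.comp ρ with hθ
  have hθinj : Function.Injective θ := π.permCongrHom.injective.comp hinj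
  have hθapp : ∀ (g : G) (x : G ⧸ M), θ g (π x) = π (g • x) := fun g x => by
    simp [hθ, hρ, Equiv.permCongrHom, Equiv.permCongr_apply]
  have hq1 : θ v * θ v = 1 := by rw [← map_mul, mul_self_of_orderOf_two hv, map_one]
  set i := π ((1 : G) : G ⧸ M)
  have hqi : θ v i = i := by
    rw [hθapp]
    congr 1
    rw [MulAction.Quotient.smul_mk, smul_eq_mul, mul_one, QuotientGroup.eq, mul_one]
    exact inv_mem hvM
  have hqu : ∀ l, θ v l = l → l = i := by
    intro l hl
    obtain ⟨x, rfl⟩ := π.surjective l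
    obtain ⟨g, rfl⟩ := QuotientGroup.mk_surjective x
    rw [hθapp] at hl
    have h := QuotientGroup.eq.1 (π.injective hl)
    congr 1
    refine (QuotientGroup.eq.2 ?_).symm
    rw [inv_one, one_mul]
    refine hfix g ?_
    have e' : g⁻¹ * v * g = ((v • g : G))⁻¹ * g := by
      rw [smul_eq_mul, mul_inv_rev, inv_of_orderOf_two hv]
    rw [e']
    exact h
  have hcomm : θ a * θ v = θ v * θ a := by rw [← map_mul, ← map_mul, hav.eq]
  have hp4 : θ a ^ 4 = 1 := by
    have hne1 : M.index ≠ 1 := fun h => hM (Subgroup.index_eq_one.1 h)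
    have hpos : 0 < M.index := Nat.pos_of_ne_zero Subgroup.index_ne_zero_of_finite
    generalize θ a = p at hcomm ⊢
    generalize θ v = q at hq1 hqi hqu hcomm
    clear_value i
    revert p q i
    obtain h | h : M.index = 3 ∨ M.index = 5 := by omega
    · rw [h]; exact fun i p q h1 h2 h3 h4 => perm_three q h1 i h2 h3 p h4
    · rw [h]; exact fun i p q h1 h2 h3 h4 => perm_five q h1 i h2 h3 p h4
  have ha4 : a ^ 4 = 1 := hθinj (by rw [map_pow, hp4, map_one])
  apply ha1
  rw [← orderOf_eq_one_iff]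
  exact Nat.eq_one_of_dvd_coprimes ((Nat.coprime_two_right.2 hao).pow_right 2) dvd_rfl
    (by simpa using orderOf_dvd_of_pow_eq_one ha4)

end CfsgLib.DGroup
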