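import Cfsg.Agent.Lib.DGroup.LocalFacts
import Cfsg.Agent.Lib.DGroup.Basic
import Cfsg.Agent.Lib.DGroup.Cyc
import Cfsg.Agent.Lib.DGroup.Index
import Cfsg.Agent.Lib.PSolvable.LocalConstrained
import Cfsg.Agent.Lib.ZJ.Complement
import Cfsg.Agent.Lib.Transfer.ThompsonBasics
import Cfsg.Agent.S1279
import Cfsg.Agent.S0217
import Cfsg.Agent.S0205

/-!
# A four group fused cyclically normalises no non-trivial `p`-group, `p` odd

In the core-free configuration with one class of involutions, a four group with an element permuting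
its involutions cyclically lies in no normaliser of a non-trivial subgroup of odd prime power order.
A counterexample may be moved by the ZJ-theorem to `Z(J(P))`, `P` a Sylow subgroup; the signalizer
functor on `Ω₁(Z(J(P)))` then gives a proper subgroup containing an involution centraliser and
controlling fusion of involutions.
-/

set_option autoImplicit false
set_option linter.style.haveILetI false
set_option linter.unusedSectionVars false

namespace CfsgLib.DGroup

open Cfsg CfsgLib CfsgLib.Invol CfsgLib.Transfer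

variable {G : Type*} [Group G]

theorem odd_orderOf_of_mem [Finite G] {Y : Subgroup G} (hY : Odd (Nat.card Y)) {y : G} (hy : y ∈ Y) :
    Odd (orderOf y) :=
  hY.of_dvd_nat (Subgroup.orderOf_dvd_natCard Y hy)

theorem odd_card_pGroup [Finite G] {p : ℕ} [hp : Fact p.Prime] (hp2 : p ≠ 2) {Y : Subgroup G}
    (hY : IsPGroup p Y) : Odd (Nat.card Y) := by
  obtain ⟨k, hk⟩ := IsPGroup.iff_card.1 hY
  rw [hk]
  exact (hp.out.odd_of_ne_two hp2).pow

theorem exists_involution_mem [Finite G] {C : Subgroup G} (h : ¬ Odd (Nat.card C)) :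
    ∃ t ∈ C, orderOf t = 2 := by
  obtain ⟨t, ht⟩ := exists_prime_orderOf_dvd_card' (G := C) (hp := ⟨Nat.prime_two⟩) 2
    (Nat.not_odd_iff_even.1 h).two_dvd
  exact ⟨t, t.2, by rw [Subgroup.orderOf_coe, ht]⟩

/-- Without four groups all involutions of a subgroup are conjugate in it. -/
theorem conj_in_of_no_four [Finite G] {C : Subgroup G}
    (h1 : ∀ s ∈ C, ∀ t ∈ C, orderOf s = 2 → orderOf t = 2 → Commute s t → s = t) {s t : G}
    (hs : s ∈ C) (ht : t ∈ C) (hs2 : orderOf s = 2) (ht2 : orderOf t = 2) :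
    ∃ c ∈ C, c * s * c⁻¹ = t := by
  have hcl : Subgroup.closure ({s, t} : Set G) ≤ C := (Subgroup.closure_le _).2 (by
    rintro x (rfl | rfl)
    exacts [hs, ht])
  rcases Nat.even_or_odd (orderOf (s * t)) with he | ho
  · have hu := orderOf_centralInvol s t he
    have huC : centralInvol s t ∈ C := hcl (centralInvol_mem_closure s t)
    have e1 := h1 _ huC _ hs hu hs2 (centralInvol_comm_left hs2 ht2 he)
    have e2 := h1 _ huC _ ht hu ht2 (centralInvol_comm_right hs2 ht2 he)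
    exact ⟨1, one_mem C, by rw [one_mul, inv_one, mul_one, ← e1, e2]⟩
  · obtain ⟨d, hd, e⟩ := exists_mem_closure_conj_of_odd hs2 ht2 ho
    exact ⟨d, hcl hd, e⟩

theorem OneClass.no_four_centralizer [Finite G] (h : OneClass G) {a : G} (ha1 : a ≠ 1)
    (hao : Odd (orderOf a)) {C : Subgroup G} (hC : ∀ c ∈ C, Commute c a) :
    ∀ s ∈ C, ∀ t ∈ C, orderOf s = 2 → orderOf t = 2 → Commute s t → s = t := by
  intro s hs t ht hs2 ht2 hc
  by_contra hne
  exact ha1 (h.cent.eq_one_of_four hs2 ht2 (Ne.symm hne) hc.symm hao (hC s hs).symm (hC t ht).symm)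

theorem OneClass.solvable_centralizer [Finite G] (h : OneClass G) {a : G} (ha1 : a ≠ 1)
    (hao : Odd (orderOf a)) : Group.IsSolvable ↥(Subgroup.centralizer ({a} : Set G)) :=
  solvable_of_no_four h.sylow _
    (h.no_four_centralizer ha1 hao fun _ hc => Subgroup.mem_centralizer_singleton_iff.1 hc)

/-- A non-trivial `p`-subgroup normalised by a cyclically fused four group. -/
def Fused (p : ℕ) (Y : Subgroup G) : Prop :=
  IsPGroup p Y ∧ Y ≠ ⊥ ∧ ∃ z k n : G, orderOf z = 2 ∧ orderOf k = 2 ∧ k ≠ z ∧ Commute k z ∧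
    z ∈ Subgroup.normalizer (Y : Set G) ∧ k ∈ Subgroup.normalizer (Y : Set G) ∧
    n ∈ Subgroup.normalizer (Y : Set G) ∧ Cyc z k n

theorem conj_mem_of_normalizer {Y : Subgroup G} {g y : G}
    (hg : g ∈ Subgroup.normalizer (Y : Set G)) (hy : y ∈ Y) : g * y * g⁻¹ ∈ Y :=
  (Subgroup.mem_normalizer_iff.1 hg y).1 hy

variable [Finite G] {p : ℕ} [hp : Fact p.Prime]

/-- No involution centralises a fused subgroup. -/
theorem Fused.no_invol (h : OneClass G) (hp2 : p ≠ 2) {Y : Subgroup G} (F : Fused p Y) {t : G}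
    (ht : orderOf t = 2) (htY : ∀ y ∈ Y, Commute t y) : False := by
  obtain ⟨hY, hY1, z, k, n, hz, hk, hne, hc, hzY, hkY, hnY, hn1, hn2⟩ := F
  have hYo := odd_card_pGroup hp2 hY
  obtain ⟨y₀, hy₀, hy₀1⟩ := (Subgroup.bot_or_exists_ne_one Y).resolve_left hY1
  have hy₀o := odd_orderOf_of_mem hYo hy₀
  set C := Subgroup.centralizer (Y : Set G)
  have hCc : ∀ c ∈ C, ∀ y ∈ Y, Commute c y := fun c hc y hy => (hc y hy).symm
  have hfour := h.no_four_centralizer hy₀1 hy₀o (C := C) fun c hc => hCc c hc y₀ hy₀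
  have htC : t ∈ C := fun y hy => (htY y hy).eq.symm
  obtain ⟨A, x, d⟩ := h.cent t ht
  have hsign : (∀ y ∈ Y, z * y * z⁻¹ = y) ∨ (∀ y ∈ Y, z * y * z⁻¹ = y⁻¹) := by
    have hzt : z * t * z⁻¹ ∈ C := fun y hy => by
      have h' : z⁻¹ * y * z ∈ Y := by
        simpa using conj_mem_of_normalizer (inv_mem hzY) hy
      have e := (htY _ h').eq
      calc y * (z * t * z⁻¹) = z * ((z⁻¹ * y * z) * t) * z⁻¹ := by group
        _ = z * (t * (z⁻¹ * y * z)) * z⁻¹ := by rw [e]
        _ = z * t * z⁻¹ * y := by group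
    obtain ⟨c, hcC, hce⟩ := conj_in_of_no_four hfour htC hzt ht (conj_orderOf_two ht z)
    have hgt : Commute (c⁻¹ * z) t := by
      show c⁻¹ * z * t = t * (c⁻¹ * z)
      calc c⁻¹ * z * t = c⁻¹ * (z * t * z⁻¹) * z := by group
        _ = c⁻¹ * (c * t * c⁻¹) * z := by rw [hce]
        _ = t * (c⁻¹ * z) := by group
    have hrew : ∀ y ∈ Y, z * y * z⁻¹ = c⁻¹ * z * y * (c⁻¹ * z)⁻¹ := fun y hy => by
      have hz' := (hCc c⁻¹ (inv_mem hcC) _ (conj_mem_of_normalizer hzY hy)).eq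
      symm
      calc c⁻¹ * z * y * (c⁻¹ * z)⁻¹ = c⁻¹ * (z * y * z⁻¹) * c := by group
        _ = z * y * z⁻¹ * c⁻¹ * c := by rw [hz']
        _ = z * y * z⁻¹ := by group
    by_cases hgA : c⁻¹ * z ∈ A
    · refine Or.inl fun y hy => ?_
      rw [hrew y hy, d.comm _ hgA _ (d.odd_mem (odd_orderOf_of_mem hYo hy) (htY y hy).symm),
        mul_inv_cancel_right]
    · refine Or.inr fun y hy => ?_
      rw [hrew y hy, d.inv_outside hgt hgA (d.odd_mem (odd_orderOf_of_mem hYo hy) (htY y hy).symm)]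
  have hback : ∀ y ∈ Y, n⁻¹ * y * n ∈ Y := fun y hy => by
    simpa using conj_mem_of_normalizer (inv_mem hnY) hy
  have hkz : ∀ y, k * y * k⁻¹ = n * (z * (n⁻¹ * y * n) * z⁻¹) * n⁻¹ := fun y => by
    rw [← hn1]; group
  have hzkk : ∀ y, z * (k * y * k⁻¹) * z⁻¹ = n * (k * (n⁻¹ * y * n) * k⁻¹) * n⁻¹ := fun y => by
    rw [show z * (k * y * k⁻¹) * z⁻¹ = (z * k) * y * (z * k)⁻¹ by group, ← hn2]; group
  rcases hsign with h1 | h1
  · have h2 : ∀ y ∈ Y, k * y * k⁻¹ = y := fun y hy => by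
      rw [hkz, h1 _ (hback y hy)]; group
    exact hy₀1 (h.cent.eq_one_of_four hz hk hne hc hy₀o
      (show y₀ * z = z * y₀ from (mul_inv_eq_iff_eq_mul.1 (h1 y₀ hy₀)).symm)
      (show y₀ * k = k * y₀ from (mul_inv_eq_iff_eq_mul.1 (h2 y₀ hy₀)).symm))
  · have h2 : ∀ y ∈ Y, k * y * k⁻¹ = y⁻¹ := fun y hy => by
      rw [hkz, h1 _ (hback y hy)]; group
    have e := hzkk y₀
    rw [h2 _ hy₀, h1 _ (inv_mem hy₀), inv_inv, h2 _ (hback y₀ hy₀)] at e
    refine hy₀1 (eq_one_of_odd_sq hy₀o ?_)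
    nth_rw 1 [e]
    group

/-- ZJ-factorisation. -/
theorem zJ_sup {X : Type*} [Group X] [Finite X] (hp2 : p ≠ 2) (hc : Cfsg.IsPConstrained p X)
    (hQ : ¬ Cfsg.Involves ↥(Cfsg.qd p) X) (S : Sylow p X) :
    Cfsg.pPrimeCore p X ⊔ Subgroup.normalizer (ZJ.zJ 0 (S : Subgroup X) : Set X) = ⊤ := by
  haveI := Transfer.pPrimeCore_normal p X
  set f := QuotientGroup.mk' (Cfsg.pPrimeCore p X) with hf
  have hsurj : Function.Surjective f := QuotientGroup.mk'_surjective _
  have hker : (Nat.card f.ker).Coprime p := by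
    rw [hf, QuotientGroup.ker_mk']; exact pPrimeCore_coprime p
  have hinj : Set.InjOn f ((S : Subgroup X) : Set X) := fun a ha b hb h => by
    refine inv_mul_eq_one.mp (PSolvable.eq_one_of_mem_of_mem S.2 hker (mul_mem (inv_mem ha) hb) ?_)
    rw [MonoidHom.mem_ker, map_mul, map_inv, h, inv_mul_cancel]
  rw [PSolvable.isPConstrained_iff] at hc
  let S' : Sylow p (X ⧸ Cfsg.pPrimeCore p X) := S.mapSurjective hsurj
  have hS' : (S' : Subgroup _) = (S : Subgroup X).map f := Sylow.coe_mapSurjective _ _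
  haveI := ZJ.zJ_characteristic hp2 (Or.inl rfl) S' hc
    (Qd.stableAt_of_qdFree hp2 (Qd.not_involves_quotient _ hQ) _)
  have hn : (ZJ.zJ 0 (S' : Subgroup (X ⧸ Cfsg.pPrimeCore p X))).Normal := inferInstance
  rw [hS', ← ZJ.map_zJ 0 f hinj] at hn
  have h : (Subgroup.normalizer (ZJ.zJ 0 (S : Subgroup X) : Set X)).map f = ⊤ := by
    rw [PSolvable.map_normalizer_eq hsurj hker (S.2.to_le (ZJ.zJ_le 0 _))]
    exact Subgroup.normalizer_eq_top_iff.mpr hn
  have h2 := congrArg (Subgroup.comap f) h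
  rwa [Subgroup.comap_map_eq, Subgroup.comap_top, hf, QuotientGroup.ker_mk', sup_comm] at h2

/-- `Z(J(P))` of a Sylow subgroup of the normaliser of a fused subgroup is fused. -/
theorem Fused.zJ_fused (h : OneClass G) (hp2 : p ≠ 2) {Y : Subgroup G} (F : Fused p Y)
    {N : Subgroup G} (hN : Subgroup.normalizer (Y : Set G) = N) (P : Sylow p ↥N) :
    Fused p (ZJ.zJ 0 ((P : Subgroup ↥N).map N.subtype)) := by
  have F' := F
  obtain ⟨hY, hY1, z, k, n, hz, hk, hne, hc, hzY, hkY, hnY, hn1, hn2⟩ := F'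
  rw [hN] at hzY hkY hnY
  have hYN : Y ≤ N := hN ▸ Subgroup.le_normalizer
  set Y' := Y.subgroupOf N
  haveI : Y'.Normal := (Subgroup.normal_subgroupOf_iff_le_normalizer hYN).2 hN.ge
  have hY'p : IsPGroup p Y' := hY.comap_of_injective N.subtype N.subtype_injective
  set C := Subgroup.centralizer (Y' : Set ↥N)
  have hCo : Odd (Nat.card C) := by
    by_contra hev
    obtain ⟨t, htC, ht⟩ := exists_involution_mem hev
    exact F.no_invol h hp2 (t := (t : G)) (by rw [Subgroup.orderOf_coe, ht]) fun y hy =>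
      (congrArg Subtype.val (htC ⟨y, hYN hy⟩ hy)).symm
  have hcon : Cfsg.IsPConstrained p ↥N := PSolvable.isPConstrained_of_centralizer Y' hY'p
    (PSolvable.isPConstrained_of_isPSolvable
      (PSolvable.isPSolvable_of_isSolvable (Cfsg.Agent.S0205.result hCo)))
  set K := Cfsg.pPrimeCore p ↥N with hKdef
  haveI : K.Normal := Transfer.pPrimeCore_normal p _
  have hKC : K ≤ C := fun x hx y hy => (Subgroup.commute_of_normal_of_disjoint K Y' inferInstance
    inferInstance (by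
      rw [Subgroup.disjoint_def]
      intro w hw hw'
      exact PSolvable.eq_one_of_mem_of_mem hY'p (pPrimeCore_coprime p) hw' hw) x y hx hy).eq.symm
  have hKo : Odd (Nat.card K) := hCo.of_dvd_nat (Subgroup.card_dvd_of_le hKC)
  have hsup := zJ_sup hp2 hcon (Qd.not_involves_subgroup N (not_involves_qd hp2 h.sylow)) P
  set z₁ : N := ⟨z, hzY⟩
  set k₁ : N := ⟨k, hkY⟩
  set n₁ : N := ⟨n, hnY⟩
  set V := Subgroup.zpowers z₁ ⊔ Subgroup.zpowers k₁ with hVdef
  have hzV : z₁ ∈ V := Subgroup.mem_sup_left (Subgroup.mem_zpowers _)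
  have hkV : k₁ ∈ V := Subgroup.mem_sup_right (Subgroup.mem_zpowers _)
  have hV : IsPGroup 2 V := by
    rw [hVdef, sup_comm]
    haveI : Fact (Nat.Prime 2) := ⟨Nat.prime_two⟩
    refine (CycZ.pGroup_zpowers (k := 1) ?_).to_sup_of_normal_right'
      (CycZ.pGroup_zpowers (k := 1) ?_) (le_trans ?_ (Subgroup.centralizer_le_normalizer _))
    · exact Subtype.ext (by rw [pow_one, pow_two]; exact mul_self_of_orderOf_two hk)
    · exact Subtype.ext (by rw [pow_one, pow_two]; exact mul_self_of_orderOf_two hz)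
    · rw [Subgroup.zpowers_le]
      rintro _ ⟨i, rfl⟩
      exact (Commute.zpow_left (Subtype.ext hc.symm.eq : Commute z₁ k₁) i).eq
  have hVn : ∀ v ∈ V, n₁ * v * n₁⁻¹ ∈ V := by
    have hle : V.map (MulAut.conj n₁).toMonoidHom ≤ V := by
      rw [hVdef, Subgroup.map_sup, MonoidHom.map_zpowers, MonoidHom.map_zpowers]
      refine sup_le ?_ ?_
      · rw [Subgroup.zpowers_le, show (MulAut.conj n₁).toMonoidHom z₁ = k₁ from Subtype.ext hn1]
        exact hkV
      · rw [Subgroup.zpowers_le,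
          show (MulAut.conj n₁).toMonoidHom k₁ = z₁ * k₁ from Subtype.ext hn2]
        exact mul_mem hzV hkV
    exact fun v hv => hle ⟨v, hv, rfl⟩
  obtain ⟨φ, hφinj, hφM, -, hφn⟩ := exists_lift_two K hKo _ hsup V hV
  obtain ⟨m, hm, hme⟩ := hφn n₁ hVn
  set W := ZJ.zJ 0 ((P : Subgroup ↥N).map N.subtype) with hWdef
  have hW : (ZJ.zJ 0 (P : Subgroup ↥N)).map N.subtype = W :=
    ZJ.map_zJ 0 N.subtype N.subtype_injective.injOn
  have hlift : ∀ {x : N}, x ∈ Subgroup.normalizer (ZJ.zJ 0 (P : Subgroup ↥N) : Set ↥N) →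
      (x : G) ∈ Subgroup.normalizer (W : Set G) := fun {x} hx => by
    rw [← hW]; exact Subgroup.le_normalizer_map N.subtype ⟨x, hx, rfl⟩
  have hWp : IsPGroup p W := (P.2.map _).to_le (ZJ.zJ_le 0 _)
  refine ⟨hWp, fun hbot => ?_, ((φ ⟨z₁, hzV⟩ : N) : G), ((φ ⟨k₁, hkV⟩ : N) : G), (m : G), ?_, ?_,
    ?_, ?_, hlift (hφM _), hlift (hφM _), hlift hm, ?_, ?_⟩
  · have hP1 : (P : Subgroup ↥N) ≠ ⊥ := P.ne_bot_of_dvd_card (by
      haveI : Nontrivial Y := (Subgroup.nontrivial_iff_ne_bot Y).2 hY1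
      obtain ⟨j, hj0, hj⟩ := hY.nontrivial_iff_card.mp inferInstance
      exact (dvd_pow_self p hj0.ne').trans (hj ▸ Subgroup.card_dvd_of_le hYN))
    obtain ⟨w, hw, hw1, -⟩ := ZJ.zJ_ne_bot (e := 0) (Or.inl rfl) (P.2.map N.subtype)
      (fun e => hP1 ((Subgroup.map_eq_bot_iff_of_injective _ N.subtype_injective).1 e))
    rw [← hWdef, hbot, Subgroup.mem_bot] at hw
    exact hw1 hw
  · rw [Subgroup.orderOf_coe, orderOf_injective φ hφinj, Subgroup.orderOf_mk, Subgroup.orderOf_mk,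
      hz]
  · rw [Subgroup.orderOf_coe, orderOf_injective φ hφinj, Subgroup.orderOf_mk, Subgroup.orderOf_mk,
      hk]
  · intro e
    have e' := hφinj (Subtype.ext e)
    exact hne (congrArg (fun v : V => ((v : N) : G)) e')
  · refine congrArg Subtype.val (show φ ⟨k₁, hkV⟩ * φ ⟨z₁, hzV⟩ = φ ⟨z₁, hzV⟩ * φ ⟨k₁, hkV⟩ from ?_)
    rw [← map_mul, ← map_mul]
    exact congrArg φ (Subtype.ext (Subtype.ext hc.eq))
  · refine congrArg Subtype.val (show m * φ ⟨z₁, hzV⟩ * m⁻¹ = φ ⟨k₁, hkV⟩ from ?_)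
    rw [hme]
    exact congrArg φ (Subtype.ext (Subtype.ext hn1))
  · refine congrArg Subtype.val
      (show m * φ ⟨k₁, hkV⟩ * m⁻¹ = φ ⟨z₁, hzV⟩ * φ ⟨k₁, hkV⟩ from ?_)
    rw [hme, ← map_mul]
    exact congrArg φ (Subtype.ext (Subtype.ext hn2))

theorem card_le_of_pGroup_le {H R : Subgroup G} (hR : IsPGroup p R) (hle : R ≤ H) :
    Nat.card R ≤ p ^ (Nat.card H).factorization p := by
  obtain ⟨S, hS⟩ := (hR.comap_of_injective H.subtype H.subtype_injective).exists_le_sylow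
  rw [← S.card_eq_multiplicity, ← Nat.card_congr (Subgroup.subgroupOfEquivOfLe hle).toEquiv]
  exact Nat.le_of_dvd Nat.card_pos (Subgroup.card_dvd_of_le hS)

/-- A fused `Z(J(P))` for a Sylow subgroup `P`. -/
theorem Fused.exists_sylow (h : OneClass G) (hp2 : p ≠ 2) {Y₀ : Subgroup G} (F₀ : Fused p Y₀) :
    ∃ P : Sylow p G, Fused p (ZJ.zJ 0 (P : Subgroup G)) := by
  classical
  haveI := Fintype.ofFinite (Subgroup G)
  obtain ⟨Y, hY, hmax⟩ := Finset.exists_max_image
    (Finset.univ.filter fun Y : Subgroup G => Fused p Y)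
    (fun Y => p ^ (Nat.card (Subgroup.normalizer (Y : Set G))).factorization p) ⟨Y₀, by simpa⟩
  simp only [Finset.mem_filter, Finset.mem_univ, true_and] at hY hmax
  set N := Subgroup.normalizer (Y : Set G)
  obtain ⟨P₀⟩ : Nonempty (Sylow p ↥N) := inferInstance
  set Q := (P₀ : Subgroup ↥N).map N.subtype
  have FW := hY.zJ_fused h hp2 rfl P₀
  obtain ⟨T, hQT⟩ := (P₀.2.map N.subtype).exists_le_sylow
  by_cases heq : Q = (T : Subgroup G)
  · exact ⟨T, heq ▸ FW⟩
  exfalso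
  haveI : Group.IsNilpotent (T : Subgroup G) := T.2.isNilpotent
  have hlt : Q.subgroupOf (T : Subgroup G) < ⊤ := lt_top_iff_ne_top.2 fun e =>
    heq (le_antisymm hQT (Subgroup.subgroupOf_eq_top.1 e))
  obtain ⟨g, hg, hgQ⟩ := SetLike.exists_of_lt
    (Group.normalizerCondition_of_isNilpotent _ hlt)
  set R := (T : Subgroup G) ⊓ Subgroup.normalizer (Q : Set G)
  have hgR : (g : G) ∈ R := ⟨g.2, by
    have h' := Subgroup.le_normalizer_map (T : Subgroup G).subtype ⟨g, hg, rfl⟩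
    rwa [Subgroup.map_subgroupOf_eq_of_le hQT] at h'⟩
  have hQR : Q < R := lt_of_le_of_ne (le_inf hQT Subgroup.le_normalizer)
    fun e => hgQ (show (g : G) ∈ Q from e ▸ hgR)
  have hRW : R ≤ Subgroup.normalizer (ZJ.zJ 0 Q : Set G) :=
    inf_le_right.trans (ZJ.normalizer_le_normalizer_zJ 0 Q)
  have h1 := card_le_of_pGroup_le (T.2.to_le inf_le_left : IsPGroup p R) hRW
  have h2 : Nat.card Q = p ^ (Nat.card N).factorization p := by
    rw [Subgroup.card_map_of_injective N.subtype_injective, P₀.card_eq_multiplicity]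
  have h3 : p ^ (Nat.card (Subgroup.normalizer (ZJ.zJ 0 Q : Set G))).factorization p ≤
      p ^ (Nat.card N).factorization p := hmax _ FW
  have h4 : Nat.card Q < Nat.card R := by
    refine lt_of_le_of_ne (Nat.le_of_dvd Nat.card_pos (Subgroup.card_dvd_of_le hQR.le)) fun e => ?_
    exact hQR.ne (Subgroup.eq_of_le_of_card_ge hQR.le e.ge)
  omega

/-- `J(P)` is determined inside any Sylow subgroup containing it. -/
theorem thompsonJ_sylow_eq (P T : Sylow p G) (h : thompsonJ 0 (P : Subgroup G) ≤ (T : Subgroup G)) :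
    thompsonJ 0 (T : Subgroup G) = thompsonJ 0 (P : Subgroup G) := by
  obtain ⟨g, hg⟩ := exists_map_conj_sylow_eq T P
  have hinj := (MulEquiv.injective (MulAut.conj g)).injOn (s := ((T : Subgroup G) : Set G))
  have hcard : Nat.card (thompsonJ 0 (P : Subgroup G)) = Nat.card (thompsonJ 0 (T : Subgroup G)) := by
    rw [← hg, ← map_thompsonJ 0 _ hinj,
      Subgroup.card_map_of_injective (MulEquiv.injective (MulAut.conj g))]
  refine (Subgroup.eq_of_le_of_card_ge (sSup_le fun A hA => le_sSup ?_) hcard.ge).symm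
  refine ⟨(le_sSup hA).trans h, hA.2.1, fun B hB hBe => ?_⟩
  rw [← card_map_of_injOn (MulAut.conj g).toMonoidHom (hinj.mono hB)]
  exact hA.2.2 _ (hg ▸ Subgroup.map_mono hB)
    ((isAbExp_map_iff 0 _ (hinj.mono hB)).2 hBe)

theorem centralizer_inv_singleton (a : G) :
    Subgroup.centralizer ({a⁻¹} : Set G) = Subgroup.centralizer ({a} : Set G) := by
  ext c
  rw [Subgroup.mem_centralizer_singleton_iff, Subgroup.mem_centralizer_singleton_iff]
  exact ⟨fun e => by simpa using (Commute.inv_right (show Commute c a⁻¹ from e)).eq,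
    fun e => (Commute.inv_right (show Commute c a from e)).eq⟩

theorem centralizerPPrimeCore_inv (a : G) :
    Cfsg.centralizerPPrimeCore p a⁻¹ = Cfsg.centralizerPPrimeCore p a := by
  unfold Cfsg.centralizerPPrimeCore
  rw [centralizer_inv_singleton]

/-- An involution centraliser lies in `M` once that of an element it centralises does. -/
theorem OneClass.centralizer_le (h : OneClass G) {M : Subgroup G} {v w e : G} (hv : orderOf v = 2)
    (hw : orderOf w = 2) (hne : w ≠ v) (hwv : Commute w v) (hwM : w ∈ M)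
    (heo : Odd (orderOf e)) (hev : Commute e v)
    (heM : Subgroup.centralizer ({e} : Set G) ≤ M) : Subgroup.centralizer ({v} : Set G) ≤ M := by
  obtain ⟨A, x, d⟩ := h.cent v hv
  have hA : ∀ b ∈ A, b ∈ M := fun b hb =>
    heM (Subgroup.mem_centralizer_singleton_iff.2 (d.comm _ hb _ (d.odd_mem heo hev)))
  intro c hc
  by_cases hcA : c ∈ A
  · exact hA c hcA
  · have h1 := hA _ (d.mul_mem_outside hwv (d.not_mem_of_invol hw hne)
      (Subgroup.mem_centralizer_singleton_iff.1 hc) hcA)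
    simpa using mul_mem (inv_mem hwM) h1

/-- A non-trivial element of `C(z)` which is a square has `z` among its powers. -/
theorem OneClass.mem_zpowers_sq (h : OneClass G) {z y : G} (hz : orderOf z = 2) (hy : Commute y z)
    {i : ℕ} (ho : orderOf (y * y) = 2 ^ i) (h1 : y * y ≠ 1) : z ∈ Subgroup.zpowers (y * y) := by
  obtain ⟨A, x, d⟩ := h.cent z hz
  have hyA : y ∈ A := by
    by_contra hyA
    exact h1 (d.sq_outside hy hyA)
  have h2 : 2 ∣ orderOf (y * y) := by
    rw [ho]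
    refine dvd_pow_self 2 fun h0 => h1 ?_
    rw [h0, pow_zero] at ho
    exact orderOf_eq_one_iff.1 ho
  set w := (y * y) ^ (orderOf (y * y) / 2) with hw
  have hw2 : orderOf w = 2 := orderOf_pow_orderOf_div (orderOf_pos _).ne' h2
  rcases d.uniq w (pow_mem (mul_mem hyA hyA) _) (mul_self_of_orderOf_two hw2) with e | e
  · exact absurd e (ne_one_of_orderOf_two hw2)
  · exact e ▸ pow_mem (Subgroup.mem_zpowers _) _

/-- A fused four group has a non-trivial fixed element on each of its involutions in an abelian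
fused group, and these fixed groups form a direct product. -/
theorem fixed_points (h : OneClass G) (hp2 : p ≠ 2) {E : Subgroup G} (hE : IsPGroup p E)
    (hEc : ∀ a ∈ E, ∀ b ∈ E, a * b = b * a) (hE1 : E ≠ ⊥) {z k n : G} (hz : orderOf z = 2)
    (hk : orderOf k = 2) (hne : k ≠ z) (hc : Commute k z)
    (hzE : z ∈ Subgroup.normalizer (E : Set G)) (hkE : k ∈ Subgroup.normalizer (E : Set G))
    (hnE : n ∈ Subgroup.normalizer (E : Set G)) (hn : Cyc z k n) :
    (∃ a ∈ E, a ≠ 1 ∧ Commute a z) ∧ (∃ a ∈ E, a ≠ 1 ∧ Commute a k) ∧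
      (∃ a ∈ E, a ≠ 1 ∧ Commute a (z * k)) ∧ p ^ 3 ≤ Nat.card E := by
  have hodd := odd_card_pGroup hp2 hE
  have hEo : ∀ {e : G}, e ∈ E → Odd (orderOf e) := fun he => odd_orderOf_of_mem hodd he
  obtain ⟨hn1, hn2⟩ := hn
  have hzk : orderOf (z * k) = 2 := orderOf_two_of_mul_self
    (by rw [hc.mul_mul_mul_comm, mul_self_of_orderOf_two hz, mul_self_of_orderOf_two hk, mul_one])
    fun e => hne (by rw [← inv_of_orderOf_two hz]; exact eq_inv_of_mul_eq_one_right e)
  have hzkE := mul_mem hzE hkE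
  have step : ∀ {v w : G}, n * v * n⁻¹ = w → (∃ a ∈ E, a ≠ 1 ∧ Commute a v) →
      ∃ a ∈ E, a ≠ 1 ∧ Commute a w := by
    rintro v w rfl ⟨a, ha, ha1, hav⟩
    exact ⟨n * a * n⁻¹, conj_mem_of_normalizer hnE ha, fun e => ha1 (conj_eq_one_iff.1 e),
      Commute.conj hav n⟩
  have hn3 : n * (z * k) * n⁻¹ = z := by
    rw [show n * (z * k) * n⁻¹ = n * z * n⁻¹ * (n * k * n⁻¹) by group, hn1, hn2, ← mul_assoc,
      hc.eq, mul_assoc, mul_self_of_orderOf_two hk, mul_one]
  have none : ∀ {v : G}, orderOf v = 2 → v ∈ Subgroup.normalizer (E : Set G) →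
      ¬ (∃ a ∈ E, a ≠ 1 ∧ Commute a v) → ∀ e ∈ E, v * e * v⁻¹ = e⁻¹ := by
    intro v hv hvE hno e he
    have hm := conj_mem_of_normalizer hvE he
    refine eq_inv_of_mul_eq_one_right (?_ : e * (v * e * v⁻¹) = 1)
    by_contra h1
    refine hno ⟨_, mul_mem he hm, h1, ?_⟩
    show e * (v * e * v⁻¹) * v = v * (e * (v * e * v⁻¹))
    calc e * (v * e * v⁻¹) * v = e * (v * e * v⁻¹) * v := rfl
      _ = v * e * v⁻¹ * e * v := by rw [hEc e he _ hm]
      _ = v * (e * (v⁻¹ * e * v)) := by group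
      _ = v * (e * (v * e * v⁻¹)) := by rw [inv_of_orderOf_two hv]
  have hz' : ∃ a ∈ E, a ≠ 1 ∧ Commute a z := by
    by_contra h1
    have h3 : ¬ ∃ a ∈ E, a ≠ 1 ∧ Commute a (z * k) := fun e => h1 (step hn3 e)
    have h2 : ¬ ∃ a ∈ E, a ≠ 1 ∧ Commute a k := fun e => h3 (step hn2 e)
    obtain ⟨e, he, he1⟩ := (Subgroup.bot_or_exists_ne_one E).resolve_left hE1
    have h4 := none hzk hzkE h3 e he
    rw [show z * k * e * (z * k)⁻¹ = z * (k * e * k⁻¹) * z⁻¹ by group, none hk hkE h2 e he,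
      none hz hzE h1 _ (inv_mem he), inv_inv] at h4
    exact he1 (eq_one_of_odd_sq (hEo he) (by nth_rw 1 [h4]; group))
  have hk' := step hn1 hz'
  have hzk' := step hn2 hk'
  refine ⟨hz', hk', hzk', ?_⟩
  -- the direct product
  letI : CommGroup ↥E :=
    { (inferInstance : Group ↥E) with mul_comm := fun a b => Subtype.ext (hEc _ a.2 _ b.2) }
  let F : G → Subgroup G := fun v => E ⊓ Subgroup.centralizer ({v} : Set G)
  have hF : ∀ {v a : G}, a ∈ F v → Commute a v := fun {v a} ha =>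
    Subgroup.mem_centralizer_singleton_iff.1 ha.2
  have hcard : ∀ {v : G}, (∃ a ∈ E, a ≠ 1 ∧ Commute a v) → p ≤ Nat.card (F v) := by
    rintro v ⟨a, ha, ha1, hav⟩
    have hmem : a ∈ F v := ⟨ha, Subgroup.mem_centralizer_singleton_iff.2 hav⟩
    obtain ⟨j, hj⟩ := (hE.to_le (inf_le_left : F v ≤ E)).exists_card_eq
    rw [hj]
    refine Nat.le_of_dvd (pow_pos hp.out.pos _) (dvd_pow_self p fun h0 => ha1 ?_)
    rw [h0, pow_zero] at hj
    exact Subgroup.eq_bot_of_card_eq _ hj ▸ hmem |> Subgroup.mem_bot.1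
  let ι : ∀ v : G, ↥(F v) →* ↥E := fun v => Subgroup.inclusion inf_le_left
  let π : ↥(F z) × ↥(F k) × ↥(F (z * k)) →* ↥E := (ι z).coprod ((ι k).coprod (ι (z * k)))
  have hπ : Function.Injective π := by
    refine (injective_iff_map_eq_one π).2 ?_
    rintro ⟨⟨a, ha⟩, ⟨b, hb⟩, ⟨c, hc'⟩⟩ h1
    have habc : a * (b * c) = 1 := congrArg Subtype.val h1
    have hzzk : Commute z (z * k) := (Commute.refl z).mul_right hc.symm
    have hkzk : Commute k (z * k) := hc.mul_right (Commute.refl k)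
    have hzne : z ≠ z * k := fun e => ne_one_of_orderOf_two hk (mul_eq_left.1 e.symm)
    have hkne : k ≠ z * k := fun e => ne_one_of_orderOf_two hz (mul_eq_right.1 e.symm)
    have ezb := h.cent.inv_odd hk hz hne.symm hc.symm (hEo hb.1) (hF hb)
    have ezc := h.cent.inv_odd hzk hz hzne hzzk (hEo hc'.1) (hF hc')
    have eka := h.cent.inv_odd hz hk hne hc (hEo ha.1) (hF ha)
    have ekc := h.cent.inv_odd hzk hk hkne hkzk (hEo hc'.1) (hF hc')
    have eza : z * a * z⁻¹ = a := by rw [← (hF ha).eq, mul_inv_cancel_right]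
    have ekb : k * b * k⁻¹ = b := by rw [← (hF hb).eq, mul_inv_cancel_right]
    have h2 : a * (b⁻¹ * c⁻¹) = 1 := by
      rw [← eza, ← ezb, ← ezc, show z * a * z⁻¹ * (z * b * z⁻¹ * (z * c * z⁻¹)) =
        z * (a * (b * c)) * z⁻¹ by group, habc]; group
    have h3 : a⁻¹ * (b * c⁻¹) = 1 := by
      rw [← eka, ← ekb, ← ekc, show k * a * k⁻¹ * (k * b * k⁻¹ * (k * c * k⁻¹)) =
        k * (a * (b * c)) * k⁻¹ by group, habc]; group
    have hbc : b⁻¹ * c⁻¹ = (b * c)⁻¹ := by rw [mul_inv_rev, hEc _ (inv_mem hb.1) _ (inv_mem hc'.1)]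
    have ea : a = 1 := by
      refine eq_one_of_odd_sq (hEo ha.1) ?_
      rw [hbc, mul_inv_eq_one] at h2
      rwa [← h2] at habc
    subst ea
    rw [one_mul] at habc
    rw [inv_one, one_mul, mul_inv_eq_one] at h3
    subst h3
    have eb : b = 1 := eq_one_of_odd_sq (hEo hb.1) habc
    subst eb
    rfl
  calc p ^ 3 = p * (p * p) := by ring
    _ ≤ Nat.card (F z) * (Nat.card (F k) * Nat.card (F (z * k))) :=
        Nat.mul_le_mul (hcard hz') (Nat.mul_le_mul (hcard hk') (hcard hzk'))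
    _ = Nat.card (↥(F z) × ↥(F k) × ↥(F (z * k))) := by rw [Nat.card_prod, Nat.card_prod]
    _ ≤ Nat.card E := Nat.card_le_card_of_injective π hπ

/-- The signalizer functor step: `N(Z(J(P)))` and all `C(a)`, `a ∈ Ω₁(Z(J(P)))`, lie in a maximal
subgroup. -/
theorem exists_maximal_local (h : OneClass G) (hp2 : p ≠ 2) {P : Sylow p G}
    (FW : Fused p (ZJ.zJ 0 (P : Subgroup G))) :
    ∃ (M E : Subgroup G), IsCoatom M ∧ E ≤ ZJ.zJ 0 (P : Subgroup G) ∧
      Subgroup.normalizer (ZJ.zJ 0 (P : Subgroup G) : Set G) ≤ M ∧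
      Subgroup.normalizer (ZJ.zJ 0 (P : Subgroup G) : Set G) ≤ Subgroup.normalizer (E : Set G) ∧
      Fused p E ∧ (∀ a ∈ E, a ≠ 1 → Subgroup.centralizer ({a} : Set G) ≤ M) ∧
      ∀ a ∈ E, a ≠ 1 → ∀ c ∈ Subgroup.centralizer ({a} : Set G),
        ∃ κ ∈ Cfsg.centralizerPPrimeCore p a,
        ∃ m ∈ Subgroup.normalizer (ZJ.zJ 0 (P : Subgroup G) : Set G) ⊓
          Subgroup.centralizer ({a} : Set G), c = κ * m := by
  set W := ZJ.zJ 0 (P : Subgroup G) with hWdef
  set M₀ := Subgroup.normalizer (W : Set G) with hM₀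
  obtain ⟨hW, hW1, z, k, n, hz, hk, hne, hc, hzW, hkW, hnW, hn⟩ := FW
  set E := Cfsg.omegaOne p W with hEdef
  have hWc : ∀ a ∈ W, ∀ b ∈ W, a * b = b * a := fun a ha b hb => hb.2 a ha.1
  have hEW : E ≤ W := ZJ.omegaOne_le p W
  have hEc : ∀ a ∈ E, ∀ b ∈ E, a * b = b * a := fun a ha b hb => hWc a (hEW ha) b (hEW hb)
  have hEexp : ∀ a ∈ E, a ^ p = 1 := fun a ha => by
    induction ha using Subgroup.closure_induction with
    | mem x hx => exact hx.2
    | one => exact one_pow p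
    | mul x y hx hy ex ey =>
      rw [(show Commute x y from hEc x hx y hy).mul_pow, ex, ey, mul_one]
    | inv x _ ex => rw [inv_pow, ex, inv_one]
  have hEp : IsPGroup p E := hW.to_le hEW
  have hNE : M₀ ≤ Subgroup.normalizer (E : Set G) := ZJ.normalizer_le_normalizer_omegaOne p W
  have hE1 : E ≠ ⊥ := by
    haveI : Nontrivial W := (Subgroup.nontrivial_iff_ne_bot W).2 hW1
    obtain ⟨j, hj0, hj⟩ := hW.nontrivial_iff_card.mp inferInstance
    obtain ⟨w, hw⟩ := exists_prime_orderOf_dvd_card' (G := W) p (hj ▸ dvd_pow_self p hj0.ne')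
    intro e
    have hwE : (w : G) ∈ E := Subgroup.subset_closure ⟨w.2, by
      rw [← SubmonoidClass.coe_pow, ← hw, pow_orderOf_eq_one, OneMemClass.coe_one]⟩
    rw [e, Subgroup.mem_bot] at hwE
    rw [← Subgroup.orderOf_coe, hwE, orderOf_one] at hw
    exact hp.out.ne_one hw.symm
  have FE : Fused p E := ⟨hEp, hE1, z, k, n, hz, hk, hne, hc, hNE hzW, hNE hkW, hNE hnW, hn⟩
  obtain ⟨-, -, -, hrank⟩ := fixed_points h hp2 hEp hEc hE1 hz hk hne hc (hNE hzW) (hNE hkW)
    (hNE hnW) hn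
  have hEo : ∀ {a : G}, a ∈ E → Odd (orderOf a) := fun ha =>
    odd_orderOf_of_mem (odd_card_pGroup hp2 hEp) ha
  have hsol : ∀ a ∈ E, a ≠ 1 → Group.IsSolvable ↥(Subgroup.centralizer ({a} : Set G)) :=
    fun a ha ha1 => h.solvable_centralizer ha1 (hEo ha)
  -- factorisation of the centralisers
  have hfac : ∀ a ∈ E, a ≠ 1 → ∀ c ∈ Subgroup.centralizer ({a} : Set G),
      ∃ κ ∈ Cfsg.centralizerPPrimeCore p a, ∃ m ∈ M₀ ⊓ Subgroup.centralizer ({a} : Set G),
        c = κ * m := by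
    intro a ha ha1 c hc'
    set C := Subgroup.centralizer ({a} : Set G) with hC
    have hJC : thompsonJ 0 (P : Subgroup G) ≤ C := fun x hx =>
      Subgroup.mem_centralizer_singleton_iff.2 ((hEW ha).2 x hx)
    obtain ⟨Q₀, hQ₀⟩ := ((P.2.to_le (thompsonJ_le 0 _)).comap_of_injective C.subtype
      C.subtype_injective).exists_le_sylow
    set Q := (Q₀ : Subgroup ↥C).map C.subtype with hQdef
    have hJQ : thompsonJ 0 (P : Subgroup G) ≤ Q := fun x hx =>
      ⟨⟨x, hJC hx⟩, hQ₀ hx, rfl⟩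
    obtain ⟨T, hQT⟩ := (Q₀.2.map C.subtype).exists_le_sylow
    have hJT := thompsonJ_sylow_eq P T (hJQ.trans hQT)
    have hJ : thompsonJ 0 Q = thompsonJ 0 (P : Subgroup G) := by
      rw [thompsonJ_eq_of_le (hJT ▸ hJQ) hQT, hJT]
    have hW' : (ZJ.zJ 0 (Q₀ : Subgroup ↥C)).map C.subtype = W := by
      rw [ZJ.map_zJ 0 C.subtype C.subtype_injective.injOn, ← hQdef, hWdef, ZJ.zJ, ZJ.zJ, hJ]
    haveI := Transfer.pPrimeCore_normal p ↥C
    obtain ⟨κ, hκ, m, hm, e⟩ := Subgroup.mem_sup_of_normal_left.1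
      ((zJ_sup hp2 (PSolvable.isPConstrained_of_isPSolvable
        (PSolvable.isPSolvable_of_isSolvable (hsol a ha ha1)))
        (Qd.not_involves_subgroup C (not_involves_qd hp2 h.sylow)) Q₀).ge
          (Subgroup.mem_top (⟨c, hc'⟩ : C)))
    refine ⟨κ, ⟨κ, hκ, rfl⟩, m, ⟨?_, m.2⟩, (congrArg Subtype.val e).symm⟩
    rw [hM₀, ← hW']
    exact Subgroup.le_normalizer_map C.subtype ⟨m, hm, rfl⟩
  -- the signalizer functor
  set θ : G → Subgroup G := fun a => Cfsg.centralizerPPrimeCore p a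
  have helem : Cfsg.IsElementaryAbelian p E :=
    ⟨⟨⟨fun u v => Subtype.ext (hEc u u.2 v v.2)⟩⟩, hEexp⟩
  obtain ⟨⟨hθC, hθp, hθinv, hbal⟩, hθsolv⟩ := Cfsg.Agent.S1279.result p E helem
    (le_trans (Nat.pow_le_pow_right hp.out.pos (by norm_num)) hrank) hsol
  obtain ⟨hΘp, -⟩ := Cfsg.Agent.S0217.result E hEc hEexp hrank θ hθC hθp hθinv hθsolv hbal
  set Θ := ⨆ a : {a : G // a ∈ E ∧ a ≠ 1}, θ a with hΘ
  have hΘN : M₀ ≤ Subgroup.normalizer (Θ : Set G) := by
    refine Signalizer.le_normalizer_of_forall fun g hg x hx => ?_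
    have hmap : Θ.map (MulAut.conj g).toMonoidHom ≤ Θ := by
      rw [hΘ, Subgroup.map_iSup]
      refine iSup_le fun b => ?_
      rw [← Signalizer.centralizerPPrimeCore_conj]
      exact le_iSup_of_le (f := fun a : {a : G // a ∈ E ∧ a ≠ 1} => θ a)
        ⟨g * b * g⁻¹, conj_mem_of_normalizer (hNE hg) b.2.1,
          fun e => b.2.2 (conj_eq_one_iff.1 e)⟩ le_rfl
    exact hmap ⟨x, hx, rfl⟩
  obtain ⟨M₁, hM₁, hM₀M₁, hθM₁⟩ : ∃ M₁ : Subgroup G, M₁ ≠ ⊤ ∧ M₀ ≤ M₁ ∧
      ∀ a ∈ E, a ≠ 1 → θ a ≤ M₁ := by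
    have hle : ∀ a ∈ E, a ≠ 1 → θ a ≤ Θ := fun a ha ha1 =>
      le_iSup_of_le (f := fun a : {a : G // a ∈ E ∧ a ≠ 1} => θ a) ⟨a, ha, ha1⟩ le_rfl
    by_cases hΘ1 : Θ = ⊥
    · refine ⟨M₀, fun htop => ?_, le_rfl, fun a ha ha1 => (hle a ha ha1).trans (hΘ1 ▸ bot_le)⟩
      haveI : W.Normal := Subgroup.normalizer_eq_top_iff.1 htop
      exact hW1 (eq_bot_of_odd_normal h.core W (odd_card_pGroup hp2 hW))
    refine ⟨Subgroup.normalizer (Θ : Set G), fun htop => ?_, hΘN,
      fun a ha ha1 => (hle a ha ha1).trans Subgroup.le_normalizer⟩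
    haveI : Θ.Normal := Subgroup.normalizer_eq_top_iff.1 htop
    refine hΘ1 (eq_bot_of_odd_normal h.core Θ ?_)
    by_contra hev
    obtain ⟨s, hs, hs2⟩ := exists_involution_mem hev
    obtain ⟨g, hg⟩ := isConj_iff.1 (h.one s z hs2 hz)
    have hzΘ : z ∈ Θ := hg ▸ (inferInstance : Θ.Normal).conj_mem s hs g
    refine FE.no_invol h hp2 hz fun e he => ?_
    have h1 : z * e * z⁻¹ * e⁻¹ ∈ Θ := by
      have := mul_mem hzΘ ((inferInstance : Θ.Normal).conj_mem _ (inv_mem hzΘ) e)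
      simpa [mul_assoc] using this
    have h2 := PSolvable.eq_one_of_mem_of_mem hEp
      (Nat.coprime_comm.1 ((hp.out.coprime_iff_not_dvd).2 hΘp))
      (mul_mem (conj_mem_of_normalizer (hNE hzW) he) (inv_mem he)) h1
    exact mul_inv_eq_iff_eq_mul.1 (mul_inv_eq_one.1 h2)
  obtain ⟨M, hM, hM₁M⟩ := (eq_top_or_exists_le_coatom M₁).resolve_left hM₁
  refine ⟨M, E, hM, hEW, hM₀M₁.trans hM₁M, hNE, FE, fun a ha ha1 c hc' => hM₁M ?_, hfac⟩
  obtain ⟨κ, hκ, m, hm, rfl⟩ := hfac a ha ha1 c hc'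
  exact mul_mem (hθM₁ a ha ha1 hκ) (hM₀M₁ hm.1)

/-- All involutions stay in `M` under an element fusing two non-conjugate involutions of `M`. -/
theorem conj_mem_of_fused {M : Subgroup G}
    (hCM : ∀ u ∈ M, orderOf u = 2 → Subgroup.centralizer ({u} : Set G) ≤ M) {g s t : G}
    (hs : s ∈ M) (ht : t ∈ M) (hs2 : orderOf s = 2) (ht2 : orderOf t = 2)
    (hno : ∀ c ∈ M, c * s * c⁻¹ ≠ t) (hgs : g * s * g⁻¹ ∈ M) {u : G} (hu : u ∈ M)
    (hu2 : orderOf u = 2) : g * u * g⁻¹ ∈ M := by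
  have hcom : ∀ {a b : G}, orderOf a = 2 → g * a * g⁻¹ ∈ M → Commute b a → g * b * g⁻¹ ∈ M :=
    fun {a b} ha hga hba =>
      hCM _ hga (conj_orderOf_two ha g) (Subgroup.mem_centralizer_singleton_iff.2
        (Commute.conj hba g))
  have hlink : ∀ {a b : G}, a ∈ M → b ∈ M → orderOf a = 2 → orderOf b = 2 →
      (∀ c ∈ M, c * a * c⁻¹ ≠ b) → g * a * g⁻¹ ∈ M → g * b * g⁻¹ ∈ M := by
    intro a b ha hb ha2 hb2 hab hga
    have hcl : Subgroup.closure ({a, b} : Set G) ≤ M := (Subgroup.closure_le _).2 (by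
      rintro x (rfl | rfl)
      exacts [ha, hb])
    rcases Nat.even_or_odd (orderOf (a * b)) with he | ho
    · exact hcom (orderOf_centralInvol a b he)
        (hcom ha2 hga (centralInvol_comm_left ha2 hb2 he))
        (centralInvol_comm_right ha2 hb2 he).symm
    · obtain ⟨d, hd, e⟩ := exists_mem_closure_conj_of_odd ha2 hb2 ho
      exact absurd e (hab d (hcl hd))
  by_cases hus : ∃ c ∈ M, c * s * c⁻¹ = u
  · obtain ⟨c, hc, rfl⟩ := hus
    refine hlink ht hu ht2 hu2 (fun d hd e => hno (d⁻¹ * c) (mul_mem (inv_mem hd) hc) ?_)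
      (hlink hs ht hs2 ht2 hno hgs)
    calc d⁻¹ * c * s * (d⁻¹ * c)⁻¹ = d⁻¹ * (c * s * c⁻¹) * d := by group
      _ = d⁻¹ * (d * t * d⁻¹) * d := by rw [e]
      _ = t := by group
  · push Not at hus
    exact hlink hs hu hs2 hu2 hus hgs

/-- A dihedral Sylow subgroup lies in any subgroup containing all involutions. -/
theorem sylow_le_of_invol (hS : DihSylow G) (S : Sylow 2 G) {N : Subgroup G}
    (hN : ∀ s : G, orderOf s = 2 → s ∈ N) : (S : Subgroup G) ≤ N := by
  obtain ⟨m, -, ⟨e⟩⟩ := hS S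
  have hsr : ∀ i, ((e.symm (DihedralGroup.sr i) : (S : Subgroup G)) : G) ∈ N := fun i =>
    hN _ (by rw [Subgroup.orderOf_coe, MulEquiv.orderOf_eq, DihedralGroup.orderOf_sr])
  intro x hx
  rw [show x = ((e.symm (e ⟨x, hx⟩) : (S : Subgroup G)) : G) by rw [e.symm_apply_apply]]
  cases e ⟨x, hx⟩ with
  | sr i => exact hsr i
  | r i =>
    rw [show DihedralGroup.r i = DihedralGroup.sr 0 * DihedralGroup.sr i by
      rw [DihedralGroup.sr_mul_sr, sub_zero], map_mul, Subgroup.coe_mul]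
    exact mul_mem (hsr 0) (hsr i)

/-- **No fused local subgroup.** -/
theorem no_fused_local (h : OneClass G) {Y : Subgroup G} (hY : IsPGroup p Y) (hY1 : Y ≠ ⊥)
    (hYo : Odd (Nat.card Y)) {z k n : G} (hz : orderOf z = 2) (hk : orderOf k = 2) (hne : k ≠ z)
    (hc : Commute k z) (hzY : z ∈ Subgroup.normalizer (Y : Set G))
    (hkY : k ∈ Subgroup.normalizer (Y : Set G)) (hnY : n ∈ Subgroup.normalizer (Y : Set G))
    (hn : Cyc z k n) : False := by
  have hp2 : p ≠ 2 := by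
    rintro rfl
    haveI : Nontrivial Y := (Subgroup.nontrivial_iff_ne_bot Y).2 hY1
    obtain ⟨j, hj0, hj⟩ := hY.nontrivial_iff_card.mp inferInstance
    exact Nat.not_even_iff_odd.2 hYo (even_iff_two_dvd.2 (hj ▸ dvd_pow_self 2 hj0.ne'))
  obtain ⟨P, FW⟩ := Fused.exists_sylow h hp2
    (⟨hY, hY1, z, k, n, hz, hk, hne, hc, hzY, hkY, hnY, hn⟩ : Fused p Y)
  obtain ⟨M, E, hM, hEW, hM₀M, hNE, FE, hCE, hfac⟩ := exists_maximal_local h hp2 FW
  set M₀ := Subgroup.normalizer (ZJ.zJ 0 (P : Subgroup G) : Set G) with hM₀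
  clear hY hY1 hYo hzY hkY hnY hn hz hk hne hc z k n Y
  obtain ⟨-, -, z, k, n, hz, hk, hne, hc, hzW, hkW, hnW, hn⟩ := FW
  obtain ⟨hEp, hE1, -⟩ := id FE
  have hEc : ∀ a ∈ E, ∀ b ∈ E, a * b = b * a := fun a ha b hb => (hEW hb).2 a (hEW ha).1
  have hEo : ∀ {a : G}, a ∈ E → Odd (orderOf a) := fun ha =>
    odd_orderOf_of_mem (odd_card_pGroup hp2 hEp) ha
  obtain ⟨⟨a, haE, ha1, haz⟩, ⟨b, hbE, hb1, hbk⟩, ⟨c, hcE, hc1, hczk⟩, -⟩ :=
    fixed_points h hp2 hEp hEc hE1 hz hk hne hc (hNE hzW) (hNE hkW) (hNE hnW) hn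
  set Ca := Subgroup.centralizer ({a} : Set G) with hCa
  have haCa : ∀ {x : G}, x ∈ Ca ↔ Commute x a := Subgroup.mem_centralizer_singleton_iff
  set θ := Cfsg.centralizerPPrimeCore p a with hθ
  have hθCa : θ ≤ Ca := Subgroup.map_subtype_le _
  have hθp : (Nat.card θ).Coprime p := Signalizer.coprime_centralizerPPrimeCore a
  have hCaθ : Ca ≤ Subgroup.normalizer (θ : Set G) := Signalizer.centralizerPPrimeCore_normalized a
  have hka : k * a * k⁻¹ = a⁻¹ := h.cent.inv_odd hz hk hne hc (hEo haE) haz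
  have hkθ : k ∈ Subgroup.normalizer (θ : Set G) := by
    rw [Coprime.mem_normalizer_iff_conj_smul, Subgroup.pointwise_smul_def]
    refine (Signalizer.centralizerPPrimeCore_conj p a k).symm.trans ?_
    rw [hka, centralizerPPrimeCore_inv]
  have hEθ : ∀ e ∈ E, e ∈ Subgroup.normalizer (θ : Set G) := fun e he =>
    hCaθ (haCa.2 (hEc e he a haE))
  -- elements of `M₀` congruent modulo `θ` act alike on `E`
  have hsame : ∀ {x y : G}, x ∈ M₀ → y ∈ M₀ → y * x⁻¹ ∈ θ → ∀ e ∈ E,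
      y * e * y⁻¹ = x * e * x⁻¹ := by
    intro x y hx hy hyx e he
    have he' := conj_mem_of_normalizer (hNE hx) he
    set κ := y * x⁻¹ with hκ
    have hκE : κ ∈ Subgroup.normalizer (E : Set G) := hNE (mul_mem hy (inv_mem hx))
    have h1 : κ * (x * e * x⁻¹) * κ⁻¹ * (x * e * x⁻¹)⁻¹ ∈ θ := by
      have := mul_mem hyx (conj_mem_of_normalizer (hEθ _ he') (inv_mem hyx))
      simpa [mul_assoc] using this
    have h2 := mul_inv_eq_one.1 (PSolvable.eq_one_of_mem_of_mem hEp hθp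
      (mul_mem (conj_mem_of_normalizer hκE he') (inv_mem he')) h1)
    calc y * e * y⁻¹ = κ * (x * e * x⁻¹) * κ⁻¹ := by rw [hκ]; group
      _ = x * e * x⁻¹ := h2
  have hθo : Odd (Nat.card θ) := by
    by_contra hev
    obtain ⟨t, ht, ht2⟩ := exists_involution_mem hev
    obtain ⟨d, hd, hdt⟩ := conj_in_of_no_four
      (h.no_four_centralizer ha1 (hEo haE) (C := Ca) fun x hx => haCa.1 hx)
      (hθCa ht) (haCa.2 haz.symm) ht2 hz
    have hzθ : z ∈ θ := hdt ▸ conj_mem_of_normalizer (hCaθ hd) ht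
    refine Fused.no_invol h hp2 FE hz fun e he => ?_
    have h1 := hsame (one_mem M₀) hzW (by simpa using hzθ) e he
    rw [one_mul, inv_one, mul_one] at h1
    exact mul_inv_eq_iff_eq_mul.1 h1
  -- a Sylow subgroup of `C(z)`
  obtain ⟨S₀⟩ : Nonempty (Sylow 2 G) := inferInstance
  obtain ⟨m, hm2, eS⟩ := h.sylow S₀
  obtain ⟨P₂, -, hP₂z, -⟩ := exists_sylow_central S₀ eS h.one hz
  set Cz := Subgroup.centralizer ({z} : Set G) with hCz
  set V := Subgroup.zpowers z ⊔ Subgroup.zpowers k with hVdef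
  haveI : Fact (Nat.Prime 2) := ⟨Nat.prime_two⟩
  have hV : IsPGroup 2 V := by
    rw [hVdef, sup_comm]
    refine (CycZ.pGroup_zpowers (k := 1) ?_).to_sup_of_normal_right'
      (CycZ.pGroup_zpowers (k := 1) ?_) (le_trans ?_ (Subgroup.centralizer_le_normalizer _))
    · rw [pow_one, pow_two]; exact mul_self_of_orderOf_two hk
    · rw [pow_one, pow_two]; exact mul_self_of_orderOf_two hz
    · rw [Subgroup.zpowers_le]
      rintro _ ⟨i, rfl⟩
      exact (hc.symm.zpow_left i).eq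
  have hVz : V ≤ Cz := sup_le
    (Subgroup.zpowers_le.2 (Subgroup.mem_centralizer_singleton_iff.2 rfl))
    (Subgroup.zpowers_le.2 (Subgroup.mem_centralizer_singleton_iff.2 hc.eq))
  obtain ⟨S, hVS, hSz, hSp, hScard⟩ := CycZ.exists_two_subgroup hV hVz
  have hScard' : Nat.card S = CycZ.twoPart (Nat.card G) := by
    rw [hScard]
    refine Nat.dvd_antisymm (CycZ.twoPart_mono Nat.card_pos.ne'
      (Subgroup.card_subgroup_dvd_card _)) ?_
    rw [← CycZ.card_sylow P₂]
    exact CycZ.card_dvd_twoPart P₂.2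
      fun x hx => Subgroup.mem_centralizer_singleton_iff.2 (hP₂z x hx).symm.eq
  have hzS : z ∈ S := hVS (Subgroup.mem_sup_left (Subgroup.mem_zpowers _))
  have hkS : k ∈ S := hVS (Subgroup.mem_sup_right (Subgroup.mem_zpowers _))
  -- the lift to `M₀`
  obtain ⟨A, x₀, d⟩ := h.cent z hz
  set L := Ca ⊔ Subgroup.zpowers k with hL
  have hSL : S ≤ L := by
    intro s hs
    have hsz : Commute s z := Subgroup.mem_centralizer_singleton_iff.1 (hSz hs)
    have hmem : ∀ {y : G}, y ∈ A → y ∈ L := fun {y} hy =>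
      Subgroup.mem_sup_left (haCa.2 (d.comm _ hy _ (d.odd_mem (hEo haE) haz)))
    by_cases hsA : s ∈ A
    · exact hmem hsA
    · have h1 := hmem (d.mul_mem_outside hc (d.not_mem_of_invol hk hne) hsz hsA)
      have h2 : k⁻¹ ∈ L := inv_mem (Subgroup.mem_sup_right (Subgroup.mem_zpowers k))
      simpa using mul_mem h2 h1
  have hLθ : L ≤ Subgroup.normalizer (θ : Set G) := sup_le hCaθ (Subgroup.zpowers_le.2 hkθ)
  have hθL : θ ≤ L := hθCa.trans le_sup_left
  haveI : (θ.subgroupOf L).Normal := Subgroup.normal_subgroupOf_of_le_normalizer hLθ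
  have hsup : θ.subgroupOf L ⊔ (M₀ ⊓ L).subgroupOf L = ⊤ := by
    rw [← Subgroup.subgroupOf_sup hθL inf_le_right, Subgroup.subgroupOf_eq_top]
    refine sup_le (fun y hy => ?_) (Subgroup.zpowers_le.2 (Subgroup.mem_sup_right
      ⟨hkW, Subgroup.mem_sup_right (Subgroup.mem_zpowers k)⟩))
    obtain ⟨κ, hκ, w, hw, rfl⟩ := hfac a haE ha1 y hy
    exact mul_mem (Subgroup.mem_sup_left hκ)
      (Subgroup.mem_sup_right ⟨hw.1, Subgroup.mem_sup_left hw.2⟩)
  obtain ⟨φ, hφinj, hφM, hφθ, -⟩ := exists_lift_two (θ.subgroupOf L)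
    (by rwa [Nat.card_congr (Subgroup.subgroupOfEquivOfLe hθL).toEquiv]) _ hsup (S.subgroupOf L)
    (hSp.comap_of_injective L.subtype L.subtype_injective)
  let ψ : ↥S →* G := (L.subtype.comp φ).comp (Subgroup.subgroupOfEquivOfLe hSL).symm.toMonoidHom
  have hψinj : Function.Injective ψ :=
    L.subtype_injective.comp (hφinj.comp (Subgroup.subgroupOfEquivOfLe hSL).symm.injective)
  have hψM₀ : ∀ s : ↥S, ψ s ∈ M₀ := fun s => (hφM _).1
  have hψθ : ∀ s : ↥S, ψ s * (s : G)⁻¹ ∈ θ := fun s => hφθ ((Subgroup.subgroupOfEquivOfLe hSL).symm s)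
  set z' := ψ ⟨z, hzS⟩ with hz'
  set k' := ψ ⟨k, hkS⟩ with hk'
  have hz'2 : orderOf z' = 2 := by rw [hz', orderOf_injective ψ hψinj, Subgroup.orderOf_mk, hz]
  have hk'2 : orderOf k' = 2 := by rw [hk', orderOf_injective ψ hψinj, Subgroup.orderOf_mk, hk]
  have actz := hsame hzW (hψM₀ ⟨z, hzS⟩) (hψθ _)
  have actk := hsame hkW (hψM₀ ⟨k, hkS⟩) (hψθ _)
  rw [← hz'] at actz
  rw [← hk'] at actk
  have hk'z' : Commute k' z' := by
    rw [hk', hz']
    exact (show Commute (⟨k, hkS⟩ : S) ⟨z, hzS⟩ from Subtype.ext hc.eq).map ψ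
  have hne' : k' ≠ z' := fun e => hne (congrArg Subtype.val (hψinj e))
  have haz' : Commute a z' := by
    have e := actz a haE
    rw [← haz.eq, mul_inv_cancel_right] at e
    exact (mul_inv_eq_iff_eq_mul.1 e).symm
  have hCz' : Subgroup.centralizer ({z'} : Set G) ≤ M :=
    h.centralizer_le hz'2 hk'2 hne' hk'z' (hM₀M (hψM₀ _)) (hEo haE) haz' (hCE a haE ha1)
  -- every involution of the lifted Sylow subgroup
  have hCψ : ∀ s : ↥S, orderOf (ψ s) = 2 → Subgroup.centralizer ({ψ s} : Set G) ≤ M := by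
    intro s hs
    rw [orderOf_injective ψ hψinj, ← Subgroup.orderOf_coe] at hs
    by_cases hsz : (s : G) = z
    · rw [show s = ⟨z, hzS⟩ from Subtype.ext hsz]; exact hCz'
    have hsc : Commute (s : G) z := Subgroup.mem_centralizer_singleton_iff.1 (hSz s.2)
    have hv2 : orderOf (ψ s) = 2 := by rw [orderOf_injective ψ hψinj, ← Subgroup.orderOf_coe, hs]
    have hvz' : Commute (ψ s) z' := by
      rw [hz']
      exact (show Commute s ⟨z, hzS⟩ from Subtype.ext hsc.eq).map ψ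
    by_cases hfix : ∃ e ∈ E, e ≠ 1 ∧ Commute e (ψ s)
    · obtain ⟨e, he, he1, hev⟩ := hfix
      exact h.centralizer_le hv2 hz'2 (fun e' => hsz (congrArg Subtype.val (hψinj e').symm))
        hvz'.symm (hM₀M (hψM₀ _)) (hEo he) hev (hCE e he he1)
    exfalso
    have hvE : ψ s ∈ Subgroup.normalizer (E : Set G) := hNE (hψM₀ s)
    have hinv : ∀ e ∈ E, ψ s * e * (ψ s)⁻¹ = e⁻¹ := by
      intro e he
      have hm := conj_mem_of_normalizer hvE he
      refine eq_inv_of_mul_eq_one_right (?_ : e * (ψ s * e * (ψ s)⁻¹) = 1)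
      by_contra h1
      refine hfix ⟨_, mul_mem he hm, h1, ?_⟩
      show e * (ψ s * e * (ψ s)⁻¹) * ψ s = ψ s * (e * (ψ s * e * (ψ s)⁻¹))
      calc _ = ψ s * e * (ψ s)⁻¹ * e * ψ s := by rw [hEc e he _ hm]
        _ = ψ s * (e * ((ψ s)⁻¹ * e * ψ s)) := by group
        _ = _ := by rw [inv_of_orderOf_two hv2]
    set y : ↥S := s * ⟨k, hkS⟩ with hy
    have hsk : Commute (y : G) z := hsc.mul_left hc
    by_cases hy1 : y * y = 1
    · have hsA : (s : G) ∉ A := d.not_mem_of_invol hs hsz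
      have hyA := d.mul_mem_outside hsc hsA hc (d.not_mem_of_invol hk hne)
      rcases d.uniq _ hyA (congrArg Subtype.val hy1 :) with e | e
      · have hsk' : s = ⟨k, hkS⟩ := Subtype.ext
          ((eq_inv_of_mul_eq_one_left e).trans (inv_of_orderOf_two hk))
        have e1 := hinv b hbE
        rw [hsk', ← hk', actk b hbE, ← hbk.eq, mul_inv_cancel_right] at e1
        exact hb1 (eq_one_of_odd_sq (hEo hbE) (eq_inv_iff_mul_eq_one.1 e1))
      · have hsk' : s = ⟨z, hzS⟩ * ⟨k, hkS⟩ := Subtype.ext (by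
          show (s : G) = z * k
          rw [← e, mul_assoc, mul_self_of_orderOf_two hk, mul_one])
        have e1 := hinv c hcE
        rw [hsk', map_mul, ← hz', ← hk',
          show z' * k' * c * (z' * k')⁻¹ = z' * (k' * c * k'⁻¹) * z'⁻¹ by group, actk c hcE,
          actz _ (conj_mem_of_normalizer (hNE hkW) hcE),
          show z * (k * c * k⁻¹) * z⁻¹ = z * k * c * (z * k)⁻¹ by group, ← hczk.eq,
          mul_inv_cancel_right] at e1
        exact hc1 (eq_one_of_odd_sq (hEo hcE) (eq_inv_iff_mul_eq_one.1 e1))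
    · obtain ⟨i, hi⟩ := IsPGroup.iff_orderOf.1 hSp (y * y)
      have hzmem : z ∈ Subgroup.zpowers ((y : G) * (y : G)) := h.mem_zpowers_sq hz hsk
        (by rw [← Subgroup.coe_mul, Subgroup.orderOf_coe]; exact hi)
        fun e => hy1 (Subtype.ext e)
      obtain ⟨l, hl⟩ := Subgroup.mem_zpowers_iff.1 hzmem
      refine Fused.no_invol h hp2 FE hz'2 fun e he => ?_
      have hstep : ∀ e ∈ E, ψ y * e * (ψ y)⁻¹ = (k * e * k⁻¹)⁻¹ := fun e he => by
        rw [hy, map_mul, ← hk',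
          show ψ s * k' * e * (ψ s * k')⁻¹ = ψ s * (k' * e * k'⁻¹) * (ψ s)⁻¹ by group,
          actk e he, hinv _ (conj_mem_of_normalizer (hNE hkW) he)]
      have hcomm : ∀ e ∈ E, Commute (ψ (y * y)) e := fun e he => by
        refine mul_inv_eq_iff_eq_mul.1 ?_
        rw [map_mul, show ψ y * ψ y * e * (ψ y * ψ y)⁻¹ = ψ y * (ψ y * e * (ψ y)⁻¹) * (ψ y)⁻¹ by
          group, hstep e he, hstep _ (inv_mem (conj_mem_of_normalizer (hNE hkW) he))]
        rw [show (k * (k * e * k⁻¹)⁻¹ * k⁻¹)⁻¹ = (k * k) * e * (k * k)⁻¹ by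
            simp only [mul_inv_rev, inv_inv, mul_assoc],
          mul_self_of_orderOf_two hk, one_mul, inv_one, mul_one]
      rw [hz', show (⟨z, hzS⟩ : ↥S) = (y * y) ^ l from Subtype.ext (by simp [hl]), map_zpow]
      exact (hcomm e he).zpow_left l
  -- all involutions of `M`
  set T := ψ.range with hTdef
  have hTcard : Nat.card T = CycZ.twoPart (Nat.card G) := by
    rw [hTdef, ← Nat.card_congr (MonoidHom.ofInjective hψinj).toEquiv, hScard']
  have hTM : T ≤ M := by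
    rintro _ ⟨s, rfl⟩
    exact hM₀M (hψM₀ s)
  have hTp : IsPGroup 2 T := hSp.of_surjective ψ.rangeRestrict ψ.rangeRestrict_surjective
  have hTM2 : Nat.card T = CycZ.twoPart (Nat.card M) := Nat.dvd_antisymm
    (CycZ.card_dvd_twoPart hTp hTM)
    (hTcard ▸ CycZ.twoPart_mono Nat.card_pos.ne' (Subgroup.card_subgroup_dvd_card M))
  have hCM : ∀ u ∈ M, orderOf u = 2 → Subgroup.centralizer ({u} : Set G) ≤ M := by
    intro u hu hu2
    obtain ⟨g, hg, hgu⟩ := CycZ.exists_conj_into (CycZ.pGroup_zpowers (k := 1)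
      (by rw [pow_one, pow_two]; exact mul_self_of_orderOf_two hu2)) (Subgroup.zpowers_le.2 hu)
      hTp hTM hTM2
    obtain ⟨s, hs⟩ := hgu u (Subgroup.mem_zpowers u)
    intro x hx
    have h1 : g * x * g⁻¹ ∈ M := hCψ s (hs.symm ▸ conj_orderOf_two hu2 g)
      (hs.symm ▸ Subgroup.mem_centralizer_singleton_iff.2
        (Commute.conj (Subgroup.mem_centralizer_singleton_iff.1 hx : Commute x u) g))
    simpa [mul_assoc] using mul_mem (mul_mem (inv_mem hg) h1) hg
  have hzM : z ∈ M := hM₀M hzW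
  have hkM : k ∈ M := hM₀M hkW
  have hnM : n ∈ M := hM₀M hnW
  -- one class in `M`
  have honeM : ∀ s ∈ M, ∀ t ∈ M, orderOf s = 2 → orderOf t = 2 → ∃ g ∈ M, g * s * g⁻¹ = t := by
    intro s hs t ht hs2 ht2
    by_contra hno
    push Not at hno
    obtain ⟨g, hg⟩ := isConj_iff.1 (h.one s t hs2 ht2)
    have hgM : g ∉ M := fun hgM => hno g hgM hg
    set I := Subgroup.closure {u : G | u ∈ M ∧ orderOf u = 2} with hI
    have hIg : ∀ {y : G}, (∀ u ∈ M, orderOf u = 2 → y * u * y⁻¹ ∈ M) →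
        y ∈ Subgroup.normalizer (I : Set G) := by
      intro y hy
      rw [Coprime.mem_normalizer_iff_conj_smul, Subgroup.pointwise_smul_def]
      have hle : I.map (MulAut.conj y).toMonoidHom ≤ I := by
        rw [hI, MonoidHom.map_closure]
        refine Subgroup.closure_mono ?_
        rintro _ ⟨u, ⟨hu, hu2⟩, rfl⟩
        exact ⟨hy u hu hu2, conj_orderOf_two hu2 y⟩
      exact Subgroup.eq_of_le_of_card_ge hle (ge_of_eq (Subgroup.card_map_of_injective
        (MulEquiv.injective (MulAut.conj y))))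
    have hMI : M ≤ Subgroup.normalizer (I : Set G) := fun y hy =>
      hIg fun u hu _ => mul_mem (mul_mem hy hu) (inv_mem hy)
    have hgI : g ∈ Subgroup.normalizer (I : Set G) := hIg fun u hu hu2 =>
      conj_mem_of_fused hCM hs ht hs2 ht2 hno (hg ▸ ht) hu hu2
    have htop : Subgroup.normalizer (I : Set G) = ⊤ :=
      hM.2 _ (lt_of_le_of_ne hMI fun e => hgM (e ▸ hgI))
    haveI : I.Normal := Subgroup.normalizer_eq_top_iff.1 htop
    have hIM : I ≤ M := (Subgroup.closure_le _).2 fun u hu => hu.1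
    have hzI : z ∈ I := Subgroup.subset_closure ⟨hzM, hz⟩
    have hall : ∀ u : G, orderOf u = 2 → u ∈ I := fun u hu => by
      obtain ⟨y, hy⟩ := isConj_iff.1 (h.one z u hz hu)
      exact hy ▸ (inferInstance : I.Normal).conj_mem z hzI y
    let S' : Sylow 2 G := Sylow.ofCard S (by rw [hScard']; rfl)
    have hSI : (S' : Subgroup G) ≤ I := sylow_le_of_invol h.sylow S' hall
    have hF := Sylow.normalizer_sup_eq_top (S'.subtype hSI)
    rw [Sylow.coe_subtype, Subgroup.map_subgroupOf_eq_of_le hSI] at hF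
    refine hM.1 (eq_top_iff.2 (hF.ge.trans (sup_le (fun y hy => ?_) hIM)))
    have hyS : y * z * y⁻¹ ∈ S := conj_mem_of_normalizer hy (hzS : z ∈ (S' : Subgroup G))
    set v := y * z * y⁻¹ with hv
    have hvk : Commute v k := by
      have h1 : y⁻¹ * k * y ∈ (S' : Subgroup G) := by
        simpa using conj_mem_of_normalizer (inv_mem hy) (hkS : k ∈ (S' : Subgroup G))
      have h2 : Commute z (y⁻¹ * k * y) :=
        ((Subgroup.mem_centralizer_singleton_iff.1 (hSz h1) : Commute _ z)).symm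
      have h3 := Commute.conj h2 y
      rwa [show y * (y⁻¹ * k * y) * y⁻¹ = k by group] at h3
    have hvz : Commute v z := Subgroup.mem_centralizer_singleton_iff.1 (hSz hyS)
    have hv2 : orderOf v = 2 := conj_orderOf_two hz y
    -- `v` is one of `z`, `k`, `z * k`
    have hcase : ∃ w ∈ M, w * z * w⁻¹ = v := by
      by_cases hvz1 : v = z
      · exact ⟨1, one_mem M, by rw [hvz1]; group⟩
      have hvA := d.mul_mem_outside hvz (d.not_mem_of_invol hv2 hvz1) hc
        (d.not_mem_of_invol hk hne)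
      rcases d.uniq _ hvA (by
        rw [hvk.symm.mul_mul_mul_comm, mul_self_of_orderOf_two hv2, mul_self_of_orderOf_two hk,
          mul_one]) with e | e
      · exact ⟨n, hnM, by
          rw [hn.1, eq_inv_of_mul_eq_one_left e, inv_of_orderOf_two hk]⟩
      · refine ⟨n * n, mul_mem hnM hnM, ?_⟩
        rw [show n * n * z * (n * n)⁻¹ = n * (n * z * n⁻¹) * n⁻¹ by group, hn.1, hn.2, ← e,
          mul_assoc, mul_self_of_orderOf_two hk, mul_one]
    obtain ⟨w, hw, hwv⟩ := hcase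
    have h1 : w⁻¹ * y ∈ M := hCM z hzM hz (Subgroup.mem_centralizer_singleton_iff.2 (by
      calc w⁻¹ * y * z = w⁻¹ * (y * z * y⁻¹) * y := by group
        _ = w⁻¹ * (w * z * w⁻¹) * y := by rw [hwv]
        _ = z * (w⁻¹ * y) := by group))
    simpa using mul_mem hw h1
  exact hM.1 (eq_top_of_one_class h.core S₀ hm2 eS h.one M hz (hCM z hzM hz) honeM ha1
    (hEo haE) haz)

end CfsgLib.DGroup
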