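import Cfsg.Agent.Lib.DGroup.Cyc
import Cfsg.Agent.Lib.DGroup.Local
import Cfsg.Agent.Lib.DGroup.Basic
import Cfsg.Agent.Lib.Coprime.Generation
import Cfsg.Agent.Lib.Coprime.Action
import Cfsg.Agent.Lib.Transfer.Frobenius

/-!
# One class of involutions: centralisers of odd elements centralised by an involution

A subgroup with no cyclically fused four group has a normal 2-complement. Hence two maximal
`p`-subgroups invariant under a four group `{1, z, k, z * k}` meet trivially, and none of them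
meets the centralisers of both `z` and `k`. So the odd elements centralising an odd `a ≠ 1` in the
centraliser of `z` all centralise `z`, and with them the whole centraliser of `a`.
-/

set_option autoImplicit false
set_option linter.unusedSectionVars false
set_option linter.style.haveILetI false

namespace CfsgLib.DGroup

open Cfsg CfsgLib.Invol

variable {G : Type*} [Group G]

/-- The elements centralising two commuting involutions `c` and `k`. -/
theorem DihData.mem_four {c : G} {A : Subgroup G} {x : G} (d : DihData c A x) {k : G}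
    (hk : orderOf k = 2) (hkc : k ≠ c) (hcomm : Commute k c) {h : G} (hh : Commute h c)
    (hhk : Commute h k) : h = 1 ∨ h = c ∨ h = k ∨ h = c * k := by
  have hkA := d.not_mem_of_invol hk hkc
  have key : ∀ a ∈ A, Commute a k → a = 1 ∨ a = c := fun a ha hak => by
    have e := d.inv_outside hcomm hkA ha
    rw [hak.symm.eq, mul_inv_cancel_right] at e
    exact d.uniq a ha (eq_inv_iff_mul_eq_one.mp e)
  by_cases hA : h ∈ A
  · rcases key h hA hhk with e | e
    exacts [Or.inl e, Or.inr (Or.inl e)]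
  · rcases key _ (d.mul_mem_of_outside hcomm hkA hh hA) ((Commute.refl k).mul_left hhk) with e | e
    · exact Or.inr (Or.inr (Or.inl (by rw [eq_inv_of_mul_eq_one_right e, inv_of_orderOf_two hk])))
    · refine Or.inr (Or.inr (Or.inr ?_))
      calc h = k * (k * h) := by rw [← mul_assoc, mul_self_of_orderOf_two hk, one_mul]
        _ = c * k := by rw [e, hcomm.eq]

/-- The group of elements centralising `z` and `k`. -/
abbrev four (z k : G) : Subgroup G := Subgroup.centralizer ({z, k} : Set G)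

theorem mem_four_iff {z k h : G} : h ∈ four z k ↔ Commute h z ∧ Commute h k := by
  rw [Subgroup.mem_centralizer_iff]
  refine ⟨fun e => ⟨(e z (Set.mem_insert z _)).symm, (e k (Set.mem_insert_of_mem z rfl)).symm⟩, ?_⟩
  rintro ⟨e1, e2⟩ y (rfl | rfl)
  exacts [e1.eq.symm, e2.eq.symm]

variable [Finite G]

section Four

variable {z k : G} (hG : DihCent G) (hz : orderOf z = 2) (hk : orderOf k = 2) (hne : k ≠ z)
  (hc : Commute k z)

include hG hz hk hne hc

theorem four_cases {h : G} (hh : h ∈ four z k) : h = 1 ∨ h = z ∨ h = k ∨ h = z * k := by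
  obtain ⟨A, x, d⟩ := hG z hz
  exact d.mem_four hk hne hc (mem_four_iff.1 hh).1 (mem_four_iff.1 hh).2

theorem four_sq {h : G} (hh : h ∈ four z k) : h * h = 1 := by
  rcases four_cases hG hz hk hne hc hh with rfl | rfl | rfl | rfl
  · rw [mul_one]
  · exact mul_self_of_orderOf_two hz
  · exact mul_self_of_orderOf_two hk
  · rw [hc.mul_mul_mul_comm, mul_self_of_orderOf_two hz, mul_self_of_orderOf_two hk, one_mul]

theorem four_comm : IsMulCommutative ↥(four z k) := by
  refine ⟨⟨fun a b => Subtype.ext ?_⟩⟩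
  have ha := four_sq hG hz hk hne hc a.2
  have hb := four_sq hG hz hk hne hc b.2
  calc (a : G) * b = ((a : G) * b)⁻¹ :=
        eq_inv_iff_mul_eq_one.2 (four_sq hG hz hk hne hc (mul_mem a.2 b.2))
    _ = (b : G) * a := by
      rw [mul_inv_rev, inv_eq_of_mul_eq_one_right hb, inv_eq_of_mul_eq_one_right ha]

theorem four_le {K : Subgroup G} (hzK : z ∈ K) (hkK : k ∈ K) : four z k ≤ K := fun h hh => by
  rcases four_cases hG hz hk hne hc hh with rfl | rfl | rfl | rfl
  exacts [one_mem K, hzK, hkK, mul_mem hzK hkK]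

theorem four_two : IsPGroup 2 ↥(four z k) :=
  fun a => ⟨1, Subtype.ext (by rw [pow_one, pow_two]; exact four_sq hG hz hk hne hc a.2)⟩

theorem four_not_cyclic : ¬ IsCyclic ↥(four z k) := by
  intro hcy
  obtain ⟨g, hg⟩ := hcy.exists_generator
  have hzV : z ∈ four z k := mem_four_iff.2 ⟨Commute.refl z, hc.symm⟩
  have hkV : k ∈ four z k := mem_four_iff.2 ⟨hc, Commute.refl k⟩
  have key : ∀ y : G, orderOf y = 2 → y ∈ four z k → y = (g : G) := by
    intro y hy hyV
    obtain ⟨i, hi⟩ := hg ⟨y, hyV⟩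
    have hi' : (g : G) ^ i = y := congrArg Subtype.val hi
    rcases Int.even_or_odd' i with ⟨j, rfl | rfl⟩
    · rw [zpow_mul, zpow_two, four_sq hG hz hk hne hc g.2, one_zpow] at hi'
      exact absurd hi'.symm (ne_one_of_orderOf_two hy)
    · rw [zpow_add, zpow_mul, zpow_two, four_sq hG hz hk hne hc g.2, one_zpow, zpow_one, one_mul] at hi'
      exact hi'.symm
  exact hne ((key k hk hkV).trans (key z hz hzV).symm)

theorem four_coprime {K : Subgroup G} (hK : Odd (Nat.card K)) :
    (Nat.card (four z k)).Coprime (Nat.card K) := by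
  haveI := Fact.mk Nat.prime_two
  obtain ⟨j, hj⟩ := IsPGroup.iff_card.1 (four_two hG hz hk hne hc)
  rw [hj]
  exact Nat.Coprime.pow_left j (Nat.coprime_two_left.2 hK)

/-- Two invariant `q`-subgroups of an invariant odd group lie in one invariant `q`-subgroup. -/
theorem exists_common {N : Subgroup G} (hN : Odd (Nat.card N))
    (hVN : four z k ≤ Subgroup.normalizer (N : Set G)) {q : ℕ} [Fact q.Prime] {U U' : Subgroup G}
    (hUN : U ≤ N) (hU : IsPGroup q U) (hUV : four z k ≤ Subgroup.normalizer (U : Set G))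
    (hUN' : U' ≤ N) (hU' : IsPGroup q U') (hUV' : four z k ≤ Subgroup.normalizer (U' : Set G)) :
    ∃ R : Subgroup G, IsPGroup q R ∧ R ≤ N ∧ four z k ≤ Subgroup.normalizer (R : Set G) ∧
      U ≤ R ∧ U' ≤ R := by
  haveI := four_comm hG hz hk hne hc
  have hcop := four_coprime hG hz hk hne hc hN
  have hs : Group.IsSolvable ↥(four z k) ∨ Group.IsSolvable ↥N :=
    Or.inl (Coprime.isSolvable_of_isMulCommutative _)
  obtain ⟨P, hP, hPV⟩ := Coprime.exists_invariant_sylow_ge hVN hcop hs hUN hU hUV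
  obtain ⟨P', hP', hPV'⟩ := Coprime.exists_invariant_sylow_ge hVN hcop hs hUN' hU' hUV'
  obtain ⟨c, hcC, hcP⟩ := Coprime.invariant_sylow_conj hVN hcop hs P' P hPV' hPV
  have hc1 : c = 1 := Subtype.ext (hG.eq_one_of_four hz hk hne hc
    (hN.of_dvd_nat (N.orderOf_dvd_natCard c.2))
    (Subgroup.mem_centralizer_iff.1 hcC z (mem_four_iff.2 ⟨Commute.refl z, hc.symm⟩)).symm
    (Subgroup.mem_centralizer_iff.1 hcC k (mem_four_iff.2 ⟨hc, Commute.refl k⟩)).symm)
  rw [hc1, one_smul] at hcP
  exact ⟨_, P.2.map _, Subgroup.map_subtype_le _, hPV, hP, hcP ▸ hP'⟩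

end Four

/-- Without cyclic fusion in it, a subgroup has a normal subgroup of odd order with all its odd
elements. -/
theorem exists_odd_part (hG : DihCent G) (X : Subgroup G)
    (hno : ∀ z ∈ X, ∀ k ∈ X, ∀ n ∈ X, orderOf z = 2 → orderOf k = 2 → k ≠ z → Commute k z →
      ¬ Cyc z k n) :
    ∃ N : Subgroup G, N ≤ X ∧ Odd (Nat.card N) ∧ (∀ y ∈ X, Odd (orderOf y) → y ∈ N) ∧
      X ≤ Subgroup.normalizer (N : Set G) := by
  haveI := Fact.mk Nat.prime_two
  have hnpc : HasNormalPComplement 2 X := by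
    refine Transfer.hasNormalPComplement_of_pAutomizers fun Q hQ g hg hgo => ?_
    rw [Subgroup.mem_centralizer_iff]
    intro q hq
    by_cases hQ1 : Q = ⊥
    · rw [hQ1, SetLike.mem_coe, Subgroup.mem_bot] at hq
      rw [hq, one_mul, mul_one]
    haveI : Nontrivial Q := (Subgroup.nontrivial_iff_ne_bot Q).2 hQ1
    haveI := hQ.center_nontrivial
    obtain ⟨t, ht⟩ := exists_prime_orderOf_dvd_card' (G := Subgroup.center Q) 2
      (((hQ.to_subgroup _).card_eq_or_dvd).resolve_left (Finite.one_lt_card).ne')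
    set c : G := (((t : Q) : X) : G) with hcdef
    have hc2 : orderOf c = 2 := by
      rw [hcdef, Subgroup.orderOf_coe, Subgroup.orderOf_coe, Subgroup.orderOf_coe, ht]
    have hgG : Odd (orderOf (g : G)) := by
      rw [Subgroup.orderOf_coe]; exact Nat.coprime_two_right.1 hgo
    -- a conjugate by `g` of a central element is central
    have hcen : ∀ {u : G}, (∀ h ∈ Q, Commute (h : G) u) → ∀ h ∈ Q,
        Commute (h : G) ((g : G) * u * (g : G)⁻¹) := by
      intro u hu h hh
      have hm : g⁻¹ * h * g ∈ Q := by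
        have := (Subgroup.mem_normalizer_iff.1 (inv_mem hg) h).1 hh
        rwa [inv_inv] at this
      have e : Commute ((g : G) * (g⁻¹ * h * g : X) * (g : G)⁻¹) ((g : G) * u * (g : G)⁻¹) :=
        Commute.conj (hu _ hm) (g : G)
      rwa [show (g : G) * (g⁻¹ * h * g : X) * (g : G)⁻¹ = (h : G) by push_cast; group] at e
    have hct : ∀ h ∈ Q, Commute (h : G) c := fun h hh =>
      congrArg (fun w : Q => ((w : X) : G)) (Subgroup.mem_center_iff.1 t.2 ⟨h, hh⟩)
    set k : G := (g : G) * c * (g : G)⁻¹ with hkdef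
    by_cases hgc : k = c
    · obtain ⟨A, x, d⟩ := hG c hc2
      have hgc' : Commute (g : G) c := mul_inv_eq_iff_eq_mul.1 hgc
      have hgA := d.odd_mem hgG hgc'
      by_contra hne'
      have hne : (q : G) * g * (q : G)⁻¹ ≠ g := fun e =>
        hne' (Subtype.ext (mul_inv_eq_iff_eq_mul.1 e))
      have hqA : (q : G) ∉ A := fun h => hne (by rw [d.comm _ h _ hgA, mul_inv_cancel_right])
      have e := d.inv_outside (hct q hq) hqA hgA
      -- `(g : G) ^ 2` lies in `Q`
      have hg2 : g * g ∈ Q := by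
        have hm : g * q * g⁻¹ * q⁻¹ ∈ Q :=
          mul_mem ((Subgroup.mem_normalizer_iff.1 hg q).1 hq) (inv_mem hq)
        convert hm using 1
        refine Subtype.ext ?_
        push_cast
        calc (g : G) * g = g * ((g : G)⁻¹)⁻¹ := by rw [inv_inv]
          _ = (g : G) * ((q : G) * g * (q : G)⁻¹)⁻¹ := by rw [e]
          _ = _ := by group
      obtain ⟨j, hj⟩ := hQ ⟨g * g, hg2⟩
      have hj' : (g : G) ^ (2 * 2 ^ j) = 1 := by
        rw [pow_mul, pow_two]
        exact congrArg (fun w : Q => ((w : X) : G)) hj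
      have h1 : orderOf (g : G) = 1 := Nat.eq_one_of_dvd_coprimes
        ((Nat.coprime_two_left.2 hgG).pow_left (j + 1)) (by
          rw [pow_succ']; exact orderOf_dvd_of_pow_eq_one hj') dvd_rfl
      rw [orderOf_eq_one_iff] at h1
      exact hne (by rw [h1]; group)
    · exfalso
      have hk2 : orderOf k = 2 := conj_orderOf_two hc2 _
      have hkQ : k ∈ Q.map X.subtype :=
        ⟨g * (t : Q) * g⁻¹, (Subgroup.mem_normalizer_iff.1 hg _).1 (t : Q).2, rfl⟩
      obtain ⟨k', hk'Q, hk'⟩ := hkQ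
      have hkc : Commute k c := hk' ▸ hct k' hk'Q
      have hk2' : Commute ((g : G) * k * (g : G)⁻¹) k := by
        have := hcen (hcen hct) k' hk'Q
        rw [show ((k' : X) : G) = k from hk'] at this
        exact this.symm
      have hk2c : Commute ((g : G) * k * (g : G)⁻¹) c := by
        have := hcen (hcen hct) (t : Q) (t : Q).2
        exact this.symm
      obtain ⟨A, x, d⟩ := hG c hc2
      rcases d.mem_four hk2 hgc hkc hk2c hk2' with e | e | e | e
      · exact ne_one_of_orderOf_two (conj_orderOf_two hk2 (g : G)) e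
      · -- `g * g` fixes `c`
        have hcomm : Commute ((g : G) ^ 2) c := by
          refine mul_inv_eq_iff_eq_mul.1 ?_
          rw [pow_two]
          calc (g : G) * g * c * ((g : G) * g)⁻¹ = (g : G) * k * (g : G)⁻¹ := by rw [hkdef]; group
            _ = c := e
        obtain ⟨i, hi⟩ := hgG
        have hg1 : (g : G) = ((g : G) ^ 2) ^ (i + 1) := by
          rw [← pow_mul, show 2 * (i + 1) = orderOf (g : G) + 1 by omega, pow_succ, pow_orderOf_eq_one,
            one_mul]
        refine hgc ?_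
        rw [hkdef, hg1, (hcomm.pow_left (i + 1)).eq, mul_inv_cancel_right]
      · exact hgc (mul_left_cancel (mul_right_cancel (e.trans hkdef)))
      · exact hno c (((t : Q) : X)).2 k (hk' ▸ k'.2) g g.2 hc2 hk2 hgc hkc ⟨rfl, e⟩
  obtain ⟨P, M, hM, hMc⟩ := hnpc
  haveI := hM
  obtain ⟨j, hj⟩ := IsPGroup.iff_card.1 P.2
  refine ⟨M.map X.subtype, Subgroup.map_subtype_le _, ?_, fun y hy hyo => ?_, ?_⟩
  · rw [Subgroup.card_map_of_injective X.subtype_injective, ← hMc.index_eq_card, ← Nat.not_even_iff_odd,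
      even_iff_two_dvd]
    exact P.not_dvd_index
  · exact ⟨⟨y, hy⟩, odd_mem_of_index_two_pow (k := j) (by rw [hMc.symm.index_eq_card, hj])
      (by rwa [← Subgroup.orderOf_coe]), rfl⟩
  · intro y hy
    exact Subgroup.le_normalizer_map X.subtype
      ⟨(⟨y, hy⟩ : X), by rw [Subgroup.normalizer_eq_top]; trivial, rfl⟩

/-- An element inverting or centralising `b` normalises the subgroup it generates. -/
theorem mem_normalizer_zpowers {g b : G} (h : g * b * g⁻¹ = b ∨ g * b * g⁻¹ = b⁻¹) :
    g ∈ Subgroup.normalizer (Subgroup.zpowers b : Set G) := by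
  refine Subgroup.mem_normalizer_fintype fun y hy => ?_
  obtain ⟨i, rfl⟩ := Subgroup.mem_zpowers_iff.1 hy
  rw [← conj_zpow]
  rcases h with e | e <;> rw [e]
  · exact Subgroup.zpow_mem _ (Subgroup.mem_zpowers b) i
  · exact Subgroup.zpow_mem _ (inv_mem (Subgroup.mem_zpowers b)) i

/-- An odd element centralising one of two involutions generates an invariant subgroup. -/
theorem DihCent.mem_normalizer_odd (hG : DihCent G) {z k b : G} (hz : orderOf z = 2)
    (hk : orderOf k = 2) (hne : k ≠ z) (hc : Commute k z) (hbo : Odd (orderOf b)) (hb : Commute b z) :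
    z ∈ Subgroup.normalizer (Subgroup.zpowers b : Set G) ∧
      k ∈ Subgroup.normalizer (Subgroup.zpowers b : Set G) :=
  ⟨mem_normalizer_zpowers (Or.inl (by rw [hb.symm.eq, mul_inv_cancel_right])),
    mem_normalizer_zpowers (Or.inr (hG.inv_odd hz hk hne hc hbo hb))⟩

theorem odd_card_of_pgroup {p : ℕ} [Fact p.Prime] {Q : Subgroup G} (hQ : IsPGroup p Q) (hp : p ≠ 2) :
    Odd (Nat.card Q) := by
  obtain ⟨j, hj⟩ := IsPGroup.iff_card.1 hQ
  rw [hj]
  exact ((Fact.out : p.Prime).odd_of_ne_two hp).pow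

/-- A `p`-subgroup invariant under `{1, z, k, z * k}`. -/
def IsInv (p : ℕ) (z k : G) (W : Subgroup G) : Prop :=
  IsPGroup p W ∧ z ∈ Subgroup.normalizer (W : Set G) ∧ k ∈ Subgroup.normalizer (W : Set G)

/-- Two maximal invariant `p`-subgroups meet trivially. -/
theorem OneClass.max_eq (h : OneClass G) {p : ℕ} [Fact p.Prime] (hp : p ≠ 2) {z k : G}
    (hz : orderOf z = 2) (hk : orderOf k = 2) (hne : k ≠ z) (hc : Commute k z) :
    ∀ (m : ℕ) (P Q : Subgroup G), Nat.card G - Nat.card ↥(P ⊓ Q) = m → Maximal (IsInv p z k) P →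
      Maximal (IsInv p z k) Q → P ⊓ Q ≠ ⊥ → P = Q := by
  intro m
  induction m using Nat.strong_induction_on with
  | _ m ih =>
  intro P Q hm hP hQ hD
  by_contra hPQ
  set D := P ⊓ Q with hDdef
  have hzD : z ∈ Subgroup.normalizer (D : Set G) :=
    Coprime.le_normalizer_inf_of_le (A := Subgroup.zpowers z) (Subgroup.zpowers_le.2 hP.prop.2.1)
      (Subgroup.zpowers_le.2 hQ.prop.2.1) (Subgroup.mem_zpowers z)
  have hkD : k ∈ Subgroup.normalizer (D : Set G) :=
    Coprime.le_normalizer_inf_of_le (A := Subgroup.zpowers k) (Subgroup.zpowers_le.2 hP.prop.2.2)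
      (Subgroup.zpowers_le.2 hQ.prop.2.2) (Subgroup.mem_zpowers k)
  set X := Subgroup.normalizer (D : Set G) with hX
  have hDp : IsPGroup p D := hP.prop.1.to_le inf_le_left
  obtain ⟨N, -, hNo, hNmem, hNn⟩ := exists_odd_part h.cent X fun z' hz' k' hk' n' hn' hz2 hk2 hne' hc' hn =>
    no_fused_local h hDp hD (odd_card_of_pgroup hDp hp) hz2 hk2 hne' hc' hz' hk' hn' hn
  have hVX : four z k ≤ X := four_le h.cent hz hk hne hc hzD hkD
  have hsub : ∀ {U : Subgroup G}, Maximal (IsInv p z k) U →
      U ⊓ X ≤ N ∧ four z k ≤ Subgroup.normalizer ((U ⊓ X : Subgroup G) : Set G) := fun {U} hU =>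
    ⟨fun y hy => hNmem y hy.2
        ((odd_card_of_pgroup hU.prop.1 hp).of_dvd_nat (U.orderOf_dvd_natCard hy.1)),
      Coprime.le_normalizer_inf_of_le (four_le h.cent hz hk hne hc hU.prop.2.1 hU.prop.2.2)
        (hVX.trans Subgroup.le_normalizer)⟩
  obtain ⟨R, hRp, -, hRV, hPR, hQR⟩ := exists_common h.cent hz hk hne hc hNo (hVX.trans hNn)
    (hsub hP).1 (hP.prop.1.to_le inf_le_left) (hsub hP).2 (hsub hQ).1 (hQ.prop.1.to_le inf_le_left)
    (hsub hQ).2
  obtain ⟨M, hRM, hM⟩ := Finite.exists_le_maximal (p := IsInv p z k) (a := R)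
    ⟨hRp, hRV (mem_four_iff.2 ⟨Commute.refl z, hc.symm⟩),
      hRV (mem_four_iff.2 ⟨hc, Commute.refl k⟩)⟩
  -- the normaliser grows inside both
  have grow : ∀ {U U' : Subgroup G}, Maximal (IsInv p z k) U → Maximal (IsInv p z k) U' → U ≠ U' →
      D = U ⊓ U' → U ⊓ X ≤ M → U = M := by
    intro U U' hU hU' hUU hDU hUM
    have hDU' : D ≤ U := hDU ▸ inf_le_left
    have hlt : D < U := lt_of_le_of_ne hDU' fun e => hUU (le_antisymm
      (e ▸ hDU ▸ inf_le_right) (hU.2 hU'.prop (e ▸ hDU ▸ inf_le_right)))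
    haveI := hU.prop.1.isNilpotent
    obtain ⟨y, hy, hyD⟩ := SetLike.exists_of_lt (Group.normalizerCondition_of_isNilpotent
      (D.subgroupOf U) (lt_top_iff_ne_top.2 fun he => hlt.not_ge (Subgroup.subgroupOf_eq_top.1 he)))
    have hyX : (y : G) ∈ X := by
      refine Subgroup.mem_normalizer_fintype fun w hw => ?_
      have := (Subgroup.mem_normalizer_iff.1 hy ⟨w, hDU' hw⟩).1 hw
      exact this
    have hlt' : D < U ⊓ M := lt_of_le_of_ne
      (le_inf hDU' (le_trans (le_inf hDU' Subgroup.le_normalizer) hUM))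
      fun e => hyD (e ▸ (⟨y.2, hUM ⟨y.2, hyX⟩⟩ : (y : G) ∈ U ⊓ M) : (y : G) ∈ D)
    have hne_bot : U ⊓ M ≠ ⊥ := fun e => hD (le_bot_iff.1 (e ▸ hlt'.le))
    have hcard := Set.ncard_lt_ncard (SetLike.coe_ssubset_coe.2 hlt') (Set.toFinite _)
    rw [← Nat.card_coe_set_eq, ← Nat.card_coe_set_eq] at hcard
    have hle := Subgroup.card_le_card_group (U ⊓ M)
    refine ih (Nat.card G - Nat.card ↥(U ⊓ M)) ?_ U M rfl hU hM hne_bot
    have hcard' : Nat.card ↥D < Nat.card ↥(U ⊓ M) := hcard
    omega
  exact hPQ ((grow hP hQ hPQ rfl (hPR.trans hRM)).trans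
    (grow hQ hP (Ne.symm hPQ) (inf_comm P Q) (hQR.trans hRM)).symm)

/-- An invariant `p`-subgroup does not meet the centralisers of both `z` and `k`. -/
theorem OneClass.comp_trivial (h : OneClass G) {p : ℕ} [Fact p.Prime] (hp : p ≠ 2) {z k : G}
    (hz : orderOf z = 2) (hk : orderOf k = 2) (hne : k ≠ z) (hc : Commute k z) {U : Subgroup G}
    (hU : IsInv p z k U) {a b : G} (ha : a ∈ U) (hb : b ∈ U) (haz : Commute a z) (hbk : Commute b k) :
    a = 1 ∨ b = 1 := by
  by_contra! hab
  obtain ⟨ha1, hb1⟩ := hab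
  obtain ⟨Q, hUQ, hQ⟩ := Finite.exists_le_maximal (p := IsInv p z k) (a := U) hU
  obtain ⟨n, hn⟩ := h.exists_cyc hz hk hne hc
  set a' := n * a * n⁻¹ with ha'
  have hodd : ∀ y ∈ U, Odd (orderOf y) := fun y hy =>
    (odd_card_of_pgroup hU.1 hp).of_dvd_nat (U.orderOf_dvd_natCard hy)
  have ha'k : Commute a' k := by
    have e : Commute (n * a * n⁻¹) (n * z * n⁻¹) := Commute.conj haz n
    rwa [hn.1] at e
  have ha'o : Odd (orderOf a') := by
    rw [ha', ← MulAut.conj_apply, MulEquiv.orderOf_eq]; exact hodd a ha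
  have hba : Commute b a' := h.cent.comm_odd hk (hodd b hb) ha'o hbk ha'k
  have hN : ∀ {y : G}, Odd (orderOf y) → Commute y k →
      z ∈ Subgroup.normalizer (Subgroup.zpowers y : Set G) ∧
        k ∈ Subgroup.normalizer (Subgroup.zpowers y : Set G) := fun hy hyk =>
    (h.cent.mem_normalizer_odd hk hz hne.symm hc.symm hy hyk).symm
  have hpa : IsPGroup p (Subgroup.zpowers a') := by
    obtain ⟨j, hj⟩ := IsPGroup.iff_orderOf.1 hU.1 ⟨a, ha⟩
    refine IsPGroup.of_card (n := j) ?_
    rw [Nat.card_zpowers, ha', ← MulAut.conj_apply, MulEquiv.orderOf_eq, ← hj,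
      ← Subgroup.orderOf_coe]
  -- the two elements centralising `k` lie in one invariant `p`-subgroup
  have hB : IsInv p z k (Subgroup.zpowers b ⊔ Subgroup.zpowers a') :=
    ⟨IsPGroup.to_sup_of_normal_right' (hU.1.to_le (Subgroup.zpowers_le.2 hb)) hpa
        (Subgroup.zpowers_le.2 (mem_normalizer_zpowers (Or.inl (by
          rw [hba.eq, mul_inv_cancel_right])))),
      Coprime.le_normalizer_sup_of_le (Subgroup.zpowers_le.2 (hN (hodd b hb) hbk).1)
        (Subgroup.zpowers_le.2 (hN ha'o ha'k).1) (Subgroup.mem_zpowers z),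
      Coprime.le_normalizer_sup_of_le (Subgroup.zpowers_le.2 (hN (hodd b hb) hbk).2)
        (Subgroup.zpowers_le.2 (hN ha'o ha'k).2) (Subgroup.mem_zpowers k)⟩
  obtain ⟨M, hBM, hM⟩ := Finite.exists_le_maximal (p := IsInv p z k) (a := _) hB
  have hMQ : M = Q := h.max_eq hp hz hk hne hc _ M Q rfl hM hQ fun e => hb1 (by
    rw [← Subgroup.mem_bot, ← e]
    exact ⟨hBM (Subgroup.mem_sup_left (Subgroup.mem_zpowers b)), hUQ hb⟩)
  have ha'Q : a' ∈ Q := hMQ ▸ hBM (Subgroup.mem_sup_right (Subgroup.mem_zpowers a'))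
  -- the image of `Q` under `n`
  set φ : G →* G := (MulAut.conj n).toMonoidHom with hφ
  have hφinv : IsInv p z k (Q.map φ) := by
    refine ⟨hQ.prop.1.map φ, ?_, ?_⟩
    · have e : φ (z * k) ∈ Subgroup.normalizer (Q.map φ : Set G) := Subgroup.le_normalizer_map φ
        ⟨_, mul_mem hQ.prop.2.1 hQ.prop.2.2, rfl⟩
      rw [show φ (z * k) = z by
        rw [map_mul]
        change n * z * n⁻¹ * (n * k * n⁻¹) = z
        rw [hn.1, hn.2, ← mul_assoc, hc.eq, mul_assoc, mul_self_of_orderOf_two hk, mul_one]] at e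
      exact e
    · have e : φ z ∈ Subgroup.normalizer (Q.map φ : Set G) := Subgroup.le_normalizer_map φ
        ⟨_, hQ.prop.2.1, rfl⟩
      rwa [show φ z = k from hn.1] at e
  obtain ⟨M', hM'le, hM'⟩ := Finite.exists_le_maximal (p := IsInv p z k) (a := _) hφinv
  have hM'Q : M' = Q := h.max_eq hp hz hk hne hc _ M' Q rfl hM' hQ fun e => ha1 (by
    have : a' = 1 := by
      rw [← Subgroup.mem_bot, ← e]
      exact ⟨hM'le ⟨a, hUQ ha, rfl⟩, ha'Q⟩
    rw [ha'] at this
    exact conj_eq_one_iff.1 this)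
  refine no_fused_local h hQ.prop.1 (fun e => ha1 (by
    have := hUQ ha
    rwa [e, Subgroup.mem_bot] at this)) (odd_card_of_pgroup hQ.prop.1 hp) hz hk hne hc hQ.prop.2.1
    hQ.prop.2.2 (n := n) ?_ hn
  exact Subgroup.mem_normalizer_fintype fun y hy =>
    (hM'Q ▸ hM'le ⟨y, hy, rfl⟩ : n * y * n⁻¹ ∈ Q)

/-- The centraliser of an odd `a ≠ 1` centralised by `z` centralises `z`. -/
theorem OneClass.commute_of_commute (h : OneClass G) {z a g : G} (hz : orderOf z = 2) (ha1 : a ≠ 1)
    (hao : Odd (orderOf a)) (haz : Commute a z) (hg : Commute g a) : Commute g z := by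
  obtain ⟨k, hk, hne, hc⟩ := h.cent.exists_partner hz
  set X := Subgroup.centralizer ({a} : Set G) with hX
  have hXa : ∀ {y : G}, y ∈ X → Commute y a := fun hy => Subgroup.mem_centralizer_singleton_iff.1 hy
  obtain ⟨N, hNX, hNo, hNmem, hNn⟩ := exists_odd_part h.cent X fun z' hz' k' hk' n _ hz2 hk2 hne' hc' _ =>
    ha1 (h.cent.eq_one_of_four hz2 hk2 hne' hc' hao (hXa hz').symm (hXa hk').symm)
  have hka : k * a * k⁻¹ = a⁻¹ := h.cent.inv_odd hz hk hne hc hao haz
  have hkN : k ∈ Subgroup.normalizer (N : Set G) := Subgroup.mem_normalizer_fintype fun y hy => by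
    refine hNmem _ (Subgroup.mem_centralizer_singleton_iff.2 ?_) ?_
    · have e : Commute (k * y * k⁻¹) (k * a * k⁻¹) := Commute.conj (hXa (hNX hy)) k
      rw [hka] at e
      exact (Commute.inv_right_iff.1 e).eq
    · rw [← MulAut.conj_apply, MulEquiv.orderOf_eq]
      exact hNo.of_dvd_nat (N.orderOf_dvd_natCard hy)
  have hzX : z ∈ X := Subgroup.mem_centralizer_singleton_iff.2 haz.symm.eq
  have hVN : four z k ≤ Subgroup.normalizer (N : Set G) := four_le h.cent hz hk hne hc (hNn hzX) hkN
  -- no element of `N` centralises an involution other than `z`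
  have key : ∀ u : G, orderOf u = 2 → u ≠ z → Commute u z → u ∈ Subgroup.normalizer (N : Set G) →
      four z u = four z k → ∀ y ∈ N, Commute y u → y = 1 := by
    intro u hu hne' hc' huN hfour y hy hyu
    by_contra hy1
    obtain ⟨q, hq, hqd⟩ := Nat.exists_prime_and_dvd (fun e => hy1 (orderOf_eq_one_iff.1 e) : orderOf y ≠ 1)
    haveI := Fact.mk hq
    have hyo : Odd (orderOf y) := hNo.of_dvd_nat (N.orderOf_dvd_natCard hy)
    have hq2 : q ≠ 2 := fun e => hyo.not_two_dvd_nat (e ▸ hqd)
    set b := y ^ (orderOf y / q) with hb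
    have hbo : orderOf b = q := orderOf_pow_orderOf_div (orderOf_pos y).ne' hqd
    have hbodd : Odd (orderOf b) := hbo ▸ hq.odd_of_ne_two hq2
    have hbu : Commute b u := hyu.pow_left _
    have hbN : b ∈ N := pow_mem hy _
    obtain ⟨f, hf⟩ := isConj_iff.1 (h.one u z hu hz)
    set c := f * b * f⁻¹ with hcdef
    have hco : orderOf c = q := by rw [hcdef, ← MulAut.conj_apply, MulEquiv.orderOf_eq, hbo]
    have hcodd : Odd (orderOf c) := hco ▸ hq.odd_of_ne_two hq2
    have hcz : Commute c z := hf ▸ (Commute.conj hbu f : Commute (f * b * f⁻¹) (f * u * f⁻¹))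
    have hcN : c ∈ N := hNmem c (Subgroup.mem_centralizer_singleton_iff.2
      (h.cent.comm_odd hz hcodd hao hcz haz).eq) hcodd
    have hp : ∀ {w : G}, orderOf w = q → IsPGroup q (Subgroup.zpowers w) := fun hw =>
      IsPGroup.of_card (n := 1) (by rw [Nat.card_zpowers, hw, pow_one])
    have hV : four z u ≤ Subgroup.normalizer (N : Set G) := hfour ▸ hVN
    obtain ⟨nb1, nb2⟩ := h.cent.mem_normalizer_odd hu hz hne'.symm hc'.symm hbodd hbu
    obtain ⟨nc1, nc2⟩ := h.cent.mem_normalizer_odd hz hu hne' hc' hcodd hcz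
    obtain ⟨R, hRq, -, hRV, hbR, hcR⟩ := exists_common h.cent hz hu hne' hc' hNo hV
      (Subgroup.zpowers_le.2 hbN) (hp hbo) (four_le h.cent hz hu hne' hc' nb2 nb1)
      (Subgroup.zpowers_le.2 hcN) (hp hco) (four_le h.cent hz hu hne' hc' nc1 nc2)
    rcases h.comp_trivial hq2 hz hu hne' hc' ⟨hRq, hRV (mem_four_iff.2 ⟨Commute.refl z, hc'.symm⟩),
      hRV (mem_four_iff.2 ⟨hc', Commute.refl u⟩)⟩ (hcR (Subgroup.mem_zpowers c))
      (hbR (Subgroup.mem_zpowers b)) hcz hbu with e | e
    · rw [e, orderOf_one] at hco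
      exact hq.ne_one hco.symm
    · rw [e, orderOf_one] at hbo
      exact hq.ne_one hbo.symm
  have hzz := mul_self_of_orderOf_two hz
  have hfk : four z (z * k) = four z k := by
    ext y
    rw [mem_four_iff, mem_four_iff]
    refine ⟨fun ⟨e1, e2⟩ => ⟨e1, ?_⟩, fun ⟨e1, e2⟩ => ⟨e1, e1.mul_right e2⟩⟩
    have := e1.mul_right e2
    rwa [← mul_assoc, hzz, one_mul] at this
  have hNz : N ≤ Subgroup.centralizer ({z} : Set G) := by
    haveI := four_comm h.cent hz hk hne hc
    refine Coprime.le_of_centralizer_le (four_not_cyclic h.cent hz hk hne hc) hVN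
      (four_coprime h.cent hz hk hne hc hNo) fun u hu hu1 y hy => ?_
    have hyu : Commute y u := Subgroup.mem_centralizer_singleton_iff.1 hy.2
    rcases four_cases h.cent hz hk hne hc hu with rfl | rfl | rfl | rfl
    · exact absurd rfl hu1
    · exact hy.2
    · rw [key u hk hne hc hkN rfl y hy.1 hyu]
      exact one_mem _
    · rw [key (z * k) (orderOf_two_of_mul_self (four_sq h.cent hz hk hne hc hu) hu1)
        (fun e => ne_one_of_orderOf_two hk (mul_eq_left.1 e)) ((Commute.refl z).mul_left hc)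
        (mul_mem (hNn hzX) hkN) hfk y hy.1 hyu]
      exact one_mem _
  -- a conjugate of `z` centralising `a` is `z`
  have hodd : ∀ y : G, Commute y a → Odd (orderOf y) → Commute y z := fun y hy hyo =>
    Subgroup.mem_centralizer_singleton_iff.1
      (hNz (hNmem y (Subgroup.mem_centralizer_singleton_iff.2 hy.eq) hyo))
  set s := g * z * g⁻¹ with hs
  have hso : orderOf s = 2 := conj_orderOf_two hz g
  have hsa : Commute s a := (hg.mul_left haz.symm).mul_left hg.inv_left
  have hsz : Commute s z := by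
    rcases Nat.even_or_odd (orderOf (s * z)) with hev | ho
    · obtain ⟨j, hj⟩ := hev
      have hpos := orderOf_pos (s * z)
      set i := (s * z) ^ j with hi
      have hi1 : i ≠ 1 := fun e => by
        have := Nat.le_of_dvd (by omega) (orderOf_dvd_of_pow_eq_one e)
        omega
      have hii : i * i = 1 := by rw [hi, ← pow_add, ← hj, pow_orderOf_eq_one]
      have hio : orderOf i = 2 := orderOf_two_of_mul_self hii hi1
      have hiz : Commute i z := by
        have e : z * i * z⁻¹ = i⁻¹ := by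
          rw [hi, ← conj_pow, ← inv_pow]
          congr 1
          rw [mul_inv_rev, inv_of_orderOf_two hz, inv_of_orderOf_two hso, mul_assoc, mul_assoc,
            hzz, mul_one]
        rw [inv_eq_of_mul_eq_one_right hii] at e
        exact (mul_inv_eq_iff_eq_mul.1 e).symm
      have hia : Commute i a := (hsa.mul_left haz.symm).pow_left j
      by_cases e : i = z
      · have h' : Commute (s * z) z := by
          have := (Commute.refl (s * z)).pow_right j
          rwa [← hi, e] at this
        have := h'.mul_left (Commute.refl z)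
        rwa [mul_assoc, hzz, mul_one] at this
      · exact absurd (h.cent.eq_one_of_four hz hio e hiz hao haz hia.symm) ha1
    · have h' := hodd _ (hsa.mul_left haz.symm) ho
      have := h'.mul_left (Commute.refl z)
      rwa [mul_assoc, hzz, mul_one] at this
  have hsz' : s = z := by
    by_contra e
    exact ha1 (h.cent.eq_one_of_four hz hso e hsz hao haz hsa.symm)
  exact mul_inv_eq_iff_eq_mul.1 hsz'

/-- Normalisers of nontrivial odd subgroups centralised by an involution centralise the involution. -/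
theorem OneClass.normalizer_le (h : OneClass G) {v : G} (hv : orderOf v = 2) {Y : Subgroup G}
    (hY : Y ≠ ⊥) (hYv : ∀ y ∈ Y, Odd (orderOf y) ∧ Commute y v) :
    Subgroup.normalizer (Y : Set G) ≤ Subgroup.centralizer ({v} : Set G) := by
  intro g hg
  obtain ⟨⟨a, ha⟩, hne⟩ := Subgroup.ne_bot_iff_exists_ne_one.1 hY
  have ha1 : a ≠ 1 := fun e => hne (Subtype.ext e)
  obtain ⟨hao, hav⟩ := hYv a ha
  set s := g * v * g⁻¹ with hs
  have hso : orderOf s = 2 := conj_orderOf_two hv g
  have hsa : Commute s a := by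
    have hm : g⁻¹ * a * g ∈ Y := by
      have := (Subgroup.mem_normalizer_iff.1 (inv_mem hg) a).1 ha
      rwa [inv_inv] at this
    have e : Commute (g * (g⁻¹ * a * g) * g⁻¹) (g * v * g⁻¹) := Commute.conj (hYv _ hm).2 g
    rw [show g * (g⁻¹ * a * g) * g⁻¹ = a by group] at e
    exact e.symm
  have hsv : s = v := by
    by_contra e
    exact ha1 (h.cent.eq_one_of_four hv hso e (h.commute_of_commute hv ha1 hao hav hsa) hao hav hsa.symm)
  exact Subgroup.mem_centralizer_singleton_iff.2 (mul_inv_eq_iff_eq_mul.1 hsv)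

end CfsgLib.DGroup
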