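import Cfsg.Agent.Lib.DGroup.Defs
import Cfsg.Agent.Lib.Coprime.Action
import Cfsg.Agent.Lib.Transfer.Frobenius

/-!
# One class of involutions: normalisers of odd subgroups centralised by an involution

The argument of `OneClass.normalizer_le`, with the facts about fused local subgroups as hypotheses.
-/

set_option autoImplicit false
set_option linter.style.haveILetI false

namespace CfsgLib.DGroup

open Cfsg CfsgLib.Invol

variable {G : Type*} [Group G]

/-- No local subgroup of a nontrivial odd `p`-subgroup contains a four group with its three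
involutions permuted cyclically. -/
def NoFused (G : Type*) [Group G] : Prop :=
  ∀ (p : ℕ), p.Prime → ∀ (Y : Subgroup G), IsPGroup p Y → Y ≠ ⊥ → Odd (Nat.card Y) →
    ∀ z k n : G, orderOf z = 2 → orderOf k = 2 → k ≠ z → Commute k z →
      z ∈ Subgroup.normalizer (Y : Set G) → k ∈ Subgroup.normalizer (Y : Set G) →
      n ∈ Subgroup.normalizer (Y : Set G) → Cyc z k n → False

variable [Finite G]

/-- An involution acting on a finite subgroup without nontrivial fixed points inverts it. -/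
theorem inverts_of_fixed_free {K : Subgroup G} {d : G} (hd : d * d = 1)
    (hn : ∀ n ∈ K, d * n * d⁻¹ ∈ K) (h1 : ∀ n ∈ K, Commute n d → n = 1) :
    ∀ n ∈ K, d * n * d⁻¹ = n⁻¹ := by
  intro n hnK
  let φ : K →* K :=
    { toFun := fun u => ⟨d * u * d⁻¹, hn u u.2⟩
      map_one' := Subtype.ext (by simp)
      map_mul' := fun u v => Subtype.ext (by simp [mul_assoc]) }
  have hfp : MonoidHom.FixedPointFree φ := fun u hu => Subtype.ext (h1 u u.2 (by
    have e : d * (u : G) * d⁻¹ = u := congrArg Subtype.val hu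
    exact (mul_inv_eq_iff_eq_mul.1 e).symm))
  have hinv : Function.Involutive φ := fun u => Subtype.ext (by
    show d * (d * (u : G) * d⁻¹) * d⁻¹ = u
    rw [show d * (d * (u : G) * d⁻¹) * d⁻¹ = d * d * u * (d * d)⁻¹ by group, hd]; group)
  exact congrArg Subtype.val (congrFun (hfp.coe_eq_inv_of_involutive hinv) ⟨n, hnK⟩)

omit [Finite G] in
/-- An element of odd order commutes with whatever its square commutes with. -/
theorem commute_of_sq_commute {g q : G} (ho : Odd (orderOf g)) (h : Commute (g ^ 2) q) :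
    Commute g q := by
  obtain ⟨j, hj⟩ := ho
  have e : (g ^ 2) ^ (j + 1) = g := by
    rw [← pow_mul, show 2 * (j + 1) = orderOf g + 1 by omega, pow_succ, pow_orderOf_eq_one, one_mul]
  exact e ▸ h.pow_left _

/-- In an involution centraliser, an element of odd order fixing the involution centralises the
2-subgroups which it normalises; otherwise it permutes three involutions cyclically. -/
theorem commute_or_cyc (hG : DihCent G) {Q : Subgroup G} (hQ : IsPGroup 2 Q) {g : G}
    (hg : g ∈ Subgroup.normalizer (Q : Set G)) (ho : Odd (orderOf g)) :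
    (∀ q ∈ Q, Commute g q) ∨ ∃ z k, z ∈ Q ∧ k ∈ Q ∧ orderOf z = 2 ∧ orderOf k = 2 ∧ k ≠ z ∧
      Commute k z ∧ Cyc z k g := by
  rcases eq_or_ne Q ⊥ with rfl | hQ1
  · exact Or.inl fun q hq => by rw [Subgroup.mem_bot.1 hq]; exact Commute.one_right g
  haveI : Nontrivial Q := (Subgroup.nontrivial_iff_ne_bot Q).2 hQ1
  haveI : Fact (Nat.Prime 2) := ⟨Nat.prime_two⟩
  haveI : Nontrivial (Subgroup.center Q) := hQ.center_nontrivial
  obtain ⟨⟨⟨z, hzQ⟩, hzc⟩, hz2⟩ : ∃ c : Subgroup.center Q, orderOf c = 2 := by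
    obtain ⟨n, hn⟩ := (hQ.to_subgroup (Subgroup.center Q)).exists_card_eq
    have hn0 : n ≠ 0 := fun e => by
      rw [e, pow_zero] at hn
      exact absurd hn (Finite.one_lt_card (α := Subgroup.center Q)).ne'
    exact exists_prime_orderOf_dvd_card' 2 (hn ▸ dvd_pow_self 2 hn0)
  rw [← Subgroup.orderOf_coe, ← Subgroup.orderOf_coe] at hz2
  change orderOf z = 2 at hz2
  have hQz : ∀ q ∈ Q, Commute q z := fun q hq =>
    congrArg Subtype.val (Subgroup.mem_center_iff.1 hzc ⟨q, hq⟩)
  obtain ⟨A, x, d⟩ := hG z hz2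
  have hgQ : ∀ q ∈ Q, g * q * g⁻¹ ∈ Q := fun q hq => (Subgroup.mem_normalizer_iff.1 hg q).1 hq
  have hsq : ∀ q ∈ Q, q ∉ A → q * q = 1 := fun q hq hA => d.sq_outside (hQz q hq) hA
  have hzz : z * z = 1 := mul_self_of_orderOf_two hz2
  have hpA : ∀ q ∈ Q, ∀ r ∈ Q, q ∉ A → r ∉ A → q * r ∈ A := by
    intro q hq r hr hqA hrA
    have h1 := (d.cases q (Subgroup.mem_centralizer_singleton_iff.2 (hQz q hq))).resolve_left hqA
    have h2 := (d.cases r (Subgroup.mem_centralizer_singleton_iff.2 (hQz r hr))).resolve_left hrA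
    have h3 := d.inv _ h1
    have hx : x⁻¹ = x := inv_eq_of_mul_eq_one_right d.xsq
    have h4 : x * (x * q) * x⁻¹ * (x * r) = q * r := by
      rw [hx, ← mul_assoc x x q, d.xsq, one_mul, mul_assoc q x, ← mul_assoc x x r, d.xsq, one_mul]
    rw [← h4, h3]
    exact mul_mem (inv_mem h1) h2
  by_cases hgz : g * z * g⁻¹ = z
  · left
    have hgA : ∀ q ∈ Q, q ∈ A → g * q * g⁻¹ ∈ A := by
      intro q hq hA
      by_contra hcon
      have e := hsq _ (hgQ q hq) hcon
      rw [conj_mul] at e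
      have e' : q * q = 1 := by simpa using e
      rcases d.uniq q hA e' with rfl | rfl
      · exact hcon (by simp)
      · exact hcon (by rw [hgz]; exact d.mem)
    have hcA : ∀ q, q ∈ Q → q ∈ A → Commute g q := by
      intro q
      induction hn : orderOf q using Nat.strong_induction_on generalizing q with
      | _ n ih =>
        intro hq hA
        rcases eq_or_ne q 1 with rfl | hq1
        · exact Commute.one_right g
        have hlt : orderOf (q * q) < n := by
          obtain ⟨e, he⟩ := IsPGroup.iff_orderOf.1 hQ ⟨q, hq⟩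
          rw [← Subgroup.orderOf_coe] at he
          have he0 : e ≠ 0 := fun e0 => hq1 (orderOf_eq_one_iff.1 (by simpa [e0] using he))
          obtain ⟨e, rfl⟩ := Nat.exists_eq_succ_of_ne_zero he0
          refine lt_of_le_of_lt (Nat.le_of_dvd (by positivity) (orderOf_dvd_of_pow_eq_one
            (show (q * q) ^ 2 ^ e = 1 by
              rw [← sq, ← pow_mul, ← pow_succ', ← he, pow_orderOf_eq_one]))) ?_
          rw [← hn, he]
          exact Nat.pow_lt_pow_right one_lt_two (Nat.lt_succ_self e)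
        have h2 : Commute g (q * q) := ih _ hlt (q * q) rfl (mul_mem hq hq) (mul_mem hA hA)
        set c := g * q * g⁻¹ * q⁻¹ with hc
        have hcA : c ∈ A := mul_mem (hgA q hq hA) (inv_mem hA)
        have hcc : c * c = 1 := by
          have hcomm : Commute (g * q * g⁻¹) q⁻¹ := d.comm _ (hgA q hq hA) _ (inv_mem hA)
          rw [hc, hcomm.symm.mul_mul_mul_comm, show g * q * g⁻¹ * (g * q * g⁻¹) = g * (q * q) * g⁻¹ by group,
            h2.eq, mul_inv_cancel_right]
          group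
        rcases d.uniq c hcA hcc with e | e
        · exact mul_inv_eq_iff_eq_mul.1 (mul_inv_eq_one.1 e)
        · exfalso
          have hgq : g * q * g⁻¹ = z * q := by rw [← e, hc, inv_mul_cancel_right]
          have h3 : Commute (g ^ 2) q := by
            refine mul_inv_eq_iff_eq_mul.1 ?_
            calc g ^ 2 * q * (g ^ 2)⁻¹ = g * (g * q * g⁻¹) * g⁻¹ := by rw [pow_two]; group
              _ = g * (z * q) * g⁻¹ := by rw [hgq]
              _ = g * z * g⁻¹ * (g * q * g⁻¹) := by group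
              _ = q := by rw [hgz, hgq, ← mul_assoc, hzz, one_mul]
          have h4 := commute_of_sq_commute ho h3
          rw [h4.eq, mul_inv_cancel_right] at hgq
          exact ne_one_of_orderOf_two hz2 (mul_eq_right.1 hgq.symm)
    intro q hq
    by_cases hA : q ∈ A
    · exact hcA q hq hA
    have hq' : g * q * g⁻¹ ∉ A := fun h => by
      apply hA
      have h5 := hcA _ (hgQ q hq) h
      have h6 : g * q * g⁻¹ = q := by
        refine mul_left_cancel (a := g⁻¹) ?_ |>.symm
        rw [show g⁻¹ * (g * q * g⁻¹) = q * g⁻¹ by group]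
        have h7 := h5.eq
        calc g⁻¹ * q = g⁻¹ * (g⁻¹ * (g * q * g⁻¹) * g) := by group
          _ = g⁻¹ * (g⁻¹ * (g * (g * q * g⁻¹))) := by rw [h7]; group
          _ = q * g⁻¹ := by group
      exact h6 ▸ h
    have hc : g * q * g⁻¹ * q ∈ A := hpA _ (hgQ q hq) _ hq hq' hA
    have hgc : Commute g (g * q * g⁻¹ * q) := hcA _ (mul_mem (hgQ q hq) hq) hc
    set c := g * q * g⁻¹ * q with hcdef
    have hqq := hsq q hq hA
    have hgq : g * q * g⁻¹ = c * q := by rw [hcdef, mul_assoc (g * q * g⁻¹) q q, hqq, mul_one]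
    have hpow : ∀ i : ℕ, g ^ i * q * (g ^ i)⁻¹ = c ^ i * q := by
      intro i
      induction i with
      | zero => simp
      | succ i ih =>
        calc g ^ (i + 1) * q * (g ^ (i + 1))⁻¹ = g * (g ^ i * q * (g ^ i)⁻¹) * g⁻¹ := by
              rw [pow_succ']; group
          _ = g * c ^ i * g⁻¹ * (g * q * g⁻¹) := by rw [ih]; group
          _ = c ^ (i + 1) * q := by
              rw [(hgc.pow_right i).eq, mul_inv_cancel_right, hgq, ← mul_assoc, ← pow_succ]
    have hcn : c ^ orderOf g = 1 := by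
      have := hpow (orderOf g)
      rw [pow_orderOf_eq_one, one_mul, inv_one, mul_one] at this
      exact mul_eq_right.1 this.symm
    have hc1 : c = 1 := by
      obtain ⟨e, he⟩ := IsPGroup.iff_orderOf.1 hQ ⟨c, mul_mem (hgQ q hq) hq⟩
      rw [← Subgroup.orderOf_coe] at he
      rw [← orderOf_eq_one_iff]
      exact Nat.eq_one_of_dvd_coprimes (((Nat.coprime_two_left.2 ho).pow_left e)) (he ▸ dvd_rfl)
        (orderOf_dvd_of_pow_eq_one hcn)
    rw [hc1, one_mul] at hgq
    exact mul_inv_eq_iff_eq_mul.1 hgq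
  · right
    have hgz' : ¬ Commute g z := fun h => hgz (by rw [h.eq, mul_inv_cancel_right])
    have hB : ∀ b ∈ Q, b ∈ A → b * b = 1 := by
      intro b hb hA
      by_contra hb2
      -- a power of `b` is `z`, and so is the same power of its conjugate
      obtain ⟨e, he⟩ := IsPGroup.iff_orderOf.1 hQ ⟨b, hb⟩
      rw [← Subgroup.orderOf_coe] at he
      change orderOf b = 2 ^ e at he
      have he1 : 2 ≤ e := by
        by_contra hcon
        apply hb2
        rw [← sq, ← orderOf_dvd_iff_pow_eq_one, he]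
        exact pow_dvd_pow 2 (by omega : e ≤ 1) |>.trans (by simp)
      obtain ⟨f, rfl⟩ : ∃ f, e = f + 1 := ⟨e - 1, by omega⟩
      have hbz : b ^ 2 ^ f = z := by
        refine (d.uniq _ (pow_mem hA _) ?_).resolve_left fun h1 => ?_
        · rw [← pow_add, show 2 ^ f + 2 ^ f = 2 ^ (f + 1) by ring, ← he, pow_orderOf_eq_one]
        · have := Nat.le_of_dvd (by positivity) (he ▸ orderOf_dvd_of_pow_eq_one h1)
          have := Nat.pow_lt_pow_right (a := 2) one_lt_two (Nat.lt_succ_self f)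
          omega
      have hgb : g * b * g⁻¹ ∈ A := by
        by_contra hcon
        have e := hsq _ (hgQ b hb) hcon
        rw [conj_mul] at e
        exact hb2 (by simpa using e)
      refine hgz ?_
      have hzA : g * z * g⁻¹ ∈ A := by rw [← hbz, ← conj_pow]; exact pow_mem hgb _
      refine (d.uniq _ hzA ?_).resolve_left fun h1 => ne_one_of_orderOf_two hz2 (by simpa using h1)
      rw [conj_mul, hzz]; simp
    set k := g * z * g⁻¹ with hk
    set r := g * k * g⁻¹ with hr
    have hk2 : orderOf k = 2 := conj_orderOf_two hz2 g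
    have hr2 : orderOf r = 2 := conj_orderOf_two hk2 g
    have hkA : k ∉ A := fun h =>
      (d.uniq k h (mul_self_of_orderOf_two hk2)).elim (ne_one_of_orderOf_two hk2) hgz
    have hrz : r ≠ z := fun h => hgz' (commute_of_sq_commute ho (mul_inv_eq_iff_eq_mul.1 (by
      calc g ^ 2 * z * (g ^ 2)⁻¹ = g * (g * z * g⁻¹) * g⁻¹ := by rw [pow_two]; group
        _ = z := h)))
    have hrk : r ≠ k := fun h => hgz ((MulAut.conj g).injective h)
    have hrA : r ∉ A := fun h =>
      (d.uniq r h (mul_self_of_orderOf_two hr2)).elim (ne_one_of_orderOf_two hr2) hrz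
    have hkQ : k ∈ Q := hgQ z hzQ
    have hrQ : r ∈ Q := hgQ k hkQ
    have hm := hpA r hrQ k hkQ hrA hkA
    refine ⟨z, k, hzQ, hkQ, hz2, hk2, hgz, hQz k hkQ, rfl, ?_⟩
    rcases d.uniq (r * k) hm (hB _ (mul_mem hrQ hkQ) hm) with e | e
    · refine absurd ?_ hrk
      rw [eq_inv_of_mul_eq_one_left e, inv_of_orderOf_two hk2]
    · calc g * k * g⁻¹ = r * k * k := by rw [mul_assoc r k k, mul_self_of_orderOf_two hk2, mul_one]
        _ = z * k := by rw [e]

/-- The normaliser of a nontrivial odd `p`-subgroup has a normal subgroup of odd order containing all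
its elements of odd order. -/
theorem exists_odd_part (hG : DihCent G) (hloc : NoFused G) {p : ℕ} (hp : p.Prime) {Y : Subgroup G}
    (hY : IsPGroup p Y) (hY1 : Y ≠ ⊥) (hYo : Odd (Nat.card Y)) :
    ∃ O : Subgroup G, O ≤ Subgroup.normalizer (Y : Set G) ∧
      Subgroup.normalizer (Y : Set G) ≤ Subgroup.normalizer (O : Set G) ∧ Odd (Nat.card O) ∧
      ∀ g ∈ Subgroup.normalizer (Y : Set G), Odd (orderOf g) → g ∈ O := by
  haveI : Fact (Nat.Prime 2) := ⟨Nat.prime_two⟩
  set X := Subgroup.normalizer (Y : Set G) with hX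
  have hauto : Transfer.PAutomizers 2 X := by
    intro Q hQ g hg hgc
    rw [Nat.coprime_two_right] at hgc
    have hg' : (g : G) ∈ Subgroup.normalizer ((Q.map X.subtype : Subgroup G) : Set G) :=
      Subgroup.le_normalizer_map X.subtype (Subgroup.mem_map_of_mem _ hg)
    have hQX : ∀ a ∈ Q.map X.subtype, a ∈ X := fun a ha => Subgroup.map_subtype_le Q ha
    rcases commute_or_cyc hG (hQ.map X.subtype) hg' (by rwa [Subgroup.orderOf_coe]) with h | h
    · rw [Subgroup.mem_centralizer_iff]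
      exact fun q hq => Subtype.ext (h q (Subgroup.mem_map_of_mem _ hq)).eq.symm
    · obtain ⟨z, k, hz, hk, hz2, hk2, hne, hcomm, hn⟩ := h
      exact (hloc p hp Y hY hY1 hYo z k g hz2 hk2 hne hcomm (hQX z hz) (hQX k hk) g.2 hn).elim
  obtain ⟨P, N, hN, hcompl⟩ := Transfer.hasNormalPComplement_of_pAutomizers hauto
  have hNo : Odd (Nat.card N) := by
    rw [← Nat.not_even_iff_odd, even_iff_two_dvd, ← hcompl.index_eq_card]
    exact P.not_dvd_index
  refine ⟨N.map X.subtype, Subgroup.map_subtype_le _, fun a ha => ?_,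
    by rwa [Subgroup.card_map_of_injective X.subtype_injective], fun g hgX hgo => ?_⟩
  · have h1 := Subgroup.le_normalizer_map X.subtype (H := N)
    rw [Subgroup.normalizer_eq_top, ← MonoidHom.range_eq_map, Subgroup.range_subtype] at h1
    exact h1 ha
  · refine ⟨⟨g, hgX⟩, ?_, rfl⟩
    rw [SetLike.mem_coe, ← QuotientGroup.eq_one_iff, ← orderOf_eq_one_iff]
    have h1 : orderOf (QuotientGroup.mk (s := N) ⟨g, hgX⟩) ∣ orderOf g :=
      (orderOf_map_dvd (QuotientGroup.mk' N) ⟨g, hgX⟩).trans (by rw [← Subgroup.orderOf_coe])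
    have h2 : orderOf (QuotientGroup.mk (s := N) ⟨g, hgX⟩) ∣ Nat.card P :=
      (orderOf_dvd_natCard _).trans (by
        rw [← Subgroup.index_eq_card, hcompl.symm.index_eq_card])
    obtain ⟨e, he⟩ := P.2.exists_card_eq
    exact Nat.eq_one_of_dvd_coprimes ((Nat.coprime_two_left.2 hgo).pow_left e) (he ▸ h2) h1

/-- `P` is a `p`-subgroup invariant under `z` and `k`. -/
def Inv (p : ℕ) (z k : G) (P : Subgroup G) : Prop :=
  IsPGroup p P ∧ z ∈ Subgroup.normalizer (P : Set G) ∧ k ∈ Subgroup.normalizer (P : Set G)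

omit [Finite G] in
theorem mem_normalizer_inf {P Q : Subgroup G} {g : G} (h1 : g ∈ Subgroup.normalizer (P : Set G))
    (h2 : g ∈ Subgroup.normalizer (Q : Set G)) : g ∈ Subgroup.normalizer ((P ⊓ Q : Subgroup G) : Set G) :=
  Subgroup.mem_normalizer_iff.2 fun n => by
    simp only [Subgroup.mem_inf, Subgroup.mem_normalizer_iff.1 h1 n, Subgroup.mem_normalizer_iff.1 h2 n]

omit [Finite G] in
theorem mem_normalizer_normalizer {D : Subgroup G} {g : G}
    (h : g ∈ Subgroup.normalizer (D : Set G)) :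
    g ∈ Subgroup.normalizer ((Subgroup.normalizer (D : Set G) : Subgroup G) : Set G) :=
  Subgroup.le_normalizer h

theorem odd_card_of_isPGroup {p : ℕ} (hp : p.Prime) (hp2 : p ≠ 2) {P : Subgroup G}
    (hP : IsPGroup p P) : Odd (Nat.card P) := by
  haveI : Fact p.Prime := ⟨hp⟩
  obtain ⟨n, hn⟩ := hP.exists_card_eq
  exact hn ▸ (hp.odd_of_ne_two hp2).pow

/-- Invariant `p`-subgroups of an odd subgroup lie in one invariant Sylow subgroup. -/
theorem exists_common (hG : DihCent G) {p : ℕ} (hp : p.Prime) {z k : G} (hz : orderOf z = 2)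
    (hk : orderOf k = 2) (hne : k ≠ z) (hc : Commute k z) {K : Subgroup G} (hKo : Odd (Nat.card K))
    (hzK : z ∈ Subgroup.normalizer (K : Set G)) (hkK : k ∈ Subgroup.normalizer (K : Set G)) :
    ∃ R : Sylow p K, Inv p z k ((R : Subgroup K).map K.subtype) ∧
      ∀ P ≤ K, Inv p z k P → P ≤ (R : Subgroup K).map K.subtype := by
  haveI : Fact p.Prime := ⟨hp⟩
  set V := Subgroup.zpowers z ⊔ Subgroup.zpowers k with hV
  have hVn : ∀ P : Subgroup G, z ∈ Subgroup.normalizer (P : Set G) →
      k ∈ Subgroup.normalizer (P : Set G) → V ≤ Subgroup.normalizer (P : Set G) := fun P h1 h2 =>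
    sup_le (Subgroup.zpowers_le.2 h1) (Subgroup.zpowers_le.2 h2)
  have hVp : IsPGroup 2 V := by
    have h2 : ∀ a : G, orderOf a = 2 → IsPGroup 2 (Subgroup.zpowers a) := fun a ha =>
      IsPGroup.of_card (n := 1) (by rw [Nat.card_zpowers, ha, pow_one])
    refine IsPGroup.to_sup_of_normal_right' (h2 z hz) (h2 k hk) ?_
    rw [Subgroup.zpowers_le]
    refine Subgroup.centralizer_le_normalizer _ (Subgroup.mem_centralizer_iff.2 fun a ha => ?_)
    obtain ⟨i, rfl⟩ := Subgroup.mem_zpowers_iff.1 ha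
    exact (hc.zpow_left i).eq
  haveI : Fact (Nat.Prime 2) := ⟨Nat.prime_two⟩
  haveI := hVp.isNilpotent
  have hcop : (Nat.card V).Coprime (Nat.card K) := by
    obtain ⟨n, hn⟩ := hVp.exists_card_eq
    exact hn ▸ (Nat.coprime_two_left.2 hKo).pow_left n
  have hsolv : Group.IsSolvable V ∨ Group.IsSolvable K := Or.inl inferInstance
  obtain ⟨R, hR⟩ := Coprime.exists_invariant_sylow (hVn K hzK hkK) hcop hsolv p
  refine ⟨R, ⟨R.2.map _, hR (Subgroup.mem_sup_left (Subgroup.mem_zpowers z)),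
    hR (Subgroup.mem_sup_right (Subgroup.mem_zpowers k))⟩, fun P hPK hP => ?_⟩
  obtain ⟨S, hPS, hS⟩ := Coprime.exists_invariant_sylow_ge (hVn K hzK hkK) hcop hsolv hPK hP.1
    (hVn P hP.2.1 hP.2.2)
  obtain ⟨c, hcV, hcS⟩ := Coprime.invariant_sylow_conj (hVn K hzK hkK) hcop hsolv S R hS hR
  have hc1 : (c : G) = 1 := by
    refine hG.eq_one_of_four hz hk hne hc ?_
      (Subgroup.mem_centralizer_iff.1 hcV z (Subgroup.mem_sup_left (Subgroup.mem_zpowers z))).symm
      (Subgroup.mem_centralizer_iff.1 hcV k (Subgroup.mem_sup_right (Subgroup.mem_zpowers k))).symm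
    exact hKo.of_dvd_nat (by rw [Subgroup.orderOf_coe]; exact orderOf_dvd_natCard c)
  rw [show c = 1 from Subtype.ext hc1, one_smul] at hcS
  exact hcS ▸ hPS

/-- Two invariant `p`-subgroups meeting nontrivially lie in a third. -/
theorem exists_sup (hG : DihCent G) (hloc : NoFused G) {p : ℕ} (hp : p.Prime) (hp2 : p ≠ 2)
    {z k : G} (hz : orderOf z = 2) (hk : orderOf k = 2) (hne : k ≠ z) (hc : Commute k z) :
    ∀ P Q : Subgroup G, Inv p z k P → Inv p z k Q → P ⊓ Q ≠ ⊥ →
      ∃ R, Inv p z k R ∧ P ≤ R ∧ Q ≤ R := by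
  haveI : Fact p.Prime := ⟨hp⟩
  intro P Q
  induction hn : Nat.card G - Nat.card (P ⊓ Q : Subgroup G) using Nat.strong_induction_on
    generalizing P Q with
  | _ n ih =>
    intro hP hQ hD
    by_cases hPQ : P ≤ Q
    · exact ⟨Q, hQ, hPQ, le_rfl⟩
    by_cases hQP : Q ≤ P
    · exact ⟨P, hP, le_rfl, hQP⟩
    set D := P ⊓ Q with hDdef
    have hDp : IsPGroup p D := hP.1.to_le inf_le_left
    have hzD := mem_normalizer_inf hP.2.1 hQ.2.1
    have hkD := mem_normalizer_inf hP.2.2 hQ.2.2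
    obtain ⟨O, hOX, hXO, hOo, hmem⟩ :=
      exists_odd_part hG hloc hp hDp hD (odd_card_of_isPGroup hp hp2 hDp)
    obtain ⟨R, hR, hall⟩ := exists_common hG hp hz hk hne hc hOo (hXO hzD) (hXO hkD)
    set R' := (R : Subgroup O).map O.subtype
    have key : ∀ T : Subgroup G, Inv p z k T → D < T →
        ∃ T₁ ≤ T, T₁ ≤ R' ∧ D < T₁ := by
      intro T hT hlt
      have hTinv : Inv p z k (T ⊓ Subgroup.normalizer (D : Set G)) :=
        ⟨hT.1.to_le inf_le_left, mem_normalizer_inf hT.2.1 (mem_normalizer_normalizer hzD),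
          mem_normalizer_inf hT.2.2 (mem_normalizer_normalizer hkD)⟩
      refine ⟨_, inf_le_left, hall _ (fun g hg => hmem g hg.2 ?_) hTinv, ?_⟩
      · exact (odd_card_of_isPGroup hp hp2 hT.1).of_dvd_nat
          ((Subgroup.orderOf_mk g hg.1).symm ▸ orderOf_dvd_natCard (⟨g, hg.1⟩ : T))
      · haveI := hT.1.isNilpotent
        refine lt_of_le_of_ne (le_inf hlt.le Subgroup.le_normalizer) fun he => ?_
        have h1 : D.subgroupOf T < ⊤ :=
          lt_top_iff_ne_top.2 fun h => hlt.not_ge (Subgroup.subgroupOf_eq_top.1 h)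
        obtain ⟨x, hx, hxD⟩ := SetLike.exists_of_lt (Group.normalizerCondition_of_isNilpotent _ h1)
        refine hxD (show (x : G) ∈ D from he ▸ Subgroup.mem_inf.2 ⟨x.2, ?_⟩)
        have h2 := Subgroup.le_normalizer_map T.subtype (Subgroup.mem_map_of_mem _ hx)
        rwa [Subgroup.map_subgroupOf_eq_of_le hlt.le] at h2
    have hDR : D ≤ R' := hall D (fun g hg => hmem g (Subgroup.le_normalizer hg)
      ((odd_card_of_isPGroup hp hp2 hDp).of_dvd_nat
        ((Subgroup.orderOf_mk g hg).symm ▸ orderOf_dvd_natCard (⟨g, hg⟩ : D)))) ⟨hDp, hzD, hkD⟩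
    have hgrow : ∀ {A B : Subgroup G}, D < A ⊓ B →
        Nat.card G - Nat.card (A ⊓ B : Subgroup G) < n := by
      intro A B hlt
      have h1 : Nat.card D < Nat.card (A ⊓ B : Subgroup G) := by
        refine lt_of_le_of_ne (Subgroup.card_le_of_le hlt.le) fun e => hlt.ne ?_
        exact Subgroup.eq_of_le_of_card_ge hlt.le e.ge
      have h2 : Nat.card (A ⊓ B : Subgroup G) ≤ Nat.card G := Subgroup.card_le_card_group _
      omega
    obtain ⟨P₁, hP₁P, hP₁R, hP₁⟩ := key P hP (lt_of_le_of_ne inf_le_left fun e => hPQ (inf_eq_left.1 e))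
    obtain ⟨Q₁, hQ₁Q, hQ₁R, hQ₁⟩ := key Q hQ (lt_of_le_of_ne inf_le_right fun e => hQP (inf_eq_right.1 e))
    have h1 : D < P ⊓ R' := hP₁.trans_le (le_inf hP₁P hP₁R)
    obtain ⟨S, hS, hPS, hRS⟩ := ih _ (hgrow h1) P R' rfl hP hR (fun e => hD (le_bot_iff.1 (e ▸ h1.le)))
    have h2 : D < S ⊓ Q := hQ₁.trans_le (le_inf (hQ₁R.trans hRS) hQ₁Q)
    obtain ⟨T, hT, hST, hQT⟩ := ih _ (hgrow h2) S Q rfl hS hQ (fun e => hD (le_bot_iff.1 (e ▸ h2.le)))
    exact ⟨T, hT, hPS.trans hST, hQT⟩

omit [Finite G] in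
/-- The fixed points in an invariant subgroup are invariant. -/
theorem inv_fixed {p : ℕ} {z k w : G} {P : Subgroup G} (h : Inv p z k P) (hzw : Commute z w)
    (hkw : Commute k w) : Inv p z k (P ⊓ Subgroup.centralizer ({w} : Set G)) :=
  ⟨h.1.to_le inf_le_left,
    mem_normalizer_inf h.2.1 (Subgroup.le_normalizer (Subgroup.mem_centralizer_singleton_iff.2 hzw)),
    mem_normalizer_inf h.2.2 (Subgroup.le_normalizer (Subgroup.mem_centralizer_singleton_iff.2 hkw))⟩

/-- An invariant `p`-group has at most one component. -/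
theorem one_component (hG : DihCent G) (hloc : NoFused G) {p : ℕ} (hp : p.Prime) (hp2 : p ≠ 2)
    {z k n : G} (hz : orderOf z = 2) (hk : orderOf k = 2) (hne : k ≠ z) (hc : Commute k z)
    (hn : Cyc z k n) {P : Subgroup G} (hP : Inv p z k P) {a b : G} (ha : a ∈ P) (ha1 : a ≠ 1)
    (haz : Commute a z) (hb : b ∈ P) (hb1 : b ≠ 1) (hbk : Commute b k) : False := by
  haveI : Fact p.Prime := ⟨hp⟩
  obtain ⟨M, hPM, hM⟩ := Finite.exists_le_maximal (p := Inv p z k) (a := P) hP
  obtain ⟨hMp, hzM, hkM⟩ := hM.prop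
  have habs : ∀ S, Inv p z k S → M ⊓ S ≠ ⊥ → S ≤ M := by
    intro S hS hne'
    obtain ⟨T, hT, hMT, hST⟩ := exists_sup hG hloc hp hp2 hz hk hne hc M S hM.prop hS hne'
    exact hST.trans (hM.le_of_ge hT hMT)
  have hodd : ∀ g, g ∈ M → Odd (orderOf g) := fun g hg =>
    (odd_card_of_isPGroup hp hp2 hMp).of_dvd_nat
      ((Subgroup.orderOf_mk g hg).symm ▸ orderOf_dvd_natCard (⟨g, hg⟩ : M))
  set φ := (MulAut.conj n).toMonoidHom with hφ
  have hφa : φ a = n * a * n⁻¹ := rfl
  set E₁ := M ⊓ Subgroup.centralizer ({k} : Set G) with hE₁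
  set E₂ := (M ⊓ Subgroup.centralizer ({z} : Set G)).map φ with hE₂
  set M' := M.map φ with hM'
  have hM'inv : Inv p z k M' := by
    have h1 : ∀ g, g ∈ Subgroup.normalizer (M : Set G) → n * g * n⁻¹ ∈ Subgroup.normalizer (M' : Set G) :=
      fun g hg => Subgroup.le_normalizer_map φ (Subgroup.mem_map_of_mem φ hg)
    have hk' := h1 z hzM
    have hzk' := h1 k hkM
    rw [hn.1] at hk'
    rw [hn.2] at hzk'
    refine ⟨hMp.map φ, ?_, hk'⟩
    simpa [mul_assoc, mul_self_of_orderOf_two hk] using mul_mem hzk' hk'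
  have hE2inv : Inv p z k E₂ := by
    have e : E₂ = M' ⊓ Subgroup.centralizer ({k} : Set G) := by
      rw [hE₂, hM', Subgroup.map_inf _ _ _ (MulAut.conj n).injective]
      congr 1
      ext g
      simp only [Subgroup.mem_map, Subgroup.mem_centralizer_singleton_iff]
      constructor
      · rintro ⟨w, hw, rfl⟩
        show (n * w * n⁻¹) * k = k * (n * w * n⁻¹)
        rw [← hn.1, conj_mul, conj_mul, hw]
      · intro hg
        refine ⟨n⁻¹ * g * n, ?_, by simp [hφ, mul_assoc]⟩
        apply mul_left_cancel (a := n)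
        apply mul_right_cancel (b := n⁻¹)
        rw [← hn.1] at hg
        calc n * (n⁻¹ * g * n * z) * n⁻¹ = g * (n * z * n⁻¹) := by group
          _ = n * z * n⁻¹ * g := hg
          _ = n * (z * (n⁻¹ * g * n)) * n⁻¹ := by group
    exact e ▸ inv_fixed hM'inv hc.symm (Commute.refl k)
  have hE1inv : Inv p z k E₁ := inv_fixed hM.prop hc.symm (Commute.refl k)
  have hcommE : ∀ g ∈ E₁, ∀ h ∈ E₂, Commute g h := by
    rintro g ⟨hgM, hgk⟩ h ⟨w, ⟨hwM, hwz⟩, rfl⟩
    refine hG.comm_odd hk (hodd g hgM) ?_ (Subgroup.mem_centralizer_singleton_iff.1 hgk) ?_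
    · show Odd (orderOf (n * w * n⁻¹))
      rw [Transfer.orderOf_conj]
      exact hodd w hwM
    · show (n * w * n⁻¹) * k = k * (n * w * n⁻¹)
      rw [← hn.1, conj_mul, conj_mul, Subgroup.mem_centralizer_singleton_iff.1 hwz]
  have hE : Inv p z k (E₁ ⊔ E₂) := by
    refine ⟨IsPGroup.to_sup_of_normal_right' hE1inv.1 hE2inv.1 fun g hg => ?_, ?_, ?_⟩
    · exact Subgroup.centralizer_le_normalizer _
        (Subgroup.mem_centralizer_iff.2 fun h hh => (hcommE g hg h hh).eq.symm)
    · exact Coprime.le_normalizer_sup_of_le (Subgroup.zpowers_le.2 hE1inv.2.1) (Subgroup.zpowers_le.2 hE2inv.2.1) (Subgroup.mem_zpowers z)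
    · exact Coprime.le_normalizer_sup_of_le (Subgroup.zpowers_le.2 hE1inv.2.2) (Subgroup.zpowers_le.2 hE2inv.2.2) (Subgroup.mem_zpowers k)
  have hbE : b ∈ E₁ := ⟨hPM hb, Subgroup.mem_centralizer_singleton_iff.2 hbk⟩
  have h1 := habs _ hE fun e => hb1 (Subgroup.mem_bot.1 (e ▸ (⟨hPM hb, Subgroup.mem_sup_left hbE⟩ : b ∈ M ⊓ (E₁ ⊔ E₂))))
  have haE : φ a ∈ E₂ := Subgroup.mem_map_of_mem φ ⟨hPM ha, Subgroup.mem_centralizer_singleton_iff.2 haz⟩
  have h2 := habs M' hM'inv fun e => ha1 ((MulAut.conj n).injective (by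
    rw [map_one]
    exact Subgroup.mem_bot.1 (e ▸ (⟨h1 (Subgroup.mem_sup_right haE), Subgroup.mem_map_of_mem φ (hPM ha)⟩ : φ a ∈ M ⊓ M'))))
  have hnM : n ∈ Subgroup.normalizer (M : Set G) := by
    have hEq : M' = M := Subgroup.eq_of_le_of_card_ge h2
      (Subgroup.card_map_of_injective (MulAut.conj n).injective).ge
    refine Subgroup.mem_normalizer_iff.2 fun g => ⟨fun hg => hEq ▸ Subgroup.mem_map_of_mem φ hg,
      fun hg => ?_⟩
    obtain ⟨w, hw, he⟩ := (hEq.symm ▸ hg : n * g * n⁻¹ ∈ M')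
    exact (MulAut.conj n).injective he ▸ hw
  exact hloc p hp M hMp (fun e => ha1 (Subgroup.mem_bot.1 (e ▸ hPM ha)))
    (odd_card_of_isPGroup hp hp2 hMp) z k n hz hk hne hc hzM hkM hnM hn

/-- The normaliser of a nontrivial odd subgroup centralised by an involution centralises it. -/
theorem normalizer_le_of_noFused (hG : DihCent G)
    (hone : ∀ s t : G, orderOf s = 2 → orderOf t = 2 → IsConj s t) (hloc : NoFused G)
    (hcyc : ∀ z k : G, orderOf z = 2 → orderOf k = 2 → k ≠ z → Commute k z → ∃ n, Cyc z k n)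
    {v : G} (hv : orderOf v = 2) {Y : Subgroup G} (hY : Y ≠ ⊥)
    (hYv : ∀ y ∈ Y, Odd (orderOf y) ∧ Commute y v) :
    Subgroup.normalizer (Y : Set G) ≤ Subgroup.centralizer ({v} : Set G) := by
  obtain ⟨k, hk, hkv, hc⟩ := hG.exists_partner hv
  obtain ⟨y, hyY, hy1⟩ := (Subgroup.bot_or_exists_ne_one Y).resolve_left hY
  obtain ⟨p, hp, hpy⟩ := Nat.exists_prime_and_dvd (fun h => hy1 (orderOf_eq_one_iff.1 h))
  haveI : Fact p.Prime := ⟨hp⟩
  have hy0 : orderOf y / p ∣ orderOf y := Nat.div_dvd_of_dvd hpy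
  set a := y ^ (orderOf y / p) with ha_def
  have hap : orderOf a = p := by
    rw [ha_def, orderOf_pow_of_dvd (Nat.div_pos (Nat.le_of_dvd (orderOf_pos y) hpy) hp.pos).ne' hy0,
      Nat.div_div_self hpy (orderOf_pos y).ne']
  have haY : a ∈ Y := pow_mem hyY _
  obtain ⟨hao, hav⟩ := hYv a haY
  set Z := Subgroup.zpowers a with hZ
  have hZp : IsPGroup p Z := IsPGroup.of_card (n := 1) (by rw [Nat.card_zpowers, hap, pow_one])
  have hZ1 : Z ≠ ⊥ := fun e => hp.one_lt.ne' (by
    rw [← hap, Subgroup.zpowers_eq_bot.1 e, orderOf_one])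
  have hp2 : p ≠ 2 := fun e => by rw [hap, e] at hao; exact absurd hao (by decide)
  obtain ⟨O, hOX, hXO, hOo, hmem⟩ := exists_odd_part hG hloc hp hZp hZ1 (odd_card_of_isPGroup hp hp2 hZp)
  have hcZ : ∀ g, Commute g a → g ∈ Subgroup.normalizer (Z : Set G) := fun g hg =>
    Subgroup.centralizer_le_normalizer _ (Subgroup.mem_centralizer_iff.2 fun w hw => by
      obtain ⟨i, rfl⟩ := Subgroup.mem_zpowers_iff.1 hw
      exact (hg.symm.zpow_left i).eq)
  have hvX : v ∈ Subgroup.normalizer (Z : Set G) := hcZ v hav.symm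
  have hkX : k ∈ Subgroup.normalizer (Z : Set G) := by
    refine Subgroup.mem_normalizer_fintype fun w hw => ?_
    obtain ⟨i, rfl⟩ := Subgroup.mem_zpowers_iff.1 hw
    rw [← conj_zpow, hG.inv_odd hv hk hkv hc hao hav, inv_zpow]
    exact inv_mem (zpow_mem (Subgroup.mem_zpowers a) i)
  have hvO := hXO hvX
  have hkO := hXO hkX
  have hkk := mul_self_of_orderOf_two hk
  have hvv := mul_self_of_orderOf_two hv
  -- the three involutions
  set l := v * k with hl
  have hlc : Commute l v := (Commute.refl v).mul_left hc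
  have hl2 : orderOf l = 2 := by
    refine orderOf_two_of_mul_self ?_ fun e => hkv ?_
    · rw [hl, hc.mul_mul_mul_comm, hvv, hkk, one_mul]
    · rw [eq_inv_of_mul_eq_one_right e, inv_of_orderOf_two hv]
  have hlv : l ≠ v := fun e => ne_one_of_orderOf_two hk (mul_eq_left.1 e)
  have hkl : k * v = l := hc.eq
  -- every invariant Sylow subgroup of `O` centralises `v`
  have hsyl : ∀ q : ℕ, q.Prime → q ∣ Nat.card O → ∀ g, g ∈ O →
      ∀ R : Sylow q O, Inv q v k ((R : Subgroup O).map O.subtype) →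
      (∀ P ≤ O, Inv q v k P → P ≤ (R : Subgroup O).map O.subtype) →
      g ∈ (R : Subgroup O).map O.subtype → Commute g v := by
    intro q hq hqO g _ R hR hall hgR
    haveI : Fact q.Prime := ⟨hq⟩
    have hq2 : q ≠ 2 := fun e => Nat.not_even_iff_odd.2 hOo (even_iff_two_dvd.2 (e ▸ hqO))
    set Q := (R : Subgroup O).map O.subtype with hQ
    have hQo : ∀ w ∈ Q, Odd (orderOf w) := fun w hw =>
      (odd_card_of_isPGroup hq hq2 hR.1).of_dvd_nat
        ((Subgroup.orderOf_mk w hw).symm ▸ orderOf_dvd_natCard (⟨w, hw⟩ : Q))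
    have hnor : ∀ x ∈ Subgroup.normalizer (Q : Set G), ∀ w ∈ Q, x * w * x⁻¹ ∈ Q := fun x hx w hw =>
      (Subgroup.mem_normalizer_iff.1 hx w).1 hw
    have hfree : ∀ u u' : G, orderOf u = 2 → orderOf u' = 2 → u' ≠ u → Commute u' u →
        Inv q u u' Q → (∃ w ∈ Q, w ≠ 1 ∧ Commute w u) → ∀ w ∈ Q, Commute w u' → w = 1 := by
      intro u u' hu hu' hne huu hinv ⟨w₀, hw₀, hw₁, hw₂⟩ w hw hwu
      by_contra h1
      obtain ⟨n, hn⟩ := hcyc u u' hu hu' hne huu
      exact one_component hG hloc hq hq2 hu hu' hne huu hn hinv hw₀ hw₁ hw₂ hw h1 hwu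
    have hlQ : l ∈ Subgroup.normalizer (Q : Set G) := mul_mem hR.2.1 hR.2.2
    -- two fixed point free involutions among the three force the third to centralise
    have hthird : ∀ u u' : G, u * u = 1 → u' * u' = 1 → u ∈ Subgroup.normalizer (Q : Set G) →
        u' ∈ Subgroup.normalizer (Q : Set G) → (∀ w ∈ Q, Commute w u → w = 1) →
        (∀ w ∈ Q, Commute w u' → w = 1) → ∀ w ∈ Q, Commute w (u * u') := by
      intro u u' hu hu' hun hu'n h1 h2 w hw
      have e1 := inverts_of_fixed_free hu (hnor u hun) h1 w⁻¹ (inv_mem hw)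
      have e2 := inverts_of_fixed_free hu' (hnor u' hu'n) h2 w hw
      refine (mul_inv_eq_iff_eq_mul.1 ?_).symm
      calc u * u' * w * (u * u')⁻¹ = u * (u' * w * u'⁻¹) * u⁻¹ := by group
        _ = w := by rw [e2, e1, inv_inv]
    by_cases hQv : ∃ w ∈ Q, w ≠ 1 ∧ Commute w v
    · have h1 := hfree v k hv hk hkv hc hR hQv
      have h2 := hfree v l hv hl2 hlv hlc ⟨hR.1, hR.2.1, hlQ⟩ hQv
      have h3 := hthird k l hkk (mul_self_of_orderOf_two hl2) hR.2.2 hlQ h1 h2 g hgR
      rwa [show k * l = v by rw [hl, hc.symm.eq, ← mul_assoc, hkk, one_mul]] at h3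
    · by_contra hgv
      have hQv' : ∀ w ∈ Q, Commute w v → w = 1 := fun w hw hwv => by
        by_contra h1
        exact hQv ⟨w, hw, h1, hwv⟩
      -- some other involution has fixed points
      obtain ⟨u, hu, hqu⟩ : ∃ u : G, orderOf u = 2 ∧ q ∣ Nat.card (Subgroup.centralizer ({u} : Set G)) := by
        have hg1 : g ≠ 1 := fun e => hgv (e ▸ Commute.one_left v)
        obtain ⟨u, hu, w, hw, hw1, hwu⟩ : ∃ u, orderOf u = 2 ∧ ∃ w ∈ Q, w ≠ 1 ∧ Commute w u := by
          by_cases hQk : ∃ w ∈ Q, w ≠ 1 ∧ Commute w k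
          · exact ⟨k, hk, hQk⟩
          · refine ⟨l, hl2, g, hgR, hg1, hthird v k hvv hkk hR.2.1 hR.2.2 hQv' (fun w hw hwk => ?_) g hgR⟩
            by_contra h1
            exact hQk ⟨w, hw, h1, hwk⟩
        refine ⟨u, hu, ?_⟩
        obtain ⟨e, he⟩ := IsPGroup.iff_orderOf.1 hR.1 ⟨w, hw⟩
        rw [← Subgroup.orderOf_coe] at he
        change orderOf w = q ^ e at he
        have he0 : e ≠ 0 := fun e0 => hw1 (orderOf_eq_one_iff.1 (by rw [he, e0, pow_zero]))
        refine ((dvd_pow_self q he0).trans he.symm.dvd).trans ?_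
        rw [← Subgroup.orderOf_mk w (Subgroup.mem_centralizer_singleton_iff.2 hwu)]
        exact orderOf_dvd_natCard _
      obtain ⟨c, hcu⟩ := isConj_iff.1 (hone u v hu hv)
      obtain ⟨⟨b, hbu⟩, hb⟩ := exists_prime_orderOf_dvd_card' q hqu
      rw [← Subgroup.orderOf_coe] at hb
      change orderOf b = q at hb
      set b' := c * b * c⁻¹ with hb'
      have hb'q : orderOf b' = q := by rw [hb', Transfer.orderOf_conj, hb]
      have hb'v : Commute b' v := by
        show c * b * c⁻¹ * v = v * (c * b * c⁻¹)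
        rw [← hcu, conj_mul, conj_mul, Subgroup.mem_centralizer_singleton_iff.1 hbu]
      have hb'o : Odd (orderOf b') := hb'q ▸ hq.odd_of_ne_two hq2
      have hb'O : b' ∈ O := hmem b' (hcZ b' (hG.comm_odd hv hb'o hao hb'v hav)) hb'o
      have hinv : Inv q v k (Subgroup.zpowers b') := by
        refine ⟨IsPGroup.of_card (n := 1) (by rw [Nat.card_zpowers, hb'q, pow_one]), ?_, ?_⟩ <;>
          refine Subgroup.mem_normalizer_fintype fun w hw => ?_ <;>
          obtain ⟨i, rfl⟩ := Subgroup.mem_zpowers_iff.1 hw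
        · rw [(hb'v.zpow_left i).symm.eq, mul_inv_cancel_right]
          exact zpow_mem (Subgroup.mem_zpowers b') i
        · rw [← conj_zpow, hG.inv_odd hv hk hkv hc hb'o hb'v, inv_zpow]
          exact inv_mem (zpow_mem (Subgroup.mem_zpowers b') i)
      have hbQ := hall _ (Subgroup.zpowers_le.2 hb'O) hinv (Subgroup.mem_zpowers b')
      rw [hQv' b' hbQ hb'v, orderOf_one] at hb'q
      exact hq.one_lt.ne hb'q
  -- hence `O` centralises `v`
  have hOv : O ≤ Subgroup.centralizer ({v} : Set G) := by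
    set W := (Subgroup.centralizer ({v} : Set G)).subgroupOf O with hW
    suffices h : Nat.card O ∣ Nat.card W by
      have h1 : W = ⊤ := Subgroup.eq_top_of_card_eq W
        (le_antisymm (Subgroup.card_le_card_group W) (Nat.le_of_dvd Nat.card_pos h))
      exact Subgroup.subgroupOf_eq_top.1 h1
    rw [Nat.dvd_iff_prime_pow_dvd_dvd]
    intro q j hq hqj
    haveI : Fact q.Prime := ⟨hq⟩
    rcases Nat.eq_zero_or_pos j with rfl | hj
    · simp
    obtain ⟨R, hR, hall⟩ := exists_common hG hq hv hk hkv hc hOo hvO hkO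
    have hRW : (R : Subgroup O) ≤ W := fun g hg => Subgroup.mem_centralizer_singleton_iff.2
      (hsyl q hq ((dvd_pow_self q hj.ne').trans hqj) g g.2 R hR hall (Subgroup.mem_map_of_mem _ hg))
    refine dvd_trans ?_ (Subgroup.card_dvd_of_le hRW)
    rw [R.card_eq_multiplicity]
    exact pow_dvd_pow q ((hq.pow_dvd_iff_le_factorization Nat.card_pos.ne').1 hqj)
  -- conclusion
  intro g hg
  rw [Subgroup.mem_centralizer_singleton_iff]
  set v' := g * v * g⁻¹ with hv'
  have hv'2 : orderOf v' = 2 := conj_orderOf_two hv g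
  have hav' : Commute a v' := by
    have h1 : g⁻¹ * a * g ∈ Y := by
      have := (Subgroup.mem_normalizer_iff.1 (inv_mem hg) a).1 haY
      rwa [inv_inv] at this
    calc a * (g * v * g⁻¹) = g * (g⁻¹ * a * g * v) * g⁻¹ := by group
      _ = g * (v * (g⁻¹ * a * g)) * g⁻¹ := by rw [(hYv _ h1).2.eq]
      _ = g * v * g⁻¹ * a := by group
  suffices h : v' = v by
    rw [hv'] at h
    exact (mul_inv_eq_iff_eq_mul.1 h).symm ▸ rfl
  by_contra hne
  have hkill : ∀ w, orderOf w = 2 → w ≠ v → Commute w v → Commute a w → False := fun w hw hwv hwc haw =>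
    hp.one_lt.ne' (by rw [← hap, hG.eq_one_of_four hv hw hwv hwc hao hav haw, orderOf_one])
  rcases Nat.even_or_odd (orderOf (v * v')) with he | ho
  · have hw := orderOf_centralInvol v v' he
    have hwv := centralInvol_comm_left hv hv'2 he
    have hwv' := centralInvol_comm_right hv hv'2 he
    by_cases hwe : centralInvol v v' = v
    · exact hkill v' hv'2 hne (hwe ▸ hwv').symm hav'
    · refine hkill _ hw hwe hwv ?_
      exact (hav.mul_right hav').pow_right _
  · have hmemO : v * v' ∈ O := hmem _ (hcZ _ ((hav.symm).mul_left hav'.symm)) ho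
    have hcomm := Subgroup.mem_centralizer_singleton_iff.1 (hOv hmemO)
    have h1 : v' * v = v * v' := by
      have : v * v' * v = v' := by rw [hcomm, ← mul_assoc, hvv, one_mul]
      calc v' * v = v * v' * v * v := by rw [this]
        _ = v * v' := by rw [mul_assoc, hvv, mul_one]
    have h2 : v * v' = 1 := eq_one_of_odd_sq ho (by
      rw [Commute.mul_mul_mul_comm h1, hvv, mul_self_of_orderOf_two hv'2, one_mul])
    exact hne (by rw [eq_inv_of_mul_eq_one_right h2, inv_of_orderOf_two hv])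

end CfsgLib.DGroup
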