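import Cfsg.Agent.Lib.DGroup.Count
import Cfsg.Agent.Lib.DGroup.HcOne
import Cfsg.Agent.Lib.Coprime.Action
import Cfsg.Agent.Lib.CyclicNorm.Abelian

/-!
# An outer class of involutions: normalisers of odd subgroups centralised by an involution

For an inner involution this is the statement of the subgroup of index two. For an outer involution
`j` and an odd `a ≠ 1` centralised by it, the centraliser `W` of `a` in the subgroup of index two has
odd order and is inverted by an inner involution commuting with `j`. If `W` is not centralised by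
`j` it contains the odd parts of two outer centralisers; by the order formula it then contains a
Sylow subgroup for a prime dividing an inner centraliser, and this is impossible.
-/

set_option autoImplicit false
set_option linter.unusedSectionVars false
set_option linter.style.haveILetI false

namespace CfsgLib.DGroup

open Cfsg CfsgLib.Invol

variable {G : Type*} [Group G] [Finite G] {G₀ : Subgroup G}

theorem TwoClass.odd_mem (h : TwoClass G G₀) {a : G} (ho : Odd (orderOf a)) : a ∈ G₀ :=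
  haveI : G₀.Normal := Subgroup.normal_of_index_eq_two h.index
  CyclicNorm.odd_mem_of_index_two h.index ho

/-- An odd element centralising an inner involution has its centraliser inside that of the involution. -/
theorem TwoClass.commute_of_inner (h : TwoClass G G₀) {v a g : G} (hv : orderOf v = 2) (hv0 : v ∈ G₀)
    (ha1 : a ≠ 1) (hao : Odd (orderOf a)) (hav : Commute a v) (hg : Commute g a) : Commute g v := by
  haveI hN : G₀.Normal := Subgroup.normal_of_index_eq_two h.index
  have ha0 := h.odd_mem hao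
  have hin : ∀ {k : G}, k ∈ G₀ → Commute k a → Commute k v := by
    intro k hk hka
    have hle := h.one.normalizer_le (v := (⟨v, hv0⟩ : G₀)) (by rwa [← Subgroup.orderOf_coe])
      (Y := Subgroup.zpowers (⟨a, ha0⟩ : G₀))
      (by simpa [Subgroup.zpowers_eq_bot, Subgroup.mk_eq_one] using ha1)
      (by
        rintro _ ⟨i, rfl⟩
        exact ⟨(show Odd (orderOf (⟨a, ha0⟩ : G₀)) by rwa [← Subgroup.orderOf_coe]).of_dvd_nat
            (orderOf_dvd_of_mem_zpowers ⟨i, rfl⟩),
          Commute.zpow_left (Subtype.ext hav.eq) i⟩)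
    have hm : (⟨k, hk⟩ : G₀) ∈ Subgroup.normalizer (Subgroup.zpowers (⟨a, ha0⟩ : G₀) : Set G₀) :=
      Subgroup.centralizer_le_normalizer _ (by
        rintro _ ⟨i, rfl⟩
        exact (Commute.zpow_right (show Commute (⟨k, hk⟩ : G₀) ⟨a, ha0⟩ from Subtype.ext hka.eq) i).eq.symm)
    exact congrArg Subtype.val (Subgroup.mem_centralizer_singleton_iff.1 (hle hm))
  set s := g * v * g⁻¹ with hs
  have hsa : Commute s a := (hg.mul_left hav.symm).mul_left hg.inv_left
  have hsv : Commute s v := hin (hN.conj_mem v hv0 g) hsa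
  by_cases e : s = v
  · exact mul_inv_eq_iff_eq_mul.1 e
  · exact absurd (h.cent.eq_one_of_four hv (conj_orderOf_two hv g) e hsv hao hav hsa.symm) ha1

/-- The inner part of the centraliser of an outer involution has odd order. -/
theorem DihData.odd_inner {j : G} {A : Subgroup G} {x : G} (d : DihData j A x) (hj : j ∉ G₀) :
    Odd (Nat.card ↥(A ⊓ G₀)) := by
  rw [← Nat.not_even_iff_odd]
  intro he
  haveI : Fact (Nat.Prime 2) := ⟨Nat.prime_two⟩
  obtain ⟨u, hu⟩ := exists_prime_orderOf_dvd_card' 2 (even_iff_two_dvd.1 he)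
  have hu' : orderOf (u : G) = 2 := by rw [Subgroup.orderOf_coe, hu]
  rcases d.uniq u u.2.1 (mul_self_of_orderOf_two hu') with e | e
  · exact ne_one_of_orderOf_two hu' e
  · exact hj (e ▸ u.2.2)

/-- An odd element centralising an outer involution: its inner centraliser centralises the involution. -/
theorem TwoClass.commute_of_outer (h : TwoClass G G₀) {j a g : G} (hj : orderOf j = 2) (hj0 : j ∉ G₀)
    (ha1 : a ≠ 1) (hao : Odd (orderOf a)) (haj : Commute a j) (hg0 : g ∈ G₀) (hga : Commute g a) :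
    Commute g j := by
  haveI hN : G₀.Normal := Subgroup.normal_of_index_eq_two h.index
  -- an inner involution commuting with `j`
  obtain ⟨z, hz, hz0, hzj⟩ : ∃ z : G, orderOf z = 2 ∧ z ∈ G₀ ∧ Commute z j := by
    obtain ⟨w, hw, hwj, hwc⟩ := h.cent.exists_partner hj
    by_cases hw0 : w ∈ G₀
    · exact ⟨w, hw, hw0, hwc⟩
    · refine ⟨w * j, orderOf_two_of_mul_self ?_ fun e => hwj ?_,
        (Subgroup.mul_mem_iff_of_index_two h.index).2 (iff_of_false hw0 hj0), hwc.mul_left (Commute.refl j)⟩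
      · rw [hwc.symm.mul_mul_mul_comm, mul_self_of_orderOf_two hw, mul_self_of_orderOf_two hj, one_mul]
      · rw [← inv_of_orderOf_two hj]; exact mul_eq_one_iff_eq_inv.1 e
  have hjz : j ≠ z := fun e => hj0 (e ▸ hz0)
  set j' := j * z with hj'
  have hj'0 : j' ∉ G₀ := fun e => hj0 ((G₀.mul_mem_cancel_right hz0).1 e)
  have hj'o : orderOf j' = 2 := orderOf_two_of_mul_self
    (by rw [hj', hzj.mul_mul_mul_comm, mul_self_of_orderOf_two hj, mul_self_of_orderOf_two hz,
      one_mul])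
    fun e => hj'0 (e ▸ one_mem G₀)
  have hza : z * a * z⁻¹ = a⁻¹ := h.cent.inv_odd hj hz hjz.symm hzj hao haj
  -- no inner involution centralises `a`
  have hnoA : ∀ {s : G}, orderOf s = 2 → s ∈ G₀ → ¬ Commute s a := by
    intro s hs hs0 hsa
    have hjs := h.commute_of_inner hs hs0 ha1 hao hsa.symm haj.symm
    exact ha1 (h.cent.eq_one_of_four hs hj (fun e => hj0 (e ▸ hs0)) hjs hao hsa.symm haj)
  have hinv_ne : ∀ {c : G}, c ≠ 1 → Odd (orderOf c) → z * c * z⁻¹ = c⁻¹ → ¬ Commute c z := by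
    intro c hc1 hco hzc hc
    rw [← hc.eq, mul_inv_cancel_right] at hzc
    exact hc1 (eq_one_of_odd_sq hco (eq_inv_iff_mul_eq_one.mp hzc))
  -- an inverted element commuting with `a`: its inner centraliser is inverted
  have key : ∀ {c : G}, c ≠ 1 → Odd (orderOf c) → Commute c a → z * c * z⁻¹ = c⁻¹ →
      ∀ {b : G}, b ∈ G₀ → Commute b c → z * b * z⁻¹ = b⁻¹ ∧ Odd (orderOf b) := by
    intro c hc1 hco hca hzc b hb hbc
    set C := G₀ ⊓ Subgroup.centralizer ({c} : Set G) with hC
    have hCc : ∀ {x : G}, x ∈ C → Commute x c := fun hx =>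
      Subgroup.mem_centralizer_singleton_iff.1 hx.2
    have hnone : ∀ {s : G}, orderOf s = 2 → s ∈ C → False := fun {s} hs hsC =>
      hnoA hs hsC.1 (h.commute_of_inner hs hsC.1 hc1 hco (hCc hsC).symm hca.symm).symm
    have hodd : Odd (Nat.card C) := by
      rw [← Nat.not_even_iff_odd]
      intro he
      haveI : Fact (Nat.Prime 2) := ⟨Nat.prime_two⟩
      obtain ⟨u, hu⟩ := exists_prime_orderOf_dvd_card' 2 (even_iff_two_dvd.1 he)
      exact hnone (by rw [Subgroup.orderOf_coe, hu]) u.2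
    have hb' : b ∈ C := ⟨hb, Subgroup.mem_centralizer_singleton_iff.2 hbc.eq⟩
    have hoC : ∀ {x : G}, x ∈ C → Odd (orderOf x) := fun {x} hx =>
      hodd.of_dvd_nat (C.orderOf_dvd_natCard hx)
    -- conjugation by `z` acts without fixed points
    have hconj : ∀ {x : G}, x ∈ C → z * x * z⁻¹ ∈ C := by
      intro x hx
      refine ⟨hN.conj_mem x hx.1 z, Subgroup.mem_centralizer_singleton_iff.2 ?_⟩
      have e : Commute (z * x * z⁻¹) (z * c * z⁻¹) := Commute.conj (hCc hx) z
      rw [hzc] at e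
      exact (Commute.inv_right_iff.1 e).eq
    have hfix : ∀ {x : G}, x ∈ C → Commute x z → x = 1 := by
      intro x hx hxz
      by_contra hx1
      exact hinv_ne hc1 hco hzc (h.commute_of_inner hz hz0 hx1 (hoC hx) hxz (hCc hx).symm)
    let θ : C → C := fun x => ⟨z * (x : G) * z⁻¹, hconj x.2⟩
    let f : C → C := fun x => x⁻¹ * θ x
    have hfinj : Function.Injective f := by
      intro x y e
      have e' : (x : G)⁻¹ * (z * x * z⁻¹) = (y : G)⁻¹ * (z * y * z⁻¹) := congrArg Subtype.val e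
      refine Subtype.ext (mul_inv_eq_one.1 (hfix (C.mul_mem y.2 (C.inv_mem x.2) :
        (y : G) * (x : G)⁻¹ ∈ C) ?_)).symm
      refine (mul_inv_eq_iff_eq_mul.1 ?_).symm
      calc z * ((y : G) * (x : G)⁻¹) * z⁻¹ = (z * y * z⁻¹) * (z * x * z⁻¹)⁻¹ := by group
        _ = (y : G) * ((y : G)⁻¹ * (z * y * z⁻¹)) * (z * x * z⁻¹)⁻¹ := by group
        _ = (y : G) * ((x : G)⁻¹ * (z * x * z⁻¹)) * (z * x * z⁻¹)⁻¹ := by rw [e']
        _ = (y : G) * (x : G)⁻¹ := by group
    obtain ⟨x, hx⟩ := (Finite.injective_iff_surjective.1 hfinj) ⟨b, hb'⟩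
    have hx' : (x : G)⁻¹ * (z * x * z⁻¹) = b := congrArg Subtype.val hx
    refine ⟨?_, hoC hb'⟩
    rw [← hx']
    calc z * ((x : G)⁻¹ * (z * x * z⁻¹)) * z⁻¹
        = (z * x * z⁻¹)⁻¹ * ((z * z) * x * (z * z)⁻¹) := by group
      _ = ((x : G)⁻¹ * (z * x * z⁻¹))⁻¹ := by
          rw [mul_self_of_orderOf_two hz, inv_one, mul_one, one_mul]; group
  have hWcomm : ∀ {c : G}, c ≠ 1 → Odd (orderOf c) → Commute c a → z * c * z⁻¹ = c⁻¹ →
      ∀ {b b' : G}, b ∈ G₀ → Commute b c → b' ∈ G₀ → Commute b' c → Commute b b' := by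
    intro c hc1 hco hca hzc b b' hb hbc hb' hbc'
    have e1 := (key hc1 hco hca hzc hb hbc).1
    have e2 := (key hc1 hco hca hzc hb' hbc').1
    have e3 := (key hc1 hco hca hzc (mul_mem hb hb') (hbc.mul_left hbc')).1
    rw [show z * (b * b') * z⁻¹ = z * b * z⁻¹ * (z * b' * z⁻¹) by group, e1, e2, mul_inv_rev] at e3
    exact Commute.inv_inv_iff.1 e3
  have ha0 := h.odd_mem hao
  -- the inner centraliser of every nontrivial member of `W` is `W`
  have hself : ∀ {c : G}, c ≠ 1 → c ∈ G₀ → Commute c a → ∀ {b : G}, b ∈ G₀ → Commute b c →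
      Commute b a := by
    intro c hc1 hc0 hca b hb hbc
    obtain ⟨hzc, hco⟩ := key ha1 hao (Commute.refl a) hza hc0 hca
    exact hWcomm hc1 hco hca hzc hb hbc ha0 hca.symm
  by_contra hgj
  -- an element of `W` centralised by `j * z`
  set g' := j * g * j⁻¹ with hg'
  have hg'0 : g' ∈ G₀ := hN.conj_mem g hg0 j
  have hg'a : Commute g' a := by
    have e : Commute (j * g * j⁻¹) (j * a * j⁻¹) := Commute.conj hga j
    rwa [← haj.eq, mul_inv_cancel_right] at e
  set b := g * g'⁻¹ with hb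
  have hb0 : b ∈ G₀ := mul_mem hg0 (inv_mem hg'0)
  have hb1 : b ≠ 1 := fun e => hgj ((mul_inv_eq_iff_eq_mul.1 (mul_inv_eq_one.1 e).symm).symm)
  have hba : Commute b a := hga.mul_left hg'a.inv_left
  obtain ⟨hzb, hbo⟩ := key ha1 hao (Commute.refl a) hza hb0 hba
  have hgg' : Commute g g' := hWcomm ha1 hao (Commute.refl a) hza hg0 hga hg'0 hg'a
  have hbj' : Commute b j' := by
    refine (mul_inv_eq_iff_eq_mul.1 ?_).symm
    calc j * z * b * (j * z)⁻¹ = j * (z * b * z⁻¹) * j⁻¹ := by group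
      _ = j * b⁻¹ * j⁻¹ := by rw [hzb]
      _ = (j * j) * g * (j * j)⁻¹ * (j * g * j⁻¹)⁻¹ := by rw [hb, hg']; group
      _ = b := by rw [mul_self_of_orderOf_two hj, one_mul, inv_one, mul_one]
  -- the two odd parts
  obtain ⟨A, x, d⟩ := h.cent j hj
  obtain ⟨A', x', d'⟩ := h.cent j' hj'o
  set O := A ⊓ G₀ with hO
  set O' := A' ⊓ G₀ with hO'
  have hOo := d.odd_inner (G₀ := G₀) hj0
  have hO'o := d'.odd_inner (G₀ := G₀) hj'0
  have hOa : ∀ {o : G}, o ∈ O → Commute o a := fun {o} ho =>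
    d.comm o ho.1 a (d.odd_mem hao haj)
  have hO'a : ∀ {o : G}, o ∈ O' → Commute o a := fun {o} ho =>
    hself hb1 hb0 hba ho.2 (d'.comm o ho.1 b (d'.odd_mem hbo hbj'))
  have hmeet : O ⊓ O' = ⊥ := by
    rw [eq_bot_iff]
    intro o ho
    refine h.cent.eq_one_of_four hj hj'o (fun e => ne_one_of_orderOf_two hz (mul_eq_left.1 e))
      (show Commute j' j from (Commute.refl j).mul_left hzj)
      (hOo.of_dvd_nat (O.orderOf_dvd_natCard ho.1)) (d.commute ho.1.1) (d'.commute ho.2.1)
  have hcom : ∀ o ∈ O, ∀ o' ∈ O', Commute o o' := fun o ho o' ho' =>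
    hWcomm ha1 hao (Commute.refl a) hza ho.2 (hOa ho) ho'.2 (hO'a ho')
  have hnorm : O' ≤ Subgroup.normalizer (O : Set G) :=
    le_trans (fun o' ho' => Subgroup.mem_centralizer_iff.2 fun o ho => (hcom o ho o' ho').eq)
      (Subgroup.centralizer_le_normalizer _)
  have hsup := CfsgLib.Coprime.card_sup_mul_card_inf hnorm
  rw [hmeet, Subgroup.card_bot, mul_one] at hsup
  -- orders
  have hjA : ∀ {u : G} {B : Subgroup G} {y : G}, DihData u B y → ∀ {w : G}, orderOf w = 2 →
      w ≠ u → w ∉ B := fun e _ hw hne => e.not_mem_of_invol hw hne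
  have hcj : Nat.card (Subgroup.centralizer ({j} : Set G)) = 4 * Nat.card O :=
    d.card_eq_four_mul h.index hz0 hzj (hjA d hz hjz.symm) hj'0
      ((Commute.refl j).mul_left hzj) (hjA d hj'o fun e => ne_one_of_orderOf_two hz (mul_eq_left.1 e))
  have hj'z : Commute z j' := hzj.mul_right (Commute.refl z)
  have hcj' : Nat.card (Subgroup.centralizer ({j'} : Set G)) = 4 * Nat.card O' :=
    d'.card_eq_four_mul h.index hz0 hj'z (hjA d' hz fun e => hj'0 (e ▸ hz0)) hj0
      ((Commute.refl j).mul_right hzj.symm)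
      (hjA d' hj fun e => ne_one_of_orderOf_two hz (mul_eq_left.1 e.symm))
  have hsame : Nat.card (Subgroup.centralizer ({j} : Set G)) =
      Nat.card (Subgroup.centralizer ({j'} : Set G)) := by
    have k1 := Cfsg.Agent.S0213.card_class_mul j
    have k2 := Cfsg.Agent.S0213.card_class_mul j'
    have e := h.outer_conj j j' hj hj'o hj0 hj'0
    have k3 : Nat.card {y : G // IsConj j y} = Nat.card {y : G // IsConj j' y} :=
      Nat.card_congr (Equiv.subtypeEquivRight fun y => ⟨e.symm.trans, e.trans⟩)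
    haveI : Nonempty {y : G // IsConj j' y} := ⟨⟨j', IsConj.refl _⟩⟩
    rw [k3, ← k2] at k1
    exact Nat.eq_of_mul_eq_mul_left Nat.card_pos k1
  obtain ⟨Az, xz, dz⟩ := h.cent z hz
  obtain ⟨w, hw, hwne, hwc⟩ := h.one.cent.exists_partner (v := (⟨z, hz0⟩ : G₀))
    (by rwa [← Subgroup.orderOf_coe])
  have hcz : Nat.card (Subgroup.centralizer ({z} : Set G)) = 4 * Nat.card ↥(Az ⊓ G₀) :=
    dz.card_eq_four_mul h.index w.2 (congrArg Subtype.val hwc)
      (hjA dz (by rwa [Subgroup.orderOf_coe]) fun e => hwne (Subtype.ext e)) hj0 hzj.symm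
      (hjA dz hj hjz)
  have hcard := h.card_eq hz hj hz0 hj0 hzj.symm
  rw [hcj, hcz] at hcard
  set e := Nat.card O with he
  set m := Nat.card ↥(Az ⊓ G₀) with hm
  have hee : Nat.card ↥(O ⊔ O') = e * e := by
    rw [hsup, show Nat.card O' = e by omega]
  have hG0 : Nat.card G₀ = 2 * (m * e * (m + e)) := by
    have := G₀.card_mul_index
    rw [h.index] at this
    nlinarith [this, hcard]
  have hdvd : e * e ∣ e * (2 * (m * (m + e))) := by
    rw [← hee, show e * (2 * (m * (m + e))) = Nat.card G₀ by rw [hG0]; ring]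
    exact Subgroup.card_dvd_of_le (sup_le inf_le_right inf_le_right)
  have he0 : 0 < e := Nat.card_pos
  have hdvd' := (Nat.mul_dvd_mul_iff_left he0).1 hdvd
  have he1 : e ≠ 1 := fun e1 => ha1 (by
    have hbot : O = ⊥ := Subgroup.eq_bot_of_card_eq _ e1
    have : a ∈ O := ⟨d.odd_mem hao haj, ha0⟩
    rwa [hbot, Subgroup.mem_bot] at this)
  obtain ⟨q, hq, hqe⟩ := Nat.exists_prime_and_dvd he1
  haveI := Fact.mk hq
  have hq2 : q ≠ 2 := fun e2 => hOo.not_two_dvd_nat (e2 ▸ hqe)
  have hqm : q ∣ m := by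
    rcases hq.dvd_mul.1 (hqe.trans hdvd') with h2 | h2
    · exact absurd ((Nat.prime_dvd_prime_iff_eq hq Nat.prime_two).1 h2) hq2
    rcases hq.dvd_mul.1 h2 with h3 | h3
    · exact h3
    · exact (Nat.dvd_add_left hqe).1 h3
  -- a Sylow subgroup inside `W`
  obtain ⟨c, hc⟩ := exists_prime_orderOf_dvd_card' q hqe
  obtain ⟨b', hb'⟩ := exists_prime_orderOf_dvd_card' q hqm
  have hco : orderOf (c : G) = q := by rw [Subgroup.orderOf_coe, hc]
  have hbo' : orderOf (b' : G) = q := by rw [Subgroup.orderOf_coe, hb']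
  have hc1 : (c : G) ≠ 1 := fun e1 => hq.ne_one (by rw [← hco, e1, orderOf_one])
  set c₀ : G₀ := ⟨c, c.2.2⟩
  set b₀ : G₀ := ⟨b', b'.2.2⟩
  have hc₀ : orderOf c₀ = q := by rw [← Subgroup.orderOf_coe]; exact hco
  have hb₀ : orderOf b₀ = q := by rw [← Subgroup.orderOf_coe]; exact hbo'
  obtain ⟨T, hT⟩ := (IsPGroup.of_card (p := q) (G := Subgroup.zpowers c₀) (n := 1)
    (by rw [Nat.card_zpowers, hc₀, pow_one])).exists_le_sylow
  obtain ⟨T', hT'⟩ := (IsPGroup.of_card (p := q) (G := Subgroup.zpowers b₀) (n := 1)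
    (by rw [Nat.card_zpowers, hb₀, pow_one])).exists_le_sylow
  haveI : Nontrivial (T : Subgroup G₀) := ⟨⟨⟨c₀, hT (Subgroup.mem_zpowers _)⟩, 1,
    fun e1 => hc1 (congrArg (fun u : (T : Subgroup G₀) => ((u : G₀) : G)) e1)⟩⟩
  haveI := T.2.center_nontrivial
  obtain ⟨⟨u, hu⟩, hu1⟩ := exists_ne (1 : Subgroup.center (T : Subgroup G₀))
  have hu1' : ((u : G₀) : G) ≠ 1 := fun e1 => hu1 (Subtype.ext (Subtype.ext (Subtype.ext e1)))
  have huT : ∀ t ∈ (T : Subgroup G₀), Commute ((u : G₀) : G) (t : G) := fun t ht =>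
    (congrArg (fun s : (T : Subgroup G₀) => ((s : G₀) : G))
      (Subgroup.mem_center_iff.1 hu ⟨t, ht⟩)).symm
  have hua : Commute ((u : G₀) : G) a :=
    hself hc1 c.2.2 (hOa c.2) (u : G₀).2 (huT c₀ (hT (Subgroup.mem_zpowers _)))
  obtain ⟨r, hr⟩ := MulAction.exists_smul_eq G₀ T' T
  have hrb : r * b₀ * r⁻¹ ∈ (T : Subgroup G₀) := by
    rw [← hr, Sylow.coe_subgroup_smul]
    exact ⟨b₀, hT' (Subgroup.mem_zpowers _), rfl⟩
  have hba' : Commute ((r : G) * b' * (r : G)⁻¹) a :=
    hself hu1' (u : G₀).2 hua (r * b₀ * r⁻¹).2 (huT _ hrb).symm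
  -- but `b'` is centralised by an inner involution
  set p := (r : G) * b' * (r : G)⁻¹ with hp
  have hp0 : p ∈ G₀ := (r * b₀ * r⁻¹).2
  have hpo : orderOf p = q := by rw [hp, ← MulAut.conj_apply, MulEquiv.orderOf_eq, hbo']
  have hpodd : Odd (orderOf p) := hpo ▸ hq.odd_of_ne_two hq2
  have hp1 : p ≠ 1 := fun e1 => hq.ne_one (by rw [← hpo, e1, orderOf_one])
  have hzp : z * p * z⁻¹ = p⁻¹ := (key ha1 hao (Commute.refl a) hza hp0 hba').1
  have hv : Commute p ((r : G) * z * (r : G)⁻¹) := Commute.conj (dz.commute b'.2.1) (r : G)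
  have hv0 : (r : G) * z * (r : G)⁻¹ ∈ G₀ := hN.conj_mem z hz0 r
  exact hnoA (conj_orderOf_two hz _) hv0
    (h.commute_of_inner (conj_orderOf_two hz _) hv0 hp1 hpodd hv hba'.symm).symm

/-- Normalisers of nontrivial odd subgroups centralised by an involution centralise the involution. -/
theorem TwoClass.normalizer_le (h : TwoClass G G₀) {v : G} (hv : orderOf v = 2) {Y : Subgroup G}
    (hY : Y ≠ ⊥) (hYv : ∀ y ∈ Y, Odd (orderOf y) ∧ Commute y v) :
    Subgroup.normalizer (Y : Set G) ≤ Subgroup.centralizer ({v} : Set G) := by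
  intro g hg
  obtain ⟨a, ha, ha1⟩ := (Subgroup.ne_bot_iff_exists_ne_one.1 hY).elim fun y hy =>
    (⟨y, y.2, fun e => hy (Subtype.ext e)⟩ : ∃ a ∈ Y, a ≠ 1)
  obtain ⟨hao, hav⟩ := hYv a ha
  set s := g * v * g⁻¹ with hs
  have hso : orderOf s = 2 := conj_orderOf_two hv g
  have hsa : Commute s a := by
    have hm : g⁻¹ * a * g ∈ Y := by
      have := (Subgroup.mem_normalizer_iff.1 (inv_mem hg) a).1 ha
      rwa [inv_inv] at this
    have e : Commute (g * (g⁻¹ * a * g) * g⁻¹) (g * v * g⁻¹) := Commute.conj (hYv _ hm).2 g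
    rw [show g * (g⁻¹ * a * g) * g⁻¹ = a by group] at e
    exact e.symm
  have hN : G₀.Normal := Subgroup.normal_of_index_eq_two h.index
  have hsv : Commute s v := by
    by_cases hv0 : v ∈ G₀
    · exact h.commute_of_inner hv hv0 ha1 hao hav hsa
    · have hs0 : s ∉ G₀ := fun e => hv0 (by simpa [hs, mul_assoc] using hN.conj_mem _ e g⁻¹)
      have e : Commute (s * v) v := h.commute_of_outer hv hv0 ha1 hao hav
        ((Subgroup.mul_mem_iff_of_index_two h.index).2 (iff_of_false hs0 hv0)) (hsa.mul_left hav.symm)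
      have e' := e.mul_left (Commute.refl v)
      rwa [mul_assoc, mul_self_of_orderOf_two hv, mul_one] at e'
  have hsv' : s = v := by
    by_contra hne
    exact ha1 (h.cent.eq_one_of_four hv hso hne hsv hao hav hsa.symm)
  exact Subgroup.mem_centralizer_singleton_iff.2 (mul_inv_eq_iff_eq_mul.1 hsv')

end CfsgLib.DGroup
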