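import Cfsg.Agent.Lib.DGroup.Basic
import Cfsg.Agent.Lib.ThreeOrders.Odd
import Cfsg.Agent.Lib.Perm.PermModule
import Cfsg.Agent.Lib.Elem.PrimaryParts
import Cfsg.Agent.S3730

/-!
# Identification of a core-free group with generalised dihedral involution centralisers

When the normalisers of odd subgroups centralised by an involution centralise it, the hypotheses of
the characterisation of `PSL(2, q)` and `PGL(2, q)` by normalisers of cyclic subgroups hold.
-/

set_option autoImplicit false
set_option linter.unusedSectionVars false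
set_option linter.style.haveILetI false

namespace CfsgLib.DGroup

open Cfsg CfsgLib.Invol

variable {G : Type*} [Group G] [Finite G]

theorem DihData.centralizer_solvable {v : G} {A : Subgroup G} {x : G} (d : DihData v A x) :
    Group.IsSolvable ↥(Subgroup.centralizer ({v} : Set G)) := by
  set C := Subgroup.centralizer ({v} : Set G) with hC
  haveI hn : (A.subgroupOf C).Normal := by
    refine ⟨fun a ha h => ?_⟩
    rw [Subgroup.mem_subgroupOf] at ha ⊢
    simp only [Subgroup.coe_mul, Subgroup.coe_inv]
    by_cases hA : (h : G) ∈ A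
    · exact A.mul_mem (A.mul_mem hA ha) (A.inv_mem hA)
    · rw [d.inv_outside (Subgroup.mem_centralizer_singleton_iff.1 h.2) hA ha]
      exact A.inv_mem ha
  refine RealClassGraph.solvable_of_normal (A.subgroupOf C)
    (Group.isSolvable_of_comm fun a b => Subtype.ext (Subtype.ext (d.comm _ a.2 _ b.2))) ?_
  refine Group.isSolvable_of_comm fun p q => ?_
  obtain ⟨a, rfl⟩ := QuotientGroup.mk_surjective p
  obtain ⟨b, rfl⟩ := QuotientGroup.mk_surjective q
  have key : ∀ h : C, (h : C ⧸ A.subgroupOf C) = 1 ∨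
      (h : C ⧸ A.subgroupOf C) = (((⟨x, d.xmem⟩ : C)⁻¹ : C) : C ⧸ A.subgroupOf C) := by
    intro h
    rcases d.cases h h.2 with e | e
    · exact Or.inl ((QuotientGroup.eq_one_iff h).2 (Subgroup.mem_subgroupOf.2 e))
    · refine Or.inr ((QuotientGroup.eq.2 (Subgroup.mem_subgroupOf.2 ?_)).symm)
      simpa using e
  rcases key a with ea | ea <;> rcases key b with eb | eb <;> rw [ea, eb] <;> simp

/-- A solvable normal subgroup is trivial. -/
theorem eq_bot_of_solvable_normal (hns : ¬ Group.IsSolvable G) (hcore : oddCore G = ⊥)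
    (hcent : DihCent G) (N : Subgroup G) (hN : N.Normal) (hs : Group.IsSolvable ↥N) : N = ⊥ := by
  classical
  by_contra hN1
  haveI := Fintype.ofFinite G
  haveI := hN
  obtain ⟨r, E, hr, hEn, hE1, -, hEr, hEc⟩ := ThreeOrders.exists_abelian_normal hs hN1
  haveI := Fact.mk hr
  haveI : Nontrivial E := (Subgroup.nontrivial_iff_ne_bot E).2 hE1
  obtain ⟨k, hk⟩ := hEr.exists_card_eq
  have hk0 : k ≠ 0 := fun e => by
    rw [e, pow_zero] at hk
    exact absurd hk Finite.one_lt_card.ne'
  have h2 : r = 2 := by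
    by_contra hr2
    exact hE1 (eq_bot_of_odd_normal hcore E (hk ▸ (hr.odd_of_ne_two hr2).pow))
  subst h2
  obtain ⟨v, hv⟩ := exists_prime_orderOf_dvd_card' (G := E) 2 (hk ▸ dvd_pow_self 2 hk0)
  have hv' : orderOf (v : G) = 2 := by rw [Subgroup.orderOf_coe, hv]
  obtain ⟨A, x, d⟩ := hcent v hv'
  -- the involutions of `E`
  let α := {u : G // orderOf u = 2 ∧ u ∈ E}
  have hcomm : ∀ u : α, Commute (u : G) (v : G) := fun u =>
    congrArg Subtype.val (hEc.is_comm.comm (⟨u, u.2.2⟩ : E) v)
  have hcard : Fintype.card α ≤ 3 := by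
    rw [Fintype.card_subtype]
    by_cases hex : ∃ w : G, (orderOf w = 2 ∧ w ∈ E) ∧ w ∉ A
    · obtain ⟨w, ⟨hw, hwE⟩, hwA⟩ := hex
      refine (Finset.card_le_card (t := {(v : G), w, w * v}) fun u hu => ?_).trans Finset.card_le_three
      obtain ⟨hu2, huE⟩ := (Finset.mem_filter.1 hu).2
      simp only [Finset.mem_insert, Finset.mem_singleton]
      by_cases huA : u ∈ A
      · rcases d.uniq u huA (mul_self_of_orderOf_two hu2) with e | e
        · exact absurd e (ne_one_of_orderOf_two hu2)
        · exact Or.inl e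
      · have hwu : w * u ∈ A := by
          have e1 := (d.cases w (Subgroup.mem_centralizer_singleton_iff.2 (hcomm ⟨w, hw, hwE⟩))).resolve_left hwA
          have e2 := (d.cases u (Subgroup.mem_centralizer_singleton_iff.2 (hcomm ⟨u, hu2, huE⟩))).resolve_left huA
          have := A.mul_mem (A.inv_mem e1) e2
          rwa [show (x * w)⁻¹ * (x * u) = w⁻¹ * u by group, inv_of_orderOf_two hw] at this
        have hsq : w * u * (w * u) = 1 := by
          have hc : Commute w u := congrArg Subtype.val (hEc.is_comm.comm (⟨w, hwE⟩ : E) ⟨u, huE⟩)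
          rw [hc.symm.mul_mul_mul_comm, mul_self_of_orderOf_two hw, mul_self_of_orderOf_two hu2, one_mul]
        have hu' : u = w * (w * u) := by rw [← mul_assoc, mul_self_of_orderOf_two hw, one_mul]
        rcases d.uniq _ hwu hsq with e | e
        · exact Or.inr (Or.inl (by rw [hu', e, mul_one]))
        · exact Or.inr (Or.inr (by rw [hu', e]))
    · push Not at hex
      refine (Finset.card_le_card (t := {(v : G)}) fun u hu => ?_).trans (by simp)
      obtain ⟨hu2, huE⟩ := (Finset.mem_filter.1 hu).2
      rcases d.uniq u (hex u ⟨hu2, huE⟩) (mul_self_of_orderOf_two hu2) with e | e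
      · exact absurd e (ne_one_of_orderOf_two hu2)
      · exact Finset.mem_singleton.2 e
  -- conjugation on them
  let act : G → α → α := fun g u =>
    ⟨g * u * g⁻¹, conj_orderOf_two u.2.1 g, hEn.conj_mem _ u.2.2 g⟩
  have act_mul : ∀ g h : G, ∀ u : α, act (g * h) u = act g (act h u) := fun g h u =>
    Subtype.ext (by simp [act, mul_assoc, mul_inv_rev])
  have act_one : ∀ u : α, act 1 u = u := fun u => Subtype.ext (by simp [act])
  let φ : G →* Equiv.Perm α :=
    { toFun := fun g => ⟨act g, act g⁻¹, fun u => by rw [← act_mul, inv_mul_cancel, act_one],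
        fun u => by rw [← act_mul, mul_inv_cancel, act_one]⟩
      map_one' := Equiv.ext act_one
      map_mul' := fun g h => Equiv.ext (act_mul g h) }
  refine hns ?_
  have hle : φ.ker ≤ Subgroup.centralizer ({(v : G)} : Set G) := by
    intro g hg
    refine Subgroup.mem_centralizer_singleton_iff.2 (mul_inv_eq_iff_eq_mul.1 ?_)
    exact congrArg Subtype.val (Equiv.congr_fun (MonoidHom.mem_ker.1 hg) (⟨v, hv', v.2⟩ : α))
  haveI := d.centralizer_solvable
  haveI : Group.IsSolvable φ.ker := Group.isSolvable_of_isSolvable_injective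
    (f := Subgroup.inclusion hle) (Subgroup.inclusion_injective hle)
  haveI := PermModule.isSolvable_perm_of_card_le_three hcard
  exact Group.isSolvable_of_ker_le_range φ.ker.subtype φ (by rw [Subgroup.range_subtype])

/-- A core-free group with these centralisers and normalisers is `PSL(2, q)` or `PGL(2, q)`. -/
theorem identify {G : Type*} [Group G] [Finite G] (hns : ¬ Group.IsSolvable G)
    (hcore : Cfsg.oddCore G = ⊥) (hcent : DihCent G)
    (hN : ∀ v : G, orderOf v = 2 → ∀ Y : Subgroup G, Y ≠ ⊥ →
      (∀ y ∈ Y, Odd (orderOf y) ∧ Commute y v) →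
        Subgroup.normalizer (Y : Set G) ≤ Subgroup.centralizer ({v} : Set G)) :
    ∃ (F : Type) (_ : Field F) (_ : Fintype F), 3 < Fintype.card F ∧
      (Nonempty (G ≃* Matrix.ProjectiveSpecialLinearGroup (Fin 2) F) ∨
        Nonempty (G ≃* Matrix.ProjGenLinGroup (Fin 2) F)) := by
  haveI : Nontrivial G := by
    by_contra h
    haveI := not_nontrivial_iff_subsingleton.1 h
    exact hns (Group.isSolvable_of_comm fun a b => Subsingleton.elim _ _)
  refine Cfsg.Agent.S3730.result (eq_bot_of_solvable_normal hns hcore hcent) ?_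
  intro X hX hXe Y hYX hY
  haveI : Fact (Nat.Prime 2) := ⟨Nat.prime_two⟩
  obtain ⟨v, hv⟩ := exists_prime_orderOf_dvd_card' (G := X) 2 (even_iff_two_dvd.1 hXe)
  have hv' : orderOf (v : G) = 2 := by rw [Subgroup.orderOf_coe, hv]
  obtain ⟨A, x, d⟩ := hcent v hv'
  have hXA : X ≤ A := by
    obtain ⟨g, hg⟩ := hX.exists_generator
    have hgv : Commute (g : G) (v : G) := by
      obtain ⟨i, hi⟩ := hg v
      rw [← hi, Subgroup.coe_zpow]
      exact Commute.self_zpow _ i
    have hgA : (g : G) ∈ A := by
      by_contra hgA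
      have hg2 := d.sq_outside hgv hgA
      obtain ⟨i, hi⟩ := hg v
      rcases Int.even_or_odd i with he | ho
      · obtain ⟨j, rfl⟩ := he
        refine ne_one_of_orderOf_two hv' ?_
        rw [← hi, Subgroup.coe_zpow, ← two_mul, zpow_mul, zpow_two, hg2, one_zpow]
      · obtain ⟨j, rfl⟩ := ho
        refine hgA ?_
        have : (v : G) = g := by
          rw [← hi, Subgroup.coe_zpow, zpow_add, zpow_mul, zpow_two, hg2, one_zpow, one_mul, zpow_one]
        exact this ▸ d.mem
    intro y hy
    obtain ⟨i, hi⟩ := hg ⟨y, hy⟩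
    rw [show y = (g : G) ^ i from (congrArg Subtype.val hi).symm]
    exact A.zpow_mem hgA i
  have key : ∀ Z : Subgroup G, Z ≤ A → Z ≠ ⊥ →
      Subgroup.normalizer (Z : Set G) = Subgroup.centralizer ({(v : G)} : Set G) := by
    intro Z hZA hZ
    refine le_antisymm ?_ fun c hc => ?_
    · by_cases ho : Odd (Nat.card Z)
      · exact hN v hv' Z hZ fun y hy =>
          ⟨ho.of_dvd_nat (Z.orderOf_dvd_natCard hy), d.commute (hZA hy)⟩
      · rw [Nat.not_odd_iff_even] at ho
        obtain ⟨w, hw⟩ := exists_prime_orderOf_dvd_card' (G := Z) 2 (even_iff_two_dvd.1 ho)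
        have hw' : orderOf (w : G) = 2 := by rw [Subgroup.orderOf_coe, hw]
        have hwv : (w : G) = v := (d.uniq w (hZA w.2) (mul_self_of_orderOf_two hw')).resolve_left
          (ne_one_of_orderOf_two hw')
        intro g hg
        have hgw : g * (v : G) * g⁻¹ ∈ Z :=
          (Subgroup.mem_normalizer_iff.1 hg v).1 (hwv ▸ w.2)
        have e := (d.uniq _ (hZA hgw) (mul_self_of_orderOf_two (conj_orderOf_two hv' g))).resolve_left
          (ne_one_of_orderOf_two (conj_orderOf_two hv' g))
        exact Subgroup.mem_centralizer_singleton_iff.2 (mul_inv_eq_iff_eq_mul.1 e)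
    · refine PrimaryParts.mem_normalizer_of_conj_mem fun z hz => ?_
      by_cases hcA : c ∈ A
      · rwa [d.comm c hcA z (hZA hz), mul_inv_cancel_right]
      · rw [d.inv_outside (Subgroup.mem_centralizer_singleton_iff.1 hc) hcA (hZA hz)]
        exact Z.inv_mem hz
  have hX1 : X ≠ ⊥ := fun e => hY (le_bot_iff.1 (e ▸ hYX))
  rw [key X hXA hX1, key Y (hYX.trans hXA) hY]

end CfsgLib.DGroup
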