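import Cfsg.Agent.Lib.DGroup.Defs
import Cfsg.Agent.Lib.Qd.Local
import Cfsg.Agent.Lib.Qd.Stable
import Cfsg.Agent.Lib.CycZFactor.Basic
import Cfsg.Agent.Lib.PSolvable.Core

/-!
# Dihedral Sylow 2-subgroups: sections, solvable subgroups, lifting of 2-subgroups
-/

set_option autoImplicit false
set_option linter.style.haveILetI false

namespace CfsgLib.DGroup

open Cfsg CfsgLib CfsgLib.Invol
open scoped MatrixGroups

variable {G : Type*} [Group G]

/-- The Sylow 2-subgroups are dihedral. -/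
def DihSylow (G : Type*) [Group G] : Prop :=
  ∀ S : Sylow 2 G, ∃ m : ℕ, 2 ≤ m ∧ Nonempty ((S : Subgroup G) ≃* DihedralGroup m)

theorem rotation_commute {m : ℕ} {a b : DihedralGroup m} (ha : a * a ≠ 1) (hb : b * b ≠ 1) :
    Commute a b := by
  cases a with
  | sr i => exact absurd (DihedralGroup.sr_mul_self i) ha
  | r i =>
    cases b with
    | sr j => exact absurd (DihedralGroup.sr_mul_self j) hb
    | r j => show DihedralGroup.r i * DihedralGroup.r j = DihedralGroup.r j * DihedralGroup.r i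
             rw [DihedralGroup.r_mul_r, DihedralGroup.r_mul_r, add_comm]

/-- With dihedral Sylow 2-subgroups `SL(2, p)` is not involved. -/
theorem not_involves_sl2 [Finite G] {p : ℕ} [hp : Fact p.Prime] (hp2 : p ≠ 2) (hS : DihSylow G) :
    ¬ Cfsg.Involves SL(2, ZMod p) G := by
  intro h
  obtain ⟨K, ψ, hψ⟩ := Offender.exists_hom_of_involves h
  haveI : Fact (Nat.Prime 2) := ⟨Nat.prime_two⟩
  have h2 : (2 : ZMod p) ≠ 0 := fun h0 => by
    have h' : ((2 : ℕ) : ZMod p) = 0 := by exact_mod_cast h0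
    rw [ZMod.natCast_eq_zero_iff] at h'
    exact hp2 ((Nat.prime_dvd_prime_iff_eq hp.out Nat.prime_two).1 h')
  obtain ⟨x, y, hxy⟩ := ZMod.sq_add_sq p (-1 : ZMod p)
  set i : SL(2, ZMod p) := Qd.weyl with hi
  let j : SL(2, ZMod p) := ⟨!![x, y; y, -x], by
    rw [Matrix.det_fin_two_of]; linear_combination -hxy⟩
  have hie : (i : Matrix (Fin 2) (Fin 2) (ZMod p)) = !![0, -1; 1, 0] := rfl
  have hje : (j : Matrix (Fin 2) (Fin 2) (ZMod p)) = !![x, y; y, -x] := rfl
  have hii : i * i = -1 := by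
    refine Matrix.SpecialLinearGroup.ext _ _ fun a b => ?_
    rw [Matrix.SpecialLinearGroup.coe_mul, Matrix.SpecialLinearGroup.coe_neg,
      Matrix.SpecialLinearGroup.coe_one, hie]
    fin_cases a <;> fin_cases b <;> simp [Matrix.mul_apply, Fin.sum_univ_two]
  have hjj : j * j = -1 := by
    refine Matrix.SpecialLinearGroup.ext _ _ fun a b => ?_
    rw [Matrix.SpecialLinearGroup.coe_mul, Matrix.SpecialLinearGroup.coe_neg,
      Matrix.SpecialLinearGroup.coe_one, hje]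
    fin_cases a <;> fin_cases b <;> simp [Matrix.mul_apply, Fin.sum_univ_two] <;>
      first | linear_combination hxy | ring
  have hij : j * i = -(i * j) := by
    refine Matrix.SpecialLinearGroup.ext _ _ fun a b => ?_
    rw [Matrix.SpecialLinearGroup.coe_mul, Matrix.SpecialLinearGroup.coe_neg,
      Matrix.SpecialLinearGroup.coe_mul, hie, hje]
    fin_cases a <;> fin_cases b <;> simp [Matrix.mul_apply, Fin.sum_univ_two]
  have hne : (-1 : SL(2, ZMod p)) ≠ 1 := SL2.neg_one_ne_one h2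
  have hpow : ∀ g : SL(2, ZMod p), g * g = -1 → g ^ 2 ^ 2 = 1 := fun g hg => by
    rw [show 2 ^ 2 = 2 * 2 from rfl, pow_mul, pow_two g, hg, neg_one_sq]
  have hinv : i⁻¹ = -i := inv_eq_of_mul_eq_one_right (by rw [mul_neg, hii, neg_neg])
  have hconj : j * i * j⁻¹ = i⁻¹ := by
    rw [mul_inv_eq_iff_eq_mul, hij, hinv, neg_mul]
  set Q := Subgroup.zpowers i ⊔ Subgroup.zpowers j with hQdef
  have hQ : IsPGroup 2 Q := by
    rw [hQdef, sup_comm]
    refine (CycZ.pGroup_zpowers (hpow j hjj)).to_sup_of_normal_right'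
      (CycZ.pGroup_zpowers (hpow i hii)) (Subgroup.zpowers_le.2 ?_)
    rw [Coprime.mem_normalizer_iff_conj_smul, Subgroup.pointwise_smul_def]
    refine (MonoidHom.map_zpowers _ i).trans ?_
    show Subgroup.zpowers (j * i * j⁻¹) = _
    rw [hconj, Subgroup.zpowers_inv]
  set H := Q.comap ψ
  let ψH : H →* Q := ψ.subgroupComap Q
  have hψH : Function.Surjective ψH := ψ.subgroupComap_surjective_of_surjective _ hψ
  obtain ⟨T⟩ : Nonempty (Sylow 2 H) := inferInstance
  have htop : (T : Subgroup H).map ψH = ⊤ := by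
    have h1 := (T.mapSurjective hψH).3 (hQ.to_subgroup ⊤) le_top
    rw [Sylow.coe_mapSurjective] at h1
    exact h1.symm
  obtain ⟨t, ht, hti⟩ := htop.ge
    (Subgroup.mem_top (⟨i, Subgroup.mem_sup_left (Subgroup.mem_zpowers i)⟩ : Q))
  obtain ⟨u, hu, huj⟩ := htop.ge
    (Subgroup.mem_top (⟨j, Subgroup.mem_sup_right (Subgroup.mem_zpowers j)⟩ : Q))
  have hti' : ψ (t : K) = i := congrArg Subtype.val hti
  have huj' : ψ (u : K) = j := congrArg Subtype.val huj
  set T' := ((T : Subgroup H).map H.subtype).map K.subtype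
  obtain ⟨S, hTS⟩ := (show IsPGroup 2 T' from (T.2.map _).map _).exists_le_sylow
  obtain ⟨m, -, ⟨e⟩⟩ := hS S
  have hmem : ∀ {w : H}, w ∈ (T : Subgroup H) → ((w : K) : G) ∈ (S : Subgroup G) :=
    fun {w} hw => hTS ⟨(w : K), ⟨w, hw, rfl⟩, rfl⟩
  have hsq : ∀ {w : H} (hw : w ∈ (T : Subgroup H)), ψ (w : K) * ψ (w : K) = -1 →
      e ⟨_, hmem hw⟩ * e ⟨_, hmem hw⟩ ≠ 1 := by
    intro w hw hv h1
    rw [← map_mul, map_eq_one_iff _ e.injective] at h1
    have h2 : (w : K) * (w : K) = 1 := Subtype.ext (congrArg Subtype.val h1 :)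
    rw [← map_mul, h2, map_one] at hv
    exact hne hv.symm
  have hc := rotation_commute (hsq ht (by rw [hti', hii])) (hsq hu (by rw [huj', hjj]))
  have hc'' : (⟨_, hmem ht⟩ : (S : Subgroup G)) * ⟨_, hmem hu⟩ = ⟨_, hmem hu⟩ * ⟨_, hmem ht⟩ :=
    e.injective (by rw [map_mul, map_mul]; exact hc.eq)
  have hc' : (t : K) * (u : K) = (u : K) * (t : K) :=
    Subtype.ext (congrArg Subtype.val hc'' :)
  have hij' := congrArg ψ hc'
  rw [map_mul, map_mul, hti', huj', hij] at hij'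
  refine hne (mul_right_cancel (b := i * j) ?_)
  rw [neg_mul, one_mul, ← hij']

theorem not_involves_qd [Finite G] {p : ℕ} [Fact p.Prime] (hp2 : p ≠ 2) (hS : DihSylow G) :
    ¬ Cfsg.Involves ↥(Cfsg.qd p) G := fun h =>
  not_involves_sl2 hp2 hS (Qd.involves_sl2_of_involves_qd h)

/-- A 2-subgroup without a four group is cyclic. -/
theorem isCyclic_two [Finite G] (hS : DihSylow G) {Q : Subgroup G} (hQ : IsPGroup 2 Q)
    (h1 : ∀ s ∈ Q, ∀ t ∈ Q, orderOf s = 2 → orderOf t = 2 → Commute s t → s = t) : IsCyclic Q := by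
  haveI : Fact (Nat.Prime 2) := ⟨Nat.prime_two⟩
  obtain ⟨S, hQS⟩ := hQ.exists_le_sylow
  obtain ⟨m, -, ⟨e⟩⟩ := hS S
  let ι : Q →* DihedralGroup m := e.toMonoidHom.comp (Subgroup.inclusion hQS)
  have hι : Function.Injective ι := e.injective.comp (Subgroup.inclusion_injective hQS)
  have hcyc : ∀ d : DihedralGroup m, ι.range ≤ Subgroup.zpowers d → IsCyclic Q := fun d hd => by
    haveI : IsCyclic ι.range := Subgroup.isCyclic_of_le hd
    exact isCyclic_of_injective ι.rangeRestrict (MonoidHom.rangeRestrict_injective_iff.2 hι)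
  by_cases hr : ∀ q : Q, ∃ i, ι q = DihedralGroup.r i
  · refine hcyc (DihedralGroup.r 1) ?_
    rintro _ ⟨q, rfl⟩
    obtain ⟨i, hi⟩ := hr q
    refine Subgroup.mem_zpowers_iff.2 ⟨(i.cast : ℤ), ?_⟩
    rw [DihedralGroup.r_one_zpow, ZMod.intCast_zmod_cast, hi]
  push Not at hr
  obtain ⟨q, hq⟩ := hr
  obtain ⟨i, hi⟩ : ∃ i, ι q = DihedralGroup.sr i := by
    cases hd : ι q with
    | r i => exact absurd hd (hq i)
    | sr i => exact ⟨i, rfl⟩
  have hq2 : orderOf (q : G) = 2 := by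
    rw [Subgroup.orderOf_coe, ← orderOf_injective ι hι, hi, DihedralGroup.orderOf_sr]
  have hrot : ∀ w : Q, ∀ j, ι w = DihedralGroup.r j → w = 1 := by
    intro w j hj
    by_contra hw
    obtain ⟨n, hn⟩ := hQ w
    obtain ⟨k, -, hk⟩ := (Nat.dvd_prime_pow Nat.prime_two).1 (orderOf_dvd_of_pow_eq_one hn)
    have h2 : 2 ∣ orderOf w := by
      rw [hk]
      refine dvd_pow_self 2 fun h0 => hw ?_
      rw [h0, pow_zero] at hk
      exact orderOf_eq_one_iff.1 hk
    set v := w ^ (orderOf w / 2) with hv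
    have hv2 : orderOf v = 2 := orderOf_pow_orderOf_div (orderOf_pos w).ne' h2
    obtain ⟨l, hl⟩ : ∃ l, ι v = DihedralGroup.r l :=
      ⟨j * ((orderOf w / 2 : ℕ) : ZMod m), by rw [hv, map_pow, hj, DihedralGroup.r_pow]⟩
    have hll : l + l = 0 := by
      have h3 := congrArg ι (mul_self_of_orderOf_two hv2)
      rw [map_mul, map_one, hl, DihedralGroup.r_mul_r, ← DihedralGroup.r_zero] at h3
      exact DihedralGroup.r.inj h3
    have hc : v * q = q * v := hι (by
      rw [map_mul, map_mul, hl, hi, DihedralGroup.r_mul_sr, DihedralGroup.sr_mul_r]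
      congr 1
      linear_combination -hll)
    have he := h1 v v.2 q q.2 (by rw [Subgroup.orderOf_coe, hv2]) hq2
      (congrArg Subtype.val hc :)
    rw [Subtype.ext he] at hl
    rw [hi] at hl
    exact absurd hl (by simp)
  refine hcyc (ι q) ?_
  rintro _ ⟨w, rfl⟩
  cases hd : ι w with
  | r j => rw [← hd, hrot w j hd, map_one]; exact one_mem _
  | sr j =>
    have h2 := hrot (q * w) (j - i) (by rw [map_mul, hi, hd, DihedralGroup.sr_mul_sr])
    rw [← hd, show w = q⁻¹ from (inv_eq_of_mul_eq_one_right h2).symm, map_inv]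
    exact inv_mem (Subgroup.mem_zpowers _)

theorem solvable_of_no_four [Finite G] (hS : DihSylow G) (K : Subgroup G)
    (h1 : ∀ s ∈ K, ∀ t ∈ K, orderOf s = 2 → orderOf t = 2 → Commute s t → s = t) :
    Group.IsSolvable ↥K := by
  obtain ⟨P⟩ : Nonempty (Sylow 2 ↥K) := inferInstance
  refine CycZ.solvable_of_cyclic_sylow_two P ?_
  haveI := isCyclic_two hS (P.2.map K.subtype) fun s hs t ht =>
    h1 s (Subgroup.map_subtype_le _ hs) t (Subgroup.map_subtype_le _ ht)
  exact (Subgroup.equivMapOfInjective (P : Subgroup ↥K) K.subtype K.subtype_injective).isCyclic.2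
    inferInstance

/-- Lifting a 2-subgroup into a supplement of a normal subgroup of odd order. -/
theorem exists_lift_two {X : Type*} [Group X] [Finite X] (K : Subgroup X) [K.Normal]
    (hK : Odd (Nat.card K)) (M₁ : Subgroup X) (hsup : K ⊔ M₁ = ⊤) (V : Subgroup X)
    (hV : IsPGroup 2 V) :
    ∃ φ : ↥V →* X, Function.Injective φ ∧ (∀ v : ↥V, φ v ∈ M₁) ∧
      (∀ v : ↥V, φ v * (v : X)⁻¹ ∈ K) ∧
      ∀ n : X, ∀ hn : (∀ v ∈ V, n * v * n⁻¹ ∈ V), ∃ m ∈ M₁, ∀ v : ↥V,
        m * φ v * m⁻¹ = φ ⟨n * v * n⁻¹, hn v v.2⟩ := by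
  haveI : Fact (Nat.Prime 2) := ⟨Nat.prime_two⟩
  set f := QuotientGroup.mk' K with hf
  have hker : ∀ {x : X}, f x = 1 → x ∈ K := fun {x} h => (QuotientGroup.eq_one_iff x).1 h
  have hMsurj : ∀ x : X, ∃ m ∈ M₁, f m = f x := fun x => by
    obtain ⟨a, ha, m, hm, rfl⟩ := Subgroup.mem_sup_of_normal_left.1
      (hsup.ge (Subgroup.mem_top x))
    exact ⟨m, hm, by rw [map_mul, show f a = 1 from (QuotientGroup.eq_one_iff a).2 ha, one_mul]⟩
  set L := M₁ ⊓ (V.map f).comap f with hL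
  let g : ↥L →* ↥(V.map f) := (f.comp L.subtype).codRestrict _ fun w => w.2.2
  have hg : Function.Surjective g := fun y => by
    obtain ⟨x, (hx : f x = (y : X ⧸ K))⟩ := QuotientGroup.mk'_surjective K (y : X ⧸ K)
    obtain ⟨m, hm, e⟩ := hMsurj x
    exact ⟨⟨m, hm, show f m ∈ V.map f by rw [e, hx]; exact y.2⟩,
      Subtype.ext (show f m = (y : X ⧸ K) from e.trans hx)⟩
  obtain ⟨T⟩ : Nonempty (Sylow 2 ↥L) := inferInstance
  have htop : (T : Subgroup ↥L).map g = ⊤ := by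
    have h1 := (T.mapSurjective hg).3 ((hV.map f).to_subgroup ⊤) le_top
    rw [Sylow.coe_mapSurjective] at h1
    exact h1.symm
  set gT : ↥(T : Subgroup ↥L) →* ↥(V.map f) := g.comp (T : Subgroup ↥L).subtype with hgT
  have hbij : Function.Bijective gT := by
    refine ⟨(injective_iff_map_eq_one gT).2 fun t ht => ?_, fun y => ?_⟩
    · have h1 : ((t : ↥L) : X) ∈ K := hker (congrArg Subtype.val ht :)
      exact Subtype.ext (Subtype.ext (PSolvable.eq_one_of_mem_of_mem (T.2.map L.subtype)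
        (Nat.coprime_two_right.2 hK) ⟨_, t.2, rfl⟩ h1))
    · obtain ⟨t, ht, rfl⟩ := htop.ge (Subgroup.mem_top y)
      exact ⟨⟨t, ht⟩, rfl⟩
  let e := MulEquiv.ofBijective gT hbij
  let φ : ↥V →* X :=
    ((L.subtype.comp (T : Subgroup ↥L).subtype).comp e.symm.toMonoidHom).comp (f.subgroupMap V)
  have hφf : ∀ v : ↥V, f (φ v) = f v := fun v =>
    congrArg Subtype.val (e.apply_symm_apply (f.subgroupMap V v))
  have hφK : ∀ v : ↥V, φ v * (v : X)⁻¹ ∈ K := fun v =>
    hker (by rw [map_mul, map_inv, hφf, mul_inv_cancel])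
  refine ⟨φ, ?_, fun v => (e.symm (f.subgroupMap V v) : ↥L).2.1, hφK, fun n hn => ?_⟩
  · refine (injective_iff_map_eq_one φ).2 fun v hv => Subtype.ext ?_
    refine PSolvable.eq_one_of_mem_of_mem hV (Nat.coprime_two_right.2 hK) v.2 ?_
    have h1 := inv_mem (hφK v)
    rwa [hv, one_mul, inv_inv] at h1
  obtain ⟨m, hm, hmn⟩ := hMsurj n
  have hmL : ∀ w ∈ L, m * w * m⁻¹ ∈ L := fun w hw => by
    refine Subgroup.mem_inf.2 ⟨mul_mem (mul_mem hm hw.1) (inv_mem hm), ?_⟩
    obtain ⟨v, hv, e1⟩ := hw.2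
    refine ⟨n * v * n⁻¹, hn v hv, ?_⟩
    simp only [map_mul, map_inv, e1, hmn]
  set σ : ↥L →* ↥L := ((MulAut.conj m).toMonoidHom.comp L.subtype).codRestrict L
    fun w => hmL w w.2 with hσ
  have hσinj : Function.Injective σ := fun a b h =>
    Subtype.ext ((MulAut.conj m).injective (congrArg Subtype.val h :))
  have hσs : Function.Surjective σ := Finite.injective_iff_surjective.1 hσinj
  obtain ⟨u, hu⟩ := MulAction.exists_smul_eq ↥L (T.mapSurjective hσs) T
  have hmem : ∀ t ∈ (T : Subgroup ↥L), u * σ t * u⁻¹ ∈ (T : Subgroup ↥L) := fun t ht => by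
    rw [← hu, Sylow.coe_subgroup_smul, Sylow.coe_mapSurjective]
    exact Subgroup.smul_mem_pointwise_smul (σ t) (MulAut.conj u) _ ⟨t, ht, rfl⟩
  obtain ⟨c, hc, hcu⟩ : g u ∈ (T : Subgroup ↥L).map g := htop.ge (Subgroup.mem_top _)
  refine ⟨((c⁻¹ * u : ↥L) : X) * m, mul_mem (c⁻¹ * u : ↥L).2.1 hm, fun v => ?_⟩
  set t := e.symm (f.subgroupMap V v) with ht
  set t' := e.symm (f.subgroupMap V ⟨n * v * n⁻¹, hn v v.2⟩) with ht'
  have hmem' : c⁻¹ * (u * σ (t : ↥L) * u⁻¹) * c ∈ (T : Subgroup ↥L) :=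
    mul_mem (mul_mem (inv_mem hc) (hmem _ t.2)) hc
  have key : (⟨_, hmem'⟩ : ↥(T : Subgroup ↥L)) = t' := hbij.injective (by
    show g (c⁻¹ * (u * σ (t : ↥L) * u⁻¹) * c) = gT t'
    rw [ht', show gT (e.symm _) = _ from e.apply_symm_apply _]
    simp only [map_mul, map_inv, hcu]
    rw [show (g u)⁻¹ * (g u * g (σ t) * (g u)⁻¹) * g u = g (σ t) by group]
    refine Subtype.ext (show f (m * φ v * m⁻¹) = f (n * v * n⁻¹) from ?_)
    simp only [map_mul, map_inv, hφf, hmn])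
  calc ((c⁻¹ * u : ↥L) : X) * m * φ v * (((c⁻¹ * u : ↥L) : X) * m)⁻¹
      = ((c⁻¹ * (u * σ (t : ↥L) * u⁻¹) * c : ↥L) : X) := by
        show ((c : X)⁻¹ * (u : X)) * m * ((t : ↥L) : X) * ((c : X)⁻¹ * (u : X) * m)⁻¹ =
          (c : X)⁻¹ * ((u : X) * (m * ((t : ↥L) : X) * m⁻¹) * (u : X)⁻¹) * (c : X)
        group
    _ = φ ⟨n * v * n⁻¹, hn v v.2⟩ := congrArg (fun w : ↥(T : Subgroup ↥L) => ((w : ↥L) : X)) key

end CfsgLib.DGroup
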