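import Cfsg.Agent.Lib.DGroup.Setup
import Cfsg.Agent.Lib.Invol.SolvableCore
import Cfsg.Agent.S4420

/-!
# D-group data: the abelian subgroup of index two, and the quotient by the core
-/

set_option autoImplicit false
set_option linter.unusedSectionVars false
set_option linter.style.haveILetI false

namespace CfsgLib.DGroup

open Cfsg CfsgLib.Invol

variable {G : Type*} [Group G] [Finite G]

/-- A D-group whose centre has self-centralising involutions gives the data used here. -/
theorem exists_hyp (H A : Subgroup G) (hAH : A < H) (hD : ∀ x ∈ H, x ∉ A → x ^ 2 = 1)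
    (h4 : 4 ∣ Nat.card ↥H)
    (hC : ∀ j ∈ H, orderOf j = 2 → (∀ h ∈ H, h * j = j * h) →
      Subgroup.centralizer ({j} : Set G) = H) :
    ∃ (B : Subgroup G) (x : G), Hyp H B x := by
  haveI := Fact.mk Nat.prime_two
  obtain ⟨B, -, hBc, hBi, hBx, -⟩ := Cfsg.Agent.S4420.result (A.subgroupOf H)
    (fun e => hAH.ne (le_antisymm hAH.le fun y hy =>
      (show (⟨y, hy⟩ : H) ∈ A.subgroupOf H from e ▸ Subgroup.mem_top _)))
    (fun y hy => Subtype.ext (by simpa using hD y y.2 hy))
  obtain ⟨x, hx⟩ : ∃ x : H, x ∉ B := by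
    by_contra! hall
    rw [(Subgroup.eq_top_iff' B).2 hall, Subgroup.index_top] at hBi
    omega
  have hcen : ∀ t ∈ B, orderOf t = 2 → ∀ y : H, y * t = t * y := by
    intro t ht ht2 y
    by_cases hy : y ∈ B
    · exact congrArg Subtype.val (hBc.is_comm.comm (⟨y, hy⟩ : B) ⟨t, ht⟩)
    · have e := (hBx y hy).2 t ht
      rw [inv_of_orderOf_two ht2] at e
      exact mul_inv_eq_iff_eq_mul.1 e
  refine ⟨B.map H.subtype, x, Subgroup.map_subtype_le B, ?_, x.2, ?_, ?_, ?_, ?_, ?_, ?_⟩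
  · rintro _ ⟨a, ha, rfl⟩ _ ⟨b, hb, rfl⟩
    rw [← map_mul, ← map_mul]
    exact congrArg H.subtype (congrArg Subtype.val (hBc.is_comm.comm (⟨a, ha⟩ : B) ⟨b, hb⟩))
  · rintro ⟨a, ha, e⟩
    exact hx (Subtype.ext e ▸ ha)
  · have e := congrArg Subtype.val (hBx x hx).1
    simpa [pow_two] using e
  · rintro _ ⟨a, ha, rfl⟩
    exact congrArg Subtype.val ((hBx x hx).2 a ha)
  · intro y hy
    by_cases hyB : (⟨y, hy⟩ : H) ∈ B
    · exact Or.inl ⟨_, hyB, rfl⟩
    · exact Or.inr ⟨x * ⟨y, hy⟩, (Subgroup.mul_mem_iff_of_index_two hBi).2 (iff_of_false hx hyB), rfl⟩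
  · rintro _ ⟨t, ht, rfl⟩ ht2
    rw [Subgroup.coe_subtype, Subgroup.orderOf_coe] at ht2
    exact hC _ t.2 (by rw [Subgroup.coe_subtype, Subgroup.orderOf_coe]; exact ht2) fun y hy =>
      congrArg Subtype.val (hcen t ht ht2 ⟨y, hy⟩)
  · have hB2 : 2 ∣ Nat.card B := by
      obtain ⟨c, hc⟩ := h4
      have := B.card_mul_index
      rw [hBi, hc] at this
      exact ⟨c, by omega⟩
    obtain ⟨t, ht⟩ := exists_prime_orderOf_dvd_card' 2 hB2
    exact ⟨_, ⟨(t : H), t.2, rfl⟩, by
      rw [Subgroup.coe_subtype, Subgroup.orderOf_coe, Subgroup.orderOf_coe]; exact ht⟩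

/-- The data with a single involution in `A` pass to the quotient by the core. -/
theorem Hyp.quotient {H A : Subgroup G} {x : G} (h : Hyp H A x) {t : G} (ht : t ∈ A)
    (ht2 : orderOf t = 2) (huniq : ∀ a ∈ A, a * a = 1 → a = 1 ∨ a = t) :
    let f := QuotientGroup.mk' (oddCore G)
    Hyp (H.map f) (A.map f) (f x) ∧ f t ∈ A.map f ∧ orderOf (f t) = 2 ∧
      ∀ a ∈ A.map f, a * a = 1 → a = 1 ∨ a = f t := by
  intro f
  haveI := Fact.mk Nat.prime_two
  haveI : (oddCore G).Normal := Transfer.pPrimeCore_normal 2 G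
  have hK : (Nat.card (oddCore G)).Coprime 2 := Transfer.pPrimeCore_coprime 2
  have hker : ∀ a, f a = 1 ↔ a ∈ oddCore G := fun a => QuotientGroup.eq_one_iff a
  have hodd : ∀ a ∈ oddCore G, Odd (orderOf a) := fun a ha =>
    Nat.coprime_two_right.1 (hK.coprime_dvd_left (Subgroup.orderOf_dvd_natCard _ ha))
  have hxnot : f x ∉ A.map f := by
    rintro ⟨a, ha, e⟩
    have hk : f (a⁻¹ * x) = 1 := by rw [map_mul, map_inv, e, inv_mul_cancel]
    have hnA : a⁻¹ * x ∉ A := fun e' => h.xnot ((A.mul_mem_cancel_left (inv_mem ha)).1 e')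
    have hH : a⁻¹ * x ∈ H := mul_mem (inv_mem (h.le ha)) h.xmem
    have d : DihData t A x := ⟨ht, fun b hb => Subgroup.mem_centralizer_singleton_iff.2 (h.comm b hb t ht),
      h.comm, h.cent t ht ht2 ▸ h.xmem, h.xnot, h.xsq, h.inv,
      fun g hg => h.cases g (h.cent t ht ht2 ▸ hg), huniq⟩
    exact hnA ((eq_one_of_odd_sq (hodd _ ((hker _).1 hk)) (d.sq_outside
      (Subgroup.mem_centralizer_singleton_iff.1 (h.cent t ht ht2 ▸ hH)) hnA)).symm ▸ one_mem A)
  have hft : orderOf (f t) = 2 := orderOf_two_of_mul_self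
    (by rw [← map_mul, mul_self_of_orderOf_two ht2, map_one]) fun e => by
      have := hodd t ((hker t).1 e)
      rw [ht2] at this
      exact absurd this (by decide)
  -- an involution of the image of `A` is the image of `t`
  have huq : ∀ a ∈ A.map f, a * a = 1 → a = 1 ∨ a = f t := by
    rintro _ ⟨a, ha, rfl⟩ h2
    have ho : Odd (orderOf (a * a)) := hodd _ ((hker _).1 (by rw [map_mul, h2]))
    set s := orderOf (a * a)
    have hs : f (a ^ s) = f a := by
      obtain ⟨c, hc⟩ := ho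
      rw [map_pow, hc, pow_succ, pow_mul, pow_two, h2, one_pow, one_mul]
    rcases huniq (a ^ s) (pow_mem ha s) (by
      rw [← (Commute.refl a).mul_pow, pow_orderOf_eq_one]) with e | e
    · left; rw [← hs, e, map_one]
    · right; rw [← hs, e]
  refine ⟨⟨Subgroup.map_mono h.le, ?_, Subgroup.mem_map_of_mem f h.xmem, hxnot,
    by rw [← map_mul, h.xsq, map_one], ?_, ?_, ?_, ⟨f t, Subgroup.mem_map_of_mem f ht, hft⟩⟩,
    Subgroup.mem_map_of_mem f ht, hft, huq⟩
  · rintro _ ⟨a, ha, rfl⟩ _ ⟨b, hb, rfl⟩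
    rw [← map_mul, ← map_mul, h.comm a ha b hb]
  · rintro _ ⟨a, ha, rfl⟩
    rw [← map_inv, ← map_mul, ← map_mul, h.inv a ha, map_inv]
  · rintro _ ⟨y, hy, rfl⟩
    rcases h.cases y hy with e | e
    · exact Or.inl (Subgroup.mem_map_of_mem f e)
    · exact Or.inr (by rw [← map_mul]; exact Subgroup.mem_map_of_mem f e)
  · intro u hu hu2
    rcases huq u hu (mul_self_of_orderOf_two hu2) with e | e
    · exact absurd e (ne_one_of_orderOf_two hu2)
    subst e
    refine le_antisymm (fun g hg => ?_) ?_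
    · obtain ⟨g, rfl⟩ := QuotientGroup.mk'_surjective (oddCore G) g
      have e := Subgroup.mem_centralizer_singleton_iff.1 hg
      have hp : ∀ {y : G}, orderOf y = 2 → IsPGroup 2 (Subgroup.zpowers y) := fun hy =>
        IsPGroup.of_card (n := 1) (by rw [Nat.card_zpowers, hy, pow_one])
      obtain ⟨o, ho, he⟩ := ZStar.exists_conj_eq_of_mul_mem hK (x := t) (y := g * t * g⁻¹) (hp ht2)
        (hp (conj_orderOf_two ht2 g)) ((hker _).1 (by
          rw [map_mul, map_mul, map_mul, map_inv, map_inv, e, mul_inv_cancel_right, mul_inv_cancel]))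
      have hH : o * g ∈ H := by
        rw [← h.cent t ht ht2, Subgroup.mem_centralizer_singleton_iff]
        exact mul_inv_eq_iff_eq_mul.1 (by rw [mul_inv_rev]; simpa [mul_assoc] using he)
      exact ⟨o * g, hH, by rw [map_mul, (hker o).2 ho, one_mul]⟩
    · rintro _ ⟨y, hy, rfl⟩
      rw [← h.cent t ht ht2, SetLike.mem_coe, Subgroup.mem_centralizer_singleton_iff] at hy
      exact Subgroup.mem_centralizer_singleton_iff.2 (by rw [← map_mul, ← map_mul, hy])

theorem not_solvable_quotient (hns : ¬ Group.IsSolvable G) :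
    ¬ Group.IsSolvable (G ⧸ oddCore G) := fun h => by
  haveI := Fact.mk Nat.prime_two
  exact hns (RealClassGraph.solvable_of_normal (oddCore G)
    (Cfsg.Agent.S0205.result (Nat.coprime_two_right.1 (Transfer.pPrimeCore_coprime 2))) h)

end CfsgLib.DGroup
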