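import Cfsg.Agent.Lib.DGroup.TwoClassOf
import Cfsg.Agent.Lib.Coprime.Generation
import Cfsg.Agent.Lib.Invol.KleinSylow
import Cfsg.Agent.S0215
import Cfsg.Agent.S0061
import Cfsg.Agent.S1189
import Cfsg.Agent.S3224

/-!
# From the D-group data to the one-class or two-class configuration
-/

set_option autoImplicit false
set_option linter.unusedSectionVars false
set_option linter.style.haveILetI false

namespace CfsgLib.DGroup

open Cfsg CfsgLib.Invol CfsgLib.DihBlock

universe u

variable {G : Type u} [Group G] [Finite G]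

/-- All involutions conjugate to one with dihedral data: the one-class configuration. -/
theorem oneClass_of (hcore : oddCore G = ⊥) (S : Sylow 2 G) {m : ℕ} (hm : 2 ≤ m)
    (eS : Nonempty ((S : Subgroup G) ≃* DihedralGroup m))
    (hone : ∀ s t : G, orderOf s = 2 → orderOf t = 2 → IsConj s t) {v : G} {A : Subgroup G} {x : G}
    (hv : orderOf v = 2) (d : DihData v A x) : OneClass G :=
  ⟨hcore, dihCent_of_reps fun u hu => ⟨v, A, x, hone v u hv hu, d⟩, hone,
    fun S' => ⟨m, hm, ⟨(S'.equiv S).trans eS.some⟩⟩⟩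

theorem not_isConj_of_card_lt {S : Sylow 2 G} {z t : G}
    (hz : ∀ s ∈ (S : Subgroup G), Commute s z)
    (hlt : ∀ R : Subgroup G, R ≤ Subgroup.centralizer ({t} : Set G) → IsPGroup 2 R →
      Nat.card R < Nat.card (S : Subgroup G)) : ¬ IsConj z t := by
  intro h
  obtain ⟨g, rfl⟩ := isConj_iff.1 h
  have h1 := hlt ((S : Subgroup G).map (MulAut.conj g).toMonoidHom) ?_ (S.2.map _)
  · rw [Subgroup.card_map_of_injective (MulAut.conj g).injective] at h1
    exact lt_irrefl _ h1
  · rintro _ ⟨s, hs, rfl⟩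
    exact Subgroup.mem_centralizer_singleton_iff.2 (((hz s hs).map (MulAut.conj g).toMonoidHom)).eq

/-- An isolated involution of a core-free group is central. -/
theorem mem_center_of_isolated (hcore : oddCore G = ⊥) (S : Sylow 2 G) {z : G} (hz : orderOf z = 2)
    (hzS : z ∈ (S : Subgroup G)) (hiso : ∀ g : G, g * z * g⁻¹ ∈ (S : Subgroup G) → g * z * g⁻¹ = z) :
    z ∈ Subgroup.center G := by
  obtain ⟨N, hN, hodd, hc⟩ := Cfsg.Agent.S0215.result S z hz hzS hiso
  haveI := hN
  refine Subgroup.mem_center_iff.2 fun g => ?_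
  have e := hc g
  rw [eq_bot_of_odd_normal hcore N hodd, Subgroup.mem_bot, mul_inv_eq_one] at e
  exact (mul_inv_eq_iff_eq_mul.1 e).symm

/-- In a quasidihedral Sylow subgroup a central involution not conjugate to `t` is isolated. -/
theorem mem_center_of_quasi (hcore : oddCore G = ⊥) (S : Sylow 2 G)
    (hq : IsQuasiDihedral (S : Subgroup G)) {z t : G} (hz : orderOf z = 2) (ht : orderOf t = 2)
    (hzS : z ∈ (S : Subgroup G)) (htS : t ∈ (S : Subgroup G))
    (hzc : ∀ s ∈ (S : Subgroup G), Commute s z) (hnc : ¬ IsConj z t) : z ∈ Subgroup.center G := by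
  classical
  letI := Fintype.ofFinite (S : Subgroup G)
  refine mem_center_of_isolated hcore S hz hzS fun g hg => ?_
  by_contra hne
  have h2 := (Cfsg.Agent.S1189.result hq).1
  set α := {C : ConjClasses (S : Subgroup G) // ∃ u : (S : Subgroup G), orderOf u = 2 ∧ ConjClasses.mk u = C}
  let mk : (u : (S : Subgroup G)) → orderOf u = 2 → α := fun u hu => ⟨ConjClasses.mk u, u, hu, rfl⟩
  let zc : (S : Subgroup G) := ⟨z, hzS⟩
  let tc : (S : Subgroup G) := ⟨t, htS⟩
  let wc : (S : Subgroup G) := ⟨g * z * g⁻¹, hg⟩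
  have hzc2 : orderOf zc = 2 := by rwa [← Subgroup.orderOf_coe]
  have htc2 : orderOf tc = 2 := by rwa [← Subgroup.orderOf_coe]
  have hwc2 : orderOf wc = 2 := by rw [← Subgroup.orderOf_coe]; exact conj_orderOf_two hz g
  have hmk : ∀ {a b : (S : Subgroup G)} (ha : orderOf a = 2) (hb : orderOf b = 2), mk a ha = mk b hb →
      ∃ s : G, s ∈ (S : Subgroup G) ∧ s * (a : G) * s⁻¹ = b := fun ha hb e => by
    obtain ⟨s, hs⟩ := isConj_iff.1 (ConjClasses.mk_eq_mk_iff_isConj.1 (congrArg Subtype.val e))
    exact ⟨s, s.2, congrArg Subtype.val hs⟩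
  have hzfix : ∀ s ∈ (S : Subgroup G), s * z * s⁻¹ = z := fun s hs => by
    rw [(hzc s hs).eq, mul_inv_cancel_right]
  have h3 : ({mk zc hzc2, mk tc htc2, mk wc hwc2} : Finset α).card = 3 := by
    refine Finset.card_eq_three.2 ⟨_, _, _, fun e => ?_, fun e => ?_, fun e => ?_, rfl⟩
    · obtain ⟨s, hs, e'⟩ := hmk hzc2 htc2 e
      exact hnc (isConj_iff.2 ⟨s, e'⟩)
    · obtain ⟨s, hs, e'⟩ := hmk hzc2 hwc2 e
      exact hne (e'.symm.trans (hzfix s hs))
    · obtain ⟨s, hs, e'⟩ := hmk htc2 hwc2 e
      exact hnc ((isConj_iff.2 ⟨g, rfl⟩ : IsConj z (g * z * g⁻¹)).trans (isConj_iff.2 ⟨s, e'⟩).symm)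
  have := Finset.card_le_univ ({mk zc hzc2, mk tc htc2, mk wc hwc2} : Finset α)
  rw [h3, ← Nat.card_eq_fintype_card, h2] at this
  omega

/-- A dihedral Sylow subgroup, in the normal form used by the trichotomy. -/
theorem exists_dihedral_form (S : Sylow 2 G) {n : ℕ}
    (eS : Nonempty ((S : Subgroup G) ≃* DihedralGroup n)) (h8 : 8 ≤ Nat.card (S : Subgroup G)) :
    ∃ (k : ℕ) (σ τ : G), 2 ≤ k ∧ n = 2 ^ k ∧ Data S σ τ (2 ^ (k - 1)) := by
  haveI := Fact.mk Nat.prime_two
  obtain ⟨e⟩ := eS
  obtain ⟨a, ha⟩ := IsPGroup.iff_card.1 S.2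
  have hcard : Nat.card (S : Subgroup G) = 2 * n := by rw [Nat.card_congr e.toEquiv, DihedralGroup.nat_card]
  obtain ⟨b, rfl⟩ : ∃ b, a = b + 3 := ⟨a - 3, by
    rcases Nat.lt_or_ge a 3 with h | h
    · exfalso
      have : 2 ^ a ≤ 2 ^ 2 := Nat.pow_le_pow_right two_pos (by omega)
      omega
    · omega⟩
  have hn : n = 2 ^ (b + 2) := by rw [hcard, pow_succ'] at ha; omega
  haveI : NeZero n := ⟨by rw [hn]; positivity⟩
  set σ : G := (e.symm (DihedralGroup.r 1) : G)
  obtain ⟨τ, D⟩ := DihBlock.data_of_iso S (k := b + 1) (Nat.succ_pos b) (by rw [hn, pow_succ']) e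
    (σ := σ) (e.symm (DihedralGroup.r 1)).2 (by
      rw [Subgroup.orderOf_coe, MulEquiv.orderOf_eq, DihedralGroup.orderOf_r_one])
  exact ⟨b + 2, σ, τ, by omega, hn, D⟩

/-- The centraliser of a pair in a group with dihedral data. -/
theorem DihData.card_pair {v : G} {A : Subgroup G} {x : G} (d : DihData v A x) (hv : orderOf v = 2)
    {w : G} (hw : orderOf w = 2) (hne : w ≠ v) (hc : Commute w v) :
    Nat.card (Subgroup.centralizer ({v, w} : Set G)) = 4 := by
  have hwA := d.not_mem_of_invol hw hne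
  have hmem : ∀ h, h ∈ Subgroup.centralizer ({v, w} : Set G) ↔ Commute h v ∧ Commute h w := fun h => by
    rw [Subgroup.mem_centralizer_iff]
    constructor
    · intro e
      exact ⟨(e v (Set.mem_insert v _)).symm, (e w (Set.mem_insert_of_mem v rfl)).symm⟩
    · rintro ⟨e1, e2⟩ y (rfl | rfl)
      exacts [e1.symm.eq, e2.symm.eq]
  have hA : ∀ h, h ∈ A → Commute h w → h ∈ Subgroup.zpowers v := fun h hh hhw => by
    have e := d.inv_outside hc hwA hh
    rw [hhw.symm.eq, mul_inv_cancel_right] at e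
    rcases d.uniq h hh (eq_inv_iff_mul_eq_one.mp e) with rfl | rfl
    · exact one_mem _
    · exact Subgroup.mem_zpowers _
  rw [card_two_coset (K := Subgroup.zpowers v) ?_ ((hmem w).2 ⟨hc, Commute.refl w⟩) ?_ ?_,
    Nat.card_zpowers, hv]
  · rw [Subgroup.zpowers_le]
    exact (hmem v).2 ⟨Commute.refl v, hc.symm⟩
  · exact fun h => hwA ((Subgroup.zpowers_le.2 d.mem) h)
  · intro h hh
    obtain ⟨hhv, hhw⟩ := (hmem h).1 hh
    by_cases hhA : h ∈ A
    · exact Or.inl (hA h hhA hhw)
    · exact Or.inr (hA _ (d.mul_mem_of_outside hc hwA hhv hhA) ((Commute.refl w).mul_left hhw))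

/-- No outer involution centraliser has order four. -/
theorem TwoClass.not_card_four {G₀ : Subgroup G} (h : TwoClass G G₀) (hns : ¬ Group.IsSolvable G)
    {z t : G} (hz : orderOf z = 2) (ht : orderOf t = 2) (hz0 : z ∈ G₀) (ht0 : t ∉ G₀)
    (hc : Commute t z) (h4 : Nat.card (Subgroup.centralizer ({t} : Set G)) = 4)
    (h8 : ∀ S : Sylow 2 G, 8 ≤ Nat.card (S : Subgroup G)) : False := by
  haveI := Fact.mk Nat.prime_two
  haveI : G₀.Normal := Subgroup.normal_of_index_eq_two h.index
  have key := h.card_eq hz ht hz0 ht0 hc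
  rw [h4] at key
  have hz' : orderOf (⟨z, hz0⟩ : G₀) = 2 := by rwa [← Subgroup.orderOf_coe]
  obtain ⟨w, hw, hwne, hwc⟩ := h.one.cent.exists_partner hz'
  obtain ⟨A', x', d'⟩ := h.one.cent _ hz'
  obtain ⟨m, hm, eS⟩ := h.one.sylow (Classical.arbitrary _)
  have hb := three_mul_cube_le _ hm eS h.one.one hz' fun w' hw' hne' hc' =>
    d'.card_pair hz' hw' hne' hc'.symm
  have hC0 : Nat.card (Subgroup.centralizer ({z} : Set G)) =
      2 * Nat.card (Subgroup.centralizer ({(⟨z, hz0⟩ : G₀)} : Set G₀)) := by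
    rw [card_two_coset (K := Subgroup.centralizer ({z} : Set G) ⊓ G₀) inf_le_left
      (Subgroup.mem_centralizer_singleton_iff.2 hc.eq) (fun e => ht0 e.2)
      fun a ha => (mem_or_mul_mem h.index ht0 a).imp (fun e => ⟨ha, e⟩) fun e =>
        ⟨mul_mem (Subgroup.mem_centralizer_singleton_iff.2 hc.eq) ha, e⟩]
    congr 1
    refine Nat.card_congr
      { toFun := fun a => ⟨⟨a, a.2.2⟩, Subgroup.mem_centralizer_singleton_iff.2
          (Subtype.ext (Subgroup.mem_centralizer_singleton_iff.1 a.2.1))⟩
        invFun := fun a => ⟨((a : G₀) : G), Subgroup.mem_centralizer_singleton_iff.2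
          (congrArg Subtype.val (Subgroup.mem_centralizer_singleton_iff.1 a.2)), (a : G₀).2⟩
        left_inv := fun a => rfl
        right_inv := fun a => rfl }
  have hG : Nat.card G = 2 * Nat.card G₀ := by
    rw [← G₀.card_mul_index, h.index, mul_comm]
  set c := Nat.card (Subgroup.centralizer ({(⟨z, hz0⟩ : G₀)} : Set G₀))
  rw [hC0, hG] at key
  have h1 : 1 ≤ c := Nat.card_pos
  have hc4 : c ≤ 4 := by
    by_contra hlt
    have h5 : 5 * c ^ 2 ≤ c ^ 3 := by
      rw [show c ^ 3 = c * c ^ 2 by ring]; exact Nat.mul_le_mul_right _ (by omega)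
    have h6 : 5 * c ≤ c ^ 2 := by rw [pow_two]; exact Nat.mul_le_mul_right _ (by omega)
    nlinarith
  have h8' : 8 ∣ Nat.card G := by
    obtain ⟨S⟩ := (Sylow.nonempty : Nonempty (Sylow 2 G))
    obtain ⟨a, ha⟩ := IsPGroup.iff_card.1 S.2
    have h3 : 3 ≤ a := by
      by_contra hlt
      have := h8 S
      have : 2 ^ a ≤ 2 ^ 2 := Nat.pow_le_pow_right two_pos (by omega)
      omega
    exact (show (8 : ℕ) ∣ 2 ^ a from pow_dvd_pow 2 h3).trans (ha ▸ Subgroup.card_subgroup_dvd_card _)
  have hcases : Nat.card G = 2 ^ 2 * 2 ∨ Nat.card G = 2 ^ 3 * 3 := by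
    interval_cases c <;> omega
  rcases hcases with e | e
  · exact hns (Cfsg.Agent.S0061.result 2 2 2 Nat.prime_two Nat.prime_two e)
  · exact hns (Cfsg.Agent.S0061.result 2 3 3 Nat.prime_two Nat.prime_three e)

/-- A central involution of a core-free group leaves the quotient core-free. -/
theorem oddCore_quotient_invol (hcore : oddCore G = ⊥) {z : G} (hz : orderOf z = 2)
    [(Subgroup.zpowers z).Normal] : oddCore (G ⧸ Subgroup.zpowers z) = ⊥ := by
  haveI := Fact.mk Nat.prime_two
  set Z := Subgroup.zpowers z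
  set K := (oddCore (G ⧸ Z)).comap (QuotientGroup.mk' Z)
  haveI : (oddCore (G ⧸ Z)).Normal := Transfer.pPrimeCore_normal 2 _
  haveI : K.Normal := Subgroup.Normal.comap inferInstance _
  have hodd : Odd (Nat.card (oddCore (G ⧸ Z))) :=
    Nat.coprime_two_right.1 (Transfer.pPrimeCore_coprime 2)
  have hK : Nat.card K = 2 * Nat.card (oddCore (G ⧸ Z)) := by
    have h1 := K.card_mul_index
    rw [Subgroup.index_comap_of_surjective _ (QuotientGroup.mk'_surjective Z),
      Subgroup.card_eq_card_quotient_mul_card_subgroup Z, Nat.card_zpowers, hz,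
      ← (oddCore (G ⧸ Z)).card_mul_index] at h1
    refine Nat.eq_of_mul_eq_mul_right (Nat.pos_of_ne_zero (oddCore (G ⧸ Z)).index_ne_zero_of_finite)
      (h1.trans ?_)
    ring
  obtain ⟨Q⟩ := (Sylow.nonempty : Nonempty (Sylow 2 K))
  have hQ : Nat.card (Q : Subgroup K) = 2 := by
    rw [Q.card_eq_multiplicity, hK, Nat.factorization_mul two_ne_zero Nat.card_pos.ne', Finsupp.add_apply,
      Nat.prime_two.factorization_self, Nat.factorization_eq_zero_of_not_dvd
        (fun h => Nat.not_even_iff_odd.mpr hodd (even_iff_two_dvd.mpr h)), pow_one]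
  obtain ⟨P, N, hN, hc⟩ := ZStar.hasNormalPComplement_of_cyclic Q (isCyclic_of_prime_card hQ)
  haveI := hN
  have hNb : N = ⊥ := eq_bot_of_odd_normal (oddCore_normal_eq_bot hcore K) N (by
    rw [← Nat.not_even_iff_odd, even_iff_two_dvd, ← hc.index_eq_card]
    exact P.not_dvd_index)
  have hK2 : Nat.card K = 2 := by
    rw [← hc.card_mul_card, hNb, Subgroup.card_bot, one_mul]
    exact (P.card_eq_multiplicity.trans Q.card_eq_multiplicity.symm).trans hQ
  exact Subgroup.card_eq_one.1 (show Nat.card (oddCore (G ⧸ Z)) = 1 by omega)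

/-- No core-free non-solvable group has an involution centraliser of order four and a Sylow subgroup
of order at least eight. -/
theorem no_small : ∀ (n : ℕ) (G : Type u) [Group G] [Finite G], Nat.card G = n → oddCore G = ⊥ →
    ¬ Group.IsSolvable G → ∀ (S : Sylow 2 G) (t : G), orderOf t = 2 →
      Subgroup.centralizer ({t} : Set G) ≤ (S : Subgroup G) →
      Nat.card (Subgroup.centralizer ({t} : Set G)) = 4 → 8 ≤ Nat.card (S : Subgroup G) → False := by
  intro n
  induction n using Nat.strong_induction_on with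
  | _ n ih =>
  intro G _ _ hn hcore hns S t ht hCS h4 h8
  haveI := Fact.mk Nat.prime_two
  have htS : t ∈ (S : Subgroup G) := hCS (Subgroup.mem_centralizer_singleton_iff.2 rfl)
  -- a central involution of `S`
  haveI : Nontrivial (S : Subgroup G) := Finite.one_lt_card_iff_nontrivial.1 (by omega)
  haveI := S.2.center_nontrivial
  obtain ⟨c, hc⟩ := exists_prime_orderOf_dvd_card' (G := Subgroup.center (S : Subgroup G)) 2 (by
    obtain ⟨k, hk⟩ := IsPGroup.iff_card.mp (S.2.to_subgroup (Subgroup.center (S : Subgroup G)))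
    rcases k with _ | k
    · rw [pow_zero] at hk
      exact absurd hk (Nat.ne_of_gt Finite.one_lt_card)
    · rw [hk]; exact dvd_pow_self 2 (by omega))
  set z : G := ((c : (S : Subgroup G)) : G)
  have hz : orderOf z = 2 := by rw [Subgroup.orderOf_coe, Subgroup.orderOf_coe, hc]
  have hzS : z ∈ (S : Subgroup G) := (c : (S : Subgroup G)).2
  have hzc : ∀ s ∈ (S : Subgroup G), Commute s z := fun s hs =>
    congrArg Subtype.val (Subgroup.mem_center_iff.mp c.2 ⟨s, hs⟩)
  have hnc : ¬ IsConj z t := not_isConj_of_card_lt (S := S) hzc fun R hR _ =>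
    (Subgroup.card_le_of_le hR).trans_lt (by omega)
  have hzt : Commute z t := (hzc t htS).symm
  have hne : z ≠ t := fun e => hnc (e ▸ IsConj.refl z)
  -- the data at `t`
  have hAle : Subgroup.zpowers t ≤ Subgroup.centralizer ({t} : Set G) :=
    Subgroup.zpowers_le.2 (Subgroup.mem_centralizer_singleton_iff.2 rfl)
  have hzA : z ∉ Subgroup.zpowers t := fun h => by
    obtain ⟨i, hi⟩ := Subgroup.mem_zpowers_iff.1 h
    rcases Int.even_or_odd' i with ⟨j, rfl | rfl⟩
    · rw [zpow_mul, zpow_two, mul_self_of_orderOf_two ht, one_zpow] at hi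
      exact ne_one_of_orderOf_two hz hi.symm
    · rw [zpow_add, zpow_mul, zpow_two, mul_self_of_orderOf_two ht, one_zpow, zpow_one, one_mul] at hi
      exact hne hi.symm
  have hzC : z ∈ Subgroup.centralizer ({t} : Set G) := Subgroup.mem_centralizer_singleton_iff.2 hzt.eq
  have hidx : ((Subgroup.zpowers t).subgroupOf (Subgroup.centralizer ({t} : Set G))).index = 2 := by
    have h := ((Subgroup.zpowers t).subgroupOf (Subgroup.centralizer ({t} : Set G))).card_mul_index
    rw [Nat.card_congr (Subgroup.subgroupOfEquivOfLe hAle).toEquiv, Nat.card_zpowers, ht, h4] at h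
    omega
  have dt : DihData t (Subgroup.zpowers t) z := by
    refine ⟨Subgroup.mem_zpowers t, hAle, fun a ha b hb => ?_, hzC, hzA, mul_self_of_orderOf_two hz,
      fun a ha => ?_, fun h hh => ?_, fun a ha _ => ?_⟩
    · obtain ⟨i, rfl⟩ := Subgroup.mem_zpowers_iff.1 ha
      obtain ⟨j, rfl⟩ := Subgroup.mem_zpowers_iff.1 hb
      rw [← zpow_add, ← zpow_add, add_comm]
    · obtain ⟨i, rfl⟩ := Subgroup.mem_zpowers_iff.1 ha
      rw [(hzt.zpow_right i).eq, mul_inv_cancel_right, ← inv_zpow, inv_of_orderOf_two ht]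
    · refine Classical.or_iff_not_imp_left.2 fun hh' => ?_
      exact Subgroup.mem_subgroupOf.1 ((Subgroup.mul_mem_iff_of_index_two hidx (a := ⟨z, hzC⟩)
        (b := ⟨h, hh⟩)).2 (iff_of_false hzA hh'))
    · obtain ⟨i, rfl⟩ := Subgroup.mem_zpowers_iff.1 ha
      rcases Int.even_or_odd' i with ⟨j, rfl | rfl⟩
      · left; rw [zpow_mul, zpow_two, mul_self_of_orderOf_two ht, one_zpow]
      · right
        rw [zpow_add, zpow_mul, zpow_two, mul_self_of_orderOf_two ht, one_zpow, zpow_one, one_mul]
  have hSC : Nat.card (Subgroup.centralizer ({(⟨t, htS⟩ : (S : Subgroup G))} : Set (S : Subgroup G))) = 4 := by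
    rw [← h4]
    exact Nat.card_congr
      { toFun := fun a => ⟨((a : (S : Subgroup G)) : G), Subgroup.mem_centralizer_singleton_iff.2
          (congrArg Subtype.val (Subgroup.mem_centralizer_singleton_iff.1 a.2))⟩
        invFun := fun a => ⟨⟨a, hCS a.2⟩, Subgroup.mem_centralizer_singleton_iff.2
          (Subtype.ext (Subgroup.mem_centralizer_singleton_iff.1 a.2))⟩
        left_inv := fun a => rfl
        right_inv := fun a => rfl }
  rcases Cfsg.Agent.S3224.result S.2 (⟨t, htS⟩ : (S : Subgroup G)) (by rwa [← Subgroup.orderOf_coe])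
    hSC with ⟨m, eS⟩ | hq | hfour
  · obtain ⟨k, σ, τ, hk, rfl, D⟩ := exists_dihedral_form S eS h8
    rcases classes_of_dihedral hns S hk eS with hone | ⟨h3, ⟨N, hN, hi⟩, hno4⟩
    · exact hnc (hone z t hz ht)
    haveI := hN
    have h := twoClass_of hcore hns D hi h3 hno4
      (Nat.le_self_pow (by omega) 2) eS ht dt
    have hcardS : ∀ S' : Sylow 2 G, 8 ≤ Nat.card (S' : Subgroup G) := fun S' => by
      rw [S'.card_eq_multiplicity, ← S.card_eq_multiplicity]; exact h8
    have ht0 : t ∉ N := fun ht0 => by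
      obtain ⟨w, hw, hwN⟩ : ∃ w : G, orderOf w = 2 ∧ w ∉ N := h.outer
      by_cases hz0 : z ∈ N
      · exact hnc (h.isConj_inner hz ht hz0 ht0)
      · -- `σ ^ m` is inner and central in `S`
        have hσz : σ ^ (2 ^ (k - 1)) ∈ N := by
          obtain ⟨c, hc⟩ := DihBlock.even D
          rw [hc, two_mul c, pow_add]
          by_cases hcN : σ ^ c ∈ N
          · exact mul_mem hcN hcN
          · exact (Subgroup.mul_mem_iff_of_index_two hi).2 (iff_of_false hcN hcN)
        exact not_isConj_of_card_lt (S := S) (fun s hs => (DihBlock.z_commute D hs).symm)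
          (fun R hR _ => (Subgroup.card_le_of_le hR).trans_lt (by omega))
          (h.isConj_inner (DihBlock.orderOf_z D) ht hσz ht0)
    have hz0 : z ∈ N := by
      by_contra hz0
      exact hnc (h.outer_conj z t hz ht hz0 ht0)
    exact h.not_card_four hns hz ht hz0 ht0 hzt.symm h4 hcardS
  · -- quasidihedral: pass to the quotient by the central involution
    have hzZ := mem_center_of_quasi hcore S hq hz ht hzS htS hzc hnc
    haveI : (Subgroup.zpowers z).Normal :=
      ⟨fun a ha g => by
        have := Subgroup.mem_center_iff.1 ((Subgroup.zpowers_le.2 hzZ) ha) g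
        rwa [this, mul_inv_cancel_right]⟩
    set Z := Subgroup.zpowers z with hZ
    set f := QuotientGroup.mk' Z with hf
    have hZ2 : Nat.card Z = 2 := by rw [hZ, Nat.card_zpowers, hz]
    have hGc : Nat.card G = Nat.card (G ⧸ Z) * 2 := by
      rw [Subgroup.card_eq_card_quotient_mul_card_subgroup Z, hZ2]
    have hns' : ¬ Group.IsSolvable (G ⧸ Z) := fun h => hns (RealClassGraph.solvable_of_normal Z
      (CIT.isSolvable_of_two (IsPGroup.of_card (n := 1) (by rw [hZ2, pow_one]))) h)
    have hker : ∀ a, f a = 1 ↔ a = 1 ∨ a = z := fun a => by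
      rw [hf, QuotientGroup.mk'_apply, QuotientGroup.eq_one_iff, hZ, Subgroup.mem_zpowers_iff]
      constructor
      · rintro ⟨i, rfl⟩
        rcases Int.even_or_odd' i with ⟨j, rfl | rfl⟩
        · left; rw [zpow_mul, zpow_two, mul_self_of_orderOf_two hz, one_zpow]
        · right
          rw [zpow_add, zpow_mul, zpow_two, mul_self_of_orderOf_two hz, one_zpow, zpow_one, one_mul]
      · rintro (rfl | rfl)
        exacts [⟨0, zpow_zero z⟩, ⟨1, zpow_one _⟩]
    have htb : orderOf (f t) = 2 := orderOf_two_of_mul_self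
      (by rw [← map_mul, mul_self_of_orderOf_two ht, map_one]) fun e => by
        rcases (hker t).1 e with e | e
        · exact ne_one_of_orderOf_two ht e
        · exact hne e.symm
    -- `t` and `t z` are conjugate in `S`
    have htz : orderOf (t * z) = 2 := orderOf_two_of_mul_self
      (by rw [hzt.mul_mul_mul_comm, mul_self_of_orderOf_two ht, mul_self_of_orderOf_two hz, one_mul])
      fun e => hne (by rw [mul_eq_one_iff_eq_inv.1 e, inv_of_orderOf_two hz])
    obtain ⟨s, hs⟩ : ∃ s : G, s * t * s⁻¹ = t * z := by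
      classical
      letI := Fintype.ofFinite (S : Subgroup G)
      have h2 := (Cfsg.Agent.S1189.result hq).1
      set α := {C : ConjClasses (S : Subgroup G) // ∃ u : (S : Subgroup G), orderOf u = 2 ∧ ConjClasses.mk u = C}
      let mk : (u : (S : Subgroup G)) → orderOf u = 2 → α := fun u hu => ⟨ConjClasses.mk u, u, hu, rfl⟩
      let zc : (S : Subgroup G) := ⟨z, hzS⟩
      let tc : (S : Subgroup G) := ⟨t, htS⟩
      let wc : (S : Subgroup G) := ⟨t * z, mul_mem htS hzS⟩
      have hzc2 : orderOf zc = 2 := by rwa [← Subgroup.orderOf_coe]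
      have htc2 : orderOf tc = 2 := by rwa [← Subgroup.orderOf_coe]
      have hwc2 : orderOf wc = 2 := by rw [← Subgroup.orderOf_coe]; exact htz
      have hmk : ∀ {a b : (S : Subgroup G)} (ha : orderOf a = 2) (hb : orderOf b = 2), mk a ha = mk b hb →
          ∃ s : G, s ∈ (S : Subgroup G) ∧ s * (a : G) * s⁻¹ = b := fun ha hb e => by
        obtain ⟨s, hs⟩ := isConj_iff.1 (ConjClasses.mk_eq_mk_iff_isConj.1 (congrArg Subtype.val e))
        exact ⟨s, s.2, congrArg Subtype.val hs⟩
      by_contra hno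
      have h3 : ({mk zc hzc2, mk tc htc2, mk wc hwc2} : Finset α).card = 3 := by
        refine Finset.card_eq_three.2 ⟨_, _, _, fun e => ?_, fun e => ?_, fun e => ?_, rfl⟩
        · obtain ⟨s, -, e'⟩ := hmk hzc2 htc2 e
          exact hnc (isConj_iff.2 ⟨s, e'⟩)
        · obtain ⟨s, hs, e'⟩ := hmk hzc2 hwc2 e
          have e'' : s * z * s⁻¹ = t * z := e'
          rw [(hzc s hs).eq, mul_inv_cancel_right] at e''
          exact ne_one_of_orderOf_two ht (mul_eq_right.1 e''.symm)
        · obtain ⟨s, -, e'⟩ := hmk htc2 hwc2 e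
          exact hno ⟨s, e'⟩
      have := Finset.card_le_univ ({mk zc hzc2, mk tc htc2, mk wc hwc2} : Finset α)
      rw [h3, ← Nat.card_eq_fintype_card, h2] at this
      omega
    -- the centraliser of the image
    have hcoset : ∀ g, g ∈ (Subgroup.centralizer ({f t} : Set (G ⧸ Z))).comap f ↔
        g * t * g⁻¹ = t ∨ g * t * g⁻¹ = t * z := fun g => by
      rw [Subgroup.mem_comap, Subgroup.mem_centralizer_singleton_iff]
      constructor
      · intro e
        have e1 : f (t⁻¹ * (g * t * g⁻¹)) = 1 := by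
          rw [map_mul, map_mul, map_mul, map_inv, map_inv, e, mul_inv_cancel_right, inv_mul_cancel]
        rcases (hker _).1 e1 with h | h
        · exact Or.inl (inv_mul_eq_one.1 h).symm
        · exact Or.inr (inv_mul_eq_iff_eq_mul.1 h)
      · intro h
        have e1 : f (g * t * g⁻¹) = f t := by
          rcases h with h | h
          · rw [h]
          · rw [h, map_mul, (hker z).2 (Or.inr rfl), mul_one]
        rw [map_mul, map_mul, map_inv] at e1
        exact mul_inv_eq_iff_eq_mul.1 e1
    have hcard : Nat.card (Subgroup.centralizer ({f t} : Set (G ⧸ Z))) = 4 := by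
      set R := (Subgroup.centralizer ({f t} : Set (G ⧸ Z))).comap f
      have h1 : Nat.card R = 2 * Nat.card (Subgroup.centralizer ({f t} : Set (G ⧸ Z))) := by
        have h := R.card_mul_index
        rw [Subgroup.index_comap_of_surjective _ (QuotientGroup.mk'_surjective Z), hGc,
          ← (Subgroup.centralizer ({f t} : Set (G ⧸ Z))).card_mul_index] at h
        refine Nat.eq_of_mul_eq_mul_right (Nat.pos_of_ne_zero
          (Subgroup.centralizer ({f t} : Set (G ⧸ Z))).index_ne_zero_of_finite) (h.trans ?_)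
        ring
      have h2 : Nat.card R = 2 * 4 := by
        rw [← h4]
        refine card_two_coset (fun g hg => (hcoset g).2 (Or.inl ?_)) (x := s⁻¹) ?_ ?_ ?_
        · rw [Subgroup.mem_centralizer_singleton_iff.1 hg, mul_inv_cancel_right]
        · exact inv_mem ((hcoset s).2 (Or.inr hs))
        · intro h
          have e := Subgroup.mem_centralizer_singleton_iff.1 (inv_mem h)
          rw [inv_inv] at e
          rw [e, mul_inv_cancel_right] at hs
          exact ne_one_of_orderOf_two hz (mul_eq_left.1 hs.symm)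
        · intro g hg
          rcases (hcoset g).1 hg with h | h
          · exact Or.inl (Subgroup.mem_centralizer_singleton_iff.2 (mul_inv_eq_iff_eq_mul.1 h))
          · refine Or.inr (Subgroup.mem_centralizer_singleton_iff.2 (mul_inv_eq_iff_eq_mul.1 ?_))
            rw [show s⁻¹ * g * t * (s⁻¹ * g)⁻¹ = s⁻¹ * (g * t * g⁻¹) * s by group, h, ← hs]
            group
      omega
    obtain ⟨S', hS'⟩ := (IsPGroup.of_card (n := 2) (by rw [hcard]; norm_num) :
      IsPGroup 2 (Subgroup.centralizer ({f t} : Set (G ⧸ Z)))).exists_le_sylow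
    have h16 : 16 ≤ Nat.card (S : Subgroup G) := by
      obtain ⟨l, hl, hcl, -⟩ := hq
      rw [hcl]
      exact le_trans (by norm_num) (Nat.pow_le_pow_right two_pos (show 4 ≤ l + 1 by omega))
    have h8' : 8 ≤ Nat.card (S' : Subgroup (G ⧸ Z)) := by
      rw [S'.card_eq_multiplicity]
      rw [S.card_eq_multiplicity, hGc, Nat.factorization_mul Nat.card_pos.ne' two_ne_zero,
        Finsupp.add_apply, Nat.prime_two.factorization_self, pow_succ] at h16
      omega
    exact ih (Nat.card (G ⧸ Z)) (by rw [← hn, hGc]; have := Nat.card_pos (α := G ⧸ Z); omega) (G ⧸ Z) rfl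
      (oddCore_quotient_invol hcore hz) hns' S' (f t) htb hS' hcard h8'
  · omega

/-- The D-group data give one of the two configurations. -/
theorem setup (hcore : oddCore G = ⊥) (hns : ¬ Group.IsSolvable G) {H A : Subgroup G} {x : G}
    (h : Hyp H A x) {t : G} (ht : t ∈ A) (ht2 : orderOf t = 2)
    (huniq : ∀ a ∈ A, a * a = 1 → a = 1 ∨ a = t) :
    OneClass G ∨ ∃ G₀ : Subgroup G, TwoClass G G₀ := by
  haveI := Fact.mk Nat.prime_two
  have hH : Subgroup.centralizer ({t} : Set G) = H := h.cent t ht ht2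
  have hAc : ∀ a ∈ A, Commute a t := fun a ha => h.comm a ha t ht
  have d : DihData t A x := ⟨ht, fun a ha => Subgroup.mem_centralizer_singleton_iff.2 (hAc a ha), h.comm,
    hH ▸ h.xmem, h.xnot, h.xsq, h.inv, fun g hg => h.cases g (hH ▸ hg), huniq⟩
  have hxt : Commute x t := Subgroup.mem_centralizer_singleton_iff.1 d.xmem
  have hx2 : orderOf x = 2 := orderOf_two_of_mul_self h.xsq fun e => h.xnot (e ▸ one_mem A)
  set C := Subgroup.centralizer ({t} : Set G) with hC
  -- a Sylow subgroup through a Sylow subgroup of `C(t)` containing `x` and `t`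
  have htx : IsPGroup 2 (Subgroup.zpowers t ⊔ Subgroup.zpowers x : Subgroup G) := by
    refine IsPGroup.to_sup_of_normal_right' ?_ ?_ ?_
    · exact IsPGroup.of_card (n := 1) (by rw [Nat.card_zpowers, ht2, pow_one])
    · exact IsPGroup.of_card (n := 1) (by rw [Nat.card_zpowers, hx2, pow_one])
    · rw [Subgroup.zpowers_le]
      have hz : ∀ a ∈ Subgroup.zpowers x, t * a * t⁻¹ = a := by
        rintro a ⟨i, rfl⟩
        rw [(hxt.zpow_left i).symm.eq, mul_inv_cancel_right]
      refine Subgroup.mem_normalizer_iff.2 fun a => ⟨fun ha => by rwa [hz a ha], fun ha => ?_⟩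
      have e := hz _ ha
      rwa [mul_left_cancel (mul_right_cancel e)] at ha
  have htxC : Subgroup.zpowers t ⊔ Subgroup.zpowers x ≤ C :=
    sup_le (Subgroup.zpowers_le.2 (Subgroup.mem_centralizer_singleton_iff.2 rfl))
      (Subgroup.zpowers_le.2 d.xmem)
  obtain ⟨Q, hQ⟩ := (IsPGroup.of_equiv htx (Subgroup.subgroupOfEquivOfLe htxC).symm :
    IsPGroup 2 ((Subgroup.zpowers t ⊔ Subgroup.zpowers x).subgroupOf C)).exists_le_sylow
  obtain ⟨S, hS⟩ := (Q.2.map C.subtype).exists_le_sylow
  have hmemS : ∀ a ∈ Subgroup.zpowers t ⊔ Subgroup.zpowers x, a ∈ (S : Subgroup G) := fun a ha =>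
    hS ⟨⟨a, htxC ha⟩, hQ ha, rfl⟩
  have htS : t ∈ (S : Subgroup G) := hmemS t (Subgroup.mem_sup_left (Subgroup.mem_zpowers t))
  have hxS : x ∈ (S : Subgroup G) := hmemS x (Subgroup.mem_sup_right (Subgroup.mem_zpowers x))
  by_cases hcen : ∀ s ∈ (S : Subgroup G), Commute s t
  · -- `S ≤ C(t)`: it is dihedral over a cyclic `S ⊓ A`
    set A2 := (S : Subgroup G) ⊓ A with hA2
    haveI : IsMulCommutative A2 := ⟨⟨fun a b => Subtype.ext (h.comm _ a.2.2 _ b.2.2)⟩⟩
    have hcyc : IsCyclic A2 := by
      by_contra hnc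
      obtain ⟨p, hp, a, ha, b, hb, hap, hbp, hb1, hab⟩ := Coprime.exists_pair_of_not_isCyclic A2 hnc
      haveI := Fact.mk hp
      have hob : orderOf b = p := orderOf_eq_prime hbp hb1
      obtain ⟨k, hk⟩ := IsPGroup.iff_orderOf.mp S.2 ⟨b, hb.1⟩
      rw [← Subgroup.orderOf_coe, hob] at hk
      obtain rfl : p = 2 := (Nat.prime_dvd_prime_iff_eq hp Nat.prime_two).1 (hp.dvd_of_dvd_pow hk.dvd)
      rw [pow_two] at hap hbp
      rcases huniq b hb.2 hbp with e | e
      · exact hb1 e
      rcases huniq a ha.2 hap with e' | e'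
      · exact hab (e' ▸ one_mem _)
      · exact hab (e'.trans e.symm ▸ Subgroup.mem_zpowers _)
    obtain ⟨⟨r, hrA2⟩, hr⟩ := hcyc.exists_generator
    have hgen : ∀ a ∈ A2, a ∈ Subgroup.zpowers r := fun a ha => by
      obtain ⟨i, hi⟩ := hr ⟨a, ha⟩
      exact ⟨i, congrArg Subtype.val hi⟩
    have hn : Nat.card A2 = orderOf r := by
      have e : A2 = Subgroup.zpowers r := le_antisymm hgen (Subgroup.zpowers_le.2 hrA2)
      rw [e, Nat.card_zpowers]
    haveI : NeZero (orderOf r) := ⟨(orderOf_pos r).ne'⟩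
    have hSc : Nat.card (S : Subgroup G) = 2 * orderOf r := by
      rw [← hn]
      refine card_two_coset inf_le_left hxS (fun e => h.xnot e.2) fun a ha => ?_
      rcases d.cases a (Subgroup.mem_centralizer_singleton_iff.2 (hcen a ha)) with e | e
      · exact Or.inl ⟨ha, e⟩
      · exact Or.inr ⟨mul_mem hxS ha, e⟩
    have eS : Nonempty ((S : Subgroup G) ≃* DihedralGroup (orderOf r)) :=
      CyclicNorm.equiv_dihedral hSc (s := ⟨r, hrA2.1⟩) (x := ⟨x, hxS⟩)
        (by rw [← Subgroup.orderOf_coe]) (Subtype.ext h.xsq)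
        (fun e => by
          obtain ⟨i, hi⟩ := Subgroup.mem_zpowers_iff.1 e
          have hi' : r ^ i = x := by simpa using congrArg Subtype.val hi
          exact h.xnot (hi' ▸ A.zpow_mem (Subgroup.mem_inf.1 hrA2).2 i))
        (Subtype.ext (h.inv r hrA2.2))
    obtain ⟨a, ha⟩ := IsPGroup.iff_card.1 S.2
    have ha2 : 2 ≤ orderOf r := by
      have htr : t ∈ Subgroup.zpowers r := hgen t ⟨htS, ht⟩
      have := Nat.le_of_dvd (orderOf_pos r) (orderOf_dvd_of_mem_zpowers htr)
      omega
    rcases Nat.lt_or_ge (orderOf r) 3 with h3' | h3'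
    · -- a Klein four Sylow subgroup
      have hr2 : orderOf r = 2 := by omega
      rw [hr2] at eS hSc
      have hKlein : IsKleinFour (S : Subgroup G) :=
        ⟨by omega, by rw [Monoid.exponent_eq_of_mulEquiv eS.some, DihedralGroup.exponent]; rfl⟩
      rcases Invol.klein_complement_or_one_class S hKlein with ⟨N, hN, hNc⟩ | hone
      · exact absurd (solvable_of_hasNormalComplement ⟨S, N, hN, hNc⟩) hns
      · exact Or.inl (oneClass_of hcore S le_rfl eS hone ht2 d)
    · obtain ⟨k, σ, τ, hk, hrk, D⟩ := exists_dihedral_form S eS (by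
        rcases a with _ | _ | _ | a
        · omega
        · omega
        · omega
        · rw [ha]; exact le_trans (by norm_num) (Nat.pow_le_pow_right two_pos (show 3 ≤ a + 3 by omega)))
      rw [hrk] at eS
      rcases classes_of_dihedral hns S hk eS with hone | ⟨h3, ⟨N, hN, hi⟩, hno4⟩
      · exact Or.inl (oneClass_of hcore S (Nat.le_self_pow (by omega) 2) eS hone ht2 d)
      · haveI := hN
        exact Or.inr ⟨N, twoClass_of hcore hns D hi h3 hno4 (Nat.le_self_pow (by omega) 2) eS ht2 d⟩
  · -- `t` is not central in `S`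
    haveI : Nontrivial (S : Subgroup G) := ⟨⟨⟨t, htS⟩, 1, fun e =>
      ne_one_of_orderOf_two ht2 (congrArg Subtype.val e)⟩⟩
    haveI := S.2.center_nontrivial
    obtain ⟨c, hc⟩ := exists_prime_orderOf_dvd_card' (G := Subgroup.center (S : Subgroup G)) 2 (by
      obtain ⟨k, hk⟩ := IsPGroup.iff_card.mp (S.2.to_subgroup (Subgroup.center (S : Subgroup G)))
      rcases k with _ | k
      · rw [pow_zero] at hk
        exact absurd hk (Nat.ne_of_gt Finite.one_lt_card)
      · rw [hk]; exact dvd_pow_self 2 (by omega))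
    set z : G := ((c : (S : Subgroup G)) : G)
    have hz : orderOf z = 2 := by rw [Subgroup.orderOf_coe, Subgroup.orderOf_coe, hc]
    have hzS : z ∈ (S : Subgroup G) := (c : (S : Subgroup G)).2
    have hzc : ∀ s ∈ (S : Subgroup G), Commute s z := fun s hs =>
      congrArg Subtype.val (Subgroup.mem_center_iff.mp c.2 ⟨s, hs⟩)
    have hne : z ≠ t := fun e => hcen fun s hs => e ▸ hzc s hs
    have hzt : Commute z t := (hzc t htS).symm
    have hzA : z ∉ A := d.not_mem_of_invol hz hne
    -- the Sylow subgroup of `C(t)` has order four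
    have hQS : (Q : Subgroup C).map C.subtype = (S : Subgroup G) ⊓ C := by
      refine (Subgroup.eq_of_le_of_card_ge (le_inf hS (Subgroup.map_subtype_le _)) ?_)
      rw [Subgroup.card_map_of_injective C.subtype_injective]
      exact IsPGroup.card_le_of_sylow Q inf_le_right (S.2.to_le inf_le_left)
    have hA2 : ∀ a ∈ (S : Subgroup G), a ∈ A → a = 1 ∨ a = t := fun a ha haA => by
      refine huniq a haA ?_
      have e := d.inv_outside hzt hzA haA
      rw [← (hzc a ha).eq, mul_inv_cancel_right] at e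
      exact eq_inv_iff_mul_eq_one.mp e
    have hcard4 : Nat.card ↥((S : Subgroup G) ⊓ C) = 4 := by
      rw [card_two_coset (K := Subgroup.zpowers t) (le_inf (Subgroup.zpowers_le.2 htS)
        (Subgroup.zpowers_le.2 (Subgroup.mem_centralizer_singleton_iff.2 rfl)))
        (⟨hxS, d.xmem⟩ : x ∈ (S : Subgroup G) ⊓ C)
        (fun e => h.xnot ((Subgroup.zpowers_le.2 ht) e)) ?_, Nat.card_zpowers, ht2]
      rintro a ⟨haS, haC⟩
      rcases d.cases a haC with e | e
      · left
        rcases hA2 a haS e with rfl | rfl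
        exacts [one_mem _, Subgroup.mem_zpowers _]
      · right
        rcases hA2 _ (mul_mem hxS haS) e with e' | e' <;> rw [e']
        exacts [one_mem _, Subgroup.mem_zpowers _]
    have hmaxR : ∀ R : Subgroup G, R ≤ C → IsPGroup 2 R → Nat.card R ≤ 4 := fun R hR hR2 => by
      refine (IsPGroup.card_le_of_sylow Q hR hR2).trans ?_
      rw [← Subgroup.card_map_of_injective C.subtype_injective, hQS, hcard4]
    have h8 : 8 ≤ Nat.card (S : Subgroup G) := by
      obtain ⟨a, ha⟩ := IsPGroup.iff_card.1 S.2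
      rcases Nat.lt_or_ge a 3 with h' | h'
      · exfalso
        refine hcen fun s hs => ?_
        have hle : Nat.card (S : Subgroup G) ≤ Nat.card ↥((S : Subgroup G) ⊓ C) := by
          rw [hcard4, ha]
          exact le_trans (Nat.pow_le_pow_right two_pos (show a ≤ 2 by omega)) le_rfl
        have := Subgroup.eq_of_le_of_card_ge inf_le_left hle
        exact Subgroup.mem_centralizer_singleton_iff.1 ((this.ge hs).2)
      · rw [ha]; exact le_trans (by norm_num) (Nat.pow_le_pow_right two_pos h')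
    have hnc : ¬ IsConj z t := not_isConj_of_card_lt (S := S) hzc fun R hR hR2 =>
      (hmaxR R hR hR2).trans_lt (by omega)
    have hSC : Nat.card (Subgroup.centralizer ({(⟨t, htS⟩ : (S : Subgroup G))} : Set (S : Subgroup G))) = 4 := by
      rw [← hcard4]
      exact Nat.card_congr
        { toFun := fun a => ⟨((a : (S : Subgroup G)) : G), (a : (S : Subgroup G)).2,
            Subgroup.mem_centralizer_singleton_iff.2
              (congrArg Subtype.val (Subgroup.mem_centralizer_singleton_iff.1 a.2))⟩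
          invFun := fun a => ⟨⟨a, a.2.1⟩, Subgroup.mem_centralizer_singleton_iff.2
            (Subtype.ext (Subgroup.mem_centralizer_singleton_iff.1 a.2.2))⟩
          left_inv := fun a => rfl
          right_inv := fun a => rfl }
    rcases Cfsg.Agent.S3224.result S.2 (⟨t, htS⟩ : (S : Subgroup G)) (by rwa [← Subgroup.orderOf_coe])
      hSC with ⟨m, eS⟩ | hq | hfour
    · obtain ⟨k, σ, τ, hk, rfl, D⟩ := exists_dihedral_form S eS h8
      rcases classes_of_dihedral hns S hk eS with hone | ⟨h3, ⟨N, hN, hi⟩, hno4⟩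
      · exact Or.inl (oneClass_of hcore S (Nat.le_self_pow (by omega) 2) eS hone ht2 d)
      · haveI := hN
        exact Or.inr ⟨N, twoClass_of hcore hns D hi h3 hno4 (Nat.le_self_pow (by omega) 2) eS ht2 d⟩
    · -- quasidihedral: `A` has order two
      exfalso
      have hzZ := mem_center_of_quasi hcore S hq hz ht2 hzS htS hzc hnc
      have hA : ∀ a ∈ A, a = 1 ∨ a = t := fun a ha => by
        refine huniq a ha ?_
        have e := d.inv_outside hzt hzA ha
        rw [← Subgroup.mem_center_iff.1 hzZ a, mul_inv_cancel_right] at e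
        exact eq_inv_iff_mul_eq_one.mp e
      have hCS : C ≤ (S : Subgroup G) := fun g hg => by
        rcases d.cases g hg with e | e
        · rcases hA g e with rfl | rfl
          exacts [one_mem _, htS]
        · rcases hA _ e with e' | e'
          · rw [eq_inv_of_mul_eq_one_right e']
            exact inv_mem hxS
          · rw [show g = x⁻¹ * t by rw [← e', inv_mul_cancel_left]]
            exact mul_mem (inv_mem hxS) htS
      refine no_small (Nat.card G) G rfl hcore hns S t ht2 hCS ?_ h8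
      rw [← hcard4, inf_eq_right.2 hCS]
    · exact absurd hfour (by omega)

end CfsgLib.DGroup
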