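import Cfsg.Agent.Lib.DGroup.Count
import Cfsg.Agent.Lib.DihBlock.Setup
import Cfsg.Agent.Lib.M12Recog.Local

/-!
# Odd cores of involution centralisers and construction of dihedral data
-/

set_option autoImplicit false
set_option linter.unusedSectionVars false
set_option linter.style.haveILetI false

namespace CfsgLib.DGroup

open Cfsg CfsgLib.Invol

variable {G : Type*} [Group G] [Finite G]

/-- An involution without fixed points on an odd subgroup inverts it. -/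
theorem inverts_fpf {O : Subgroup G} {v : G} (hv : orderOf v = 2) (hN : ∀ n ∈ O, v * n * v⁻¹ ∈ O)
    (h : ∀ n ∈ O, Commute n v → n = 1) : ∀ n ∈ O, v * n * v⁻¹ = n⁻¹ := by
  have hi := inv_of_orderOf_two hv
  rw [hi] at hN ⊢
  exact M12Recog.inverts_of_fpf (mul_self_of_orderOf_two hv) hN fun n hn e => h n hn e

theorem comm_of_inverted {O : Subgroup G} {v : G} (h : ∀ n ∈ O, v * n * v⁻¹ = n⁻¹) :
    ∀ a ∈ O, ∀ b ∈ O, a * b = b * a := fun a ha b hb => by
  have e := h _ (mul_mem ha hb)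
  rw [show v * (a * b) * v⁻¹ = (v * a * v⁻¹) * (v * b * v⁻¹) by group, h a ha, h b hb] at e
  simpa using (congrArg (·⁻¹) e).symm

/-- The odd core of an involution centraliser in a group with dihedral Sylow subgroups. -/
theorem exists_odd_core (S : Sylow 2 G) {n : ℕ} (hn : 2 ≤ n)
    (eS : Nonempty ((S : Subgroup G) ≃* DihedralGroup n)) {u : G} (hu : orderOf u = 2) :
    ∃ O : Subgroup G, (∀ a ∈ O, Odd (orderOf a) ∧ Commute a u) ∧
      (∀ a : G, Odd (orderOf a) → Commute a u → a ∈ O) ∧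
      (∀ g : G, Commute g u → ∀ a ∈ O, g * a * g⁻¹ ∈ O) ∧
      ∀ T : Subgroup G, T ≤ Subgroup.centralizer ({u} : Set G) → IsPGroup 2 T →
        (∀ R : Subgroup G, R ≤ Subgroup.centralizer ({u} : Set G) → IsPGroup 2 R →
          Nat.card R ≤ Nat.card T) →
        ∀ h : G, Commute h u → ∃ o ∈ O, ∃ t ∈ T, h = o * t := by
  haveI := Fact.mk Nat.prime_two
  obtain ⟨N, hN, hodd, k, hk⟩ := Cfsg.Agent.S0514.result S n hn eS u hu
  haveI := hN
  have hmem : ∀ {g : G}, Commute g u → g ∈ (Subgroup.centralizer ({u} : Set G)) := fun h => Subgroup.mem_centralizer_singleton_iff.2 h.eq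
  refine ⟨N.map (Subgroup.centralizer ({u} : Set G)).subtype, ?_, fun a ha hc => ⟨⟨a, hmem hc⟩,
    odd_mem_of_index_two_pow hk (y := (⟨a, hmem hc⟩ : (Subgroup.centralizer ({u} : Set G)))) (by rwa [← Subgroup.orderOf_coe]), rfl⟩, ?_, ?_⟩
  · rintro _ ⟨a, ha, rfl⟩
    refine ⟨?_, Subgroup.mem_centralizer_singleton_iff.1 a.2⟩
    rw [Subgroup.coe_subtype, Subgroup.orderOf_coe]
    exact hodd.of_dvd_nat (Subgroup.orderOf_dvd_natCard N ha)
  · rintro g hg _ ⟨a, ha, rfl⟩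
    exact ⟨⟨g, hmem hg⟩ * a * ⟨g, hmem hg⟩⁻¹, hN.conj_mem a ha _, rfl⟩
  · intro T hT hT2 hmax h hh
    have hTC : IsPGroup 2 (T.subgroupOf (Subgroup.centralizer ({u} : Set G))) :=
      IsPGroup.of_equiv hT2 (Subgroup.subgroupOfEquivOfLe hT).symm
    obtain ⟨Q, hQ⟩ := hTC.exists_le_sylow
    have hQT : (Q : Subgroup (Subgroup.centralizer ({u} : Set G))) = T.subgroupOf (Subgroup.centralizer ({u} : Set G)) := by
      refine le_antisymm ?_ hQ
      have hle : Nat.card ((Q : Subgroup (Subgroup.centralizer ({u} : Set G))).map (Subgroup.centralizer ({u} : Set G)).subtype) ≤ Nat.card T :=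
        hmax _ (Subgroup.map_subtype_le _) (Q.2.map _)
      rw [Subgroup.card_map_of_injective (Subgroup.centralizer ({u} : Set G)).subtype_injective] at hle
      exact (Subgroup.eq_of_le_of_card_ge hQ
        (by rwa [Nat.card_congr (Subgroup.subgroupOfEquivOfLe hT).toEquiv])).symm.le
    have htop : N ⊔ (Q : Subgroup (Subgroup.centralizer ({u} : Set G))) = ⊤ := by
      rw [← Subgroup.index_eq_one]
      have hQi : Nat.Coprime (2 ^ k) (Q : Subgroup (Subgroup.centralizer ({u} : Set G))).index :=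
        ((Nat.prime_two.coprime_iff_not_dvd).2 Q.not_dvd_index).pow_left _
      exact Nat.eq_one_of_dvd_coprimes hQi (hk ▸ Subgroup.index_dvd_of_le le_sup_left)
        (Subgroup.index_dvd_of_le le_sup_right)
    obtain ⟨o, ho, t, ht, e⟩ := Subgroup.mem_sup_of_normal_left.1
      (htop ▸ Subgroup.mem_top (⟨h, hmem hh⟩ : (Subgroup.centralizer ({u} : Set G))))
    exact ⟨o, ⟨o, ho, rfl⟩, t, Subgroup.mem_subgroupOf.1 (hQT ▸ ht), (congrArg Subtype.val e).symm⟩

/-- Dihedral data from an odd core `O`, a rotation `r` and a reflection `x`. -/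
theorem dihData_mk {v r x : G} {O : Subgroup G} (hvr : v ∈ Subgroup.zpowers r) (hrv : Commute r v)
    (hxv : Commute x v) (hO : ∀ a ∈ O, Odd (orderOf a) ∧ Commute a v)
    (hOc : ∀ a ∈ O, ∀ b ∈ O, a * b = b * a) (hrO : ∀ a ∈ O, Commute a r)
    (hxO : ∀ a ∈ O, x * a * x⁻¹ = a⁻¹) (hxr : x * r * x⁻¹ = r⁻¹) (hx : x * x = 1) (hx1 : x ≠ 1)
    (hxne : x ≠ v) {l : ℕ} (hrl : orderOf r = 2 ^ l)
    (hruniq : ∀ y ∈ Subgroup.zpowers r, y * y = 1 → y = 1 ∨ y = v)
    (hdec : ∀ h : G, Commute h v → ∃ o ∈ O, ∃ i : ℤ, h = o * r ^ i ∨ h = o * r ^ i * x) :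
    ∃ (A : Subgroup G), DihData v A x := by
  have hcz : ∀ a ∈ O, ∀ i : ℤ, a * r ^ i = r ^ i * a := fun a ha i => ((hrO a ha).zpow_right i).eq
  let A : Subgroup G :=
    { carrier := {a | ∃ o ∈ O, ∃ i : ℤ, a = o * r ^ i}
      one_mem' := ⟨1, one_mem O, 0, by simp⟩
      mul_mem' := by
        rintro _ _ ⟨o, ho, i, rfl⟩ ⟨o', ho', i', rfl⟩
        refine ⟨o * o', mul_mem ho ho', i + i', ?_⟩
        rw [mul_assoc o, ← mul_assoc (r ^ i), ← hcz o' ho' i, zpow_add]
        group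
      inv_mem' := by
        rintro _ ⟨o, ho, i, rfl⟩
        exact ⟨o⁻¹, inv_mem ho, -i, by rw [mul_inv_rev, ← zpow_neg, hcz _ (inv_mem ho)]⟩ }
  have hsq : ∀ a ∈ A, a * a = 1 → a = 1 ∨ a = v := by
    rintro _ ⟨o, ho, i, rfl⟩ h2
    have e : o * o = (r ^ i * r ^ i)⁻¹ := eq_inv_of_mul_eq_one_left (by
      rw [← h2, mul_assoc o (r ^ i), ← mul_assoc (r ^ i) o, ← hcz o ho i]; group)
    have h1 : o * o = 1 := by
      rw [← orderOf_eq_one_iff]
      refine Nat.eq_one_of_dvd_coprimes (a := orderOf (o * o)) (b := 2 ^ l) ?_ dvd_rfl ?_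
      · exact (Nat.coprime_two_right.2 (hO _ (mul_mem ho ho)).1).pow_right _
      · rw [e, ← hrl, orderOf_inv, ← Nat.card_zpowers r]
        exact Subgroup.orderOf_dvd_natCard _ (mul_mem (Subgroup.zpow_mem_zpowers r i)
          (Subgroup.zpow_mem_zpowers r i))
    obtain rfl := eq_one_of_odd_sq (hO o ho).1 h1
    rw [one_mul] at h2 ⊢
    exact hruniq _ (Subgroup.zpow_mem_zpowers r i) h2
  have hconj : ∀ o ∈ O, ∀ i : ℤ, x * (o * r ^ i) * x⁻¹ = (o * r ^ i)⁻¹ := by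
    intro o ho i
    rw [show x * (o * r ^ i) * x⁻¹ = x * o * x⁻¹ * (x * r ^ i * x⁻¹) by group, hxO o ho, ← conj_zpow,
      hxr, inv_zpow, ← zpow_neg, hcz _ (inv_mem ho), mul_inv_rev, zpow_neg]
  obtain ⟨iv, hiv⟩ := hvr
  refine ⟨A, ⟨⟨1, one_mem O, iv, by simpa using hiv.symm⟩, ?_, ?_,
    Subgroup.mem_centralizer_singleton_iff.2 hxv.eq, fun hA => ?_, hx, ?_, ?_, hsq⟩⟩
  · rintro _ ⟨o, ho, i, rfl⟩
    exact Subgroup.mem_centralizer_singleton_iff.2 (((hO o ho).2.mul_left (hrv.zpow_left i))).eq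
  · rintro _ ⟨o, ho, i, rfl⟩ _ ⟨o', ho', i', rfl⟩
    rw [mul_assoc o, ← mul_assoc (r ^ i), ← hcz o' ho' i, mul_assoc o', ← mul_assoc o, hOc o ho o' ho',
      mul_assoc o' (r ^ i'), ← mul_assoc (r ^ i') o, ← hcz o ho i', mul_assoc o (r ^ i'),
      ← mul_assoc o', ← zpow_add, ← zpow_add, add_comm]
  · rcases hsq x hA hx with e | e
    · exact hx1 e
    · exact hxne e
  · rintro _ ⟨o, ho, i, rfl⟩
    exact hconj o ho i
  · intro h hh
    obtain ⟨o, ho, i, rfl | rfl⟩ := hdec h (Subgroup.mem_centralizer_singleton_iff.1 hh)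
    · exact Or.inl ⟨o, ho, i, rfl⟩
    · refine Or.inr ?_
      have e := hconj o ho i
      rw [inv_eq_of_mul_eq_one_right hx] at e
      rw [← mul_assoc, e]
      exact inv_mem (show o * r ^ i ∈ A from ⟨o, ho, i, rfl⟩)

/-- The parity of a power modulo a subgroup of index two. -/
theorem pow_mem_iff_even {N : Subgroup G} (h2 : N.index = 2) {a : G} (ha : a ∉ N) (i : ℕ) :
    a ^ i ∈ N ↔ Even i := by
  induction i with
  | zero => simp
  | succ i ih =>
    rw [pow_succ, Subgroup.mul_mem_iff_of_index_two h2, iff_false_right ha, ih, Nat.even_add_one]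

end CfsgLib.DGroup
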