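import Cfsg.Agent.Lib.DGroup.Tools
import Cfsg.Agent.Lib.DGroup.Index
import Cfsg.Agent.Lib.Invol.KleinCount
import Cfsg.Agent.Lib.CyclicNorm.Dihedral

/-!
# Two classes of involutions: the subgroup of index two and the second centraliser
-/

set_option autoImplicit false
set_option linter.unusedSectionVars false
set_option linter.style.haveILetI false

namespace CfsgLib.DGroup

open Cfsg CfsgLib.Invol CfsgLib.DihBlock

variable {G : Type*} [Group G] [Finite G]

theorem solvable_of_index_two_four {N : Subgroup G} [N.Normal] (hN : Group.IsSolvable N) {k : ℕ}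
    (hk : N.index = 2 ^ k) : Group.IsSolvable G :=
  RealClassGraph.solvable_of_normal N hN
    (CIT.isSolvable_of_two (IsPGroup.of_card (n := k) (by rw [← Subgroup.index_eq_card, hk])))

theorem IsPGroup.card_le_of_sylow {C : Subgroup G} (Q : Sylow 2 C) {R : Subgroup G} (hR : R ≤ C)
    (hR2 : IsPGroup 2 R) : Nat.card R ≤ Nat.card (Q : Subgroup C) := by
  haveI := Fact.mk Nat.prime_two
  obtain ⟨Q', hQ'⟩ := (IsPGroup.of_equiv hR2 (Subgroup.subgroupOfEquivOfLe hR).symm :
    IsPGroup 2 (R.subgroupOf C)).exists_le_sylow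
  calc Nat.card R = Nat.card (R.subgroupOf C) :=
        (Nat.card_congr (Subgroup.subgroupOfEquivOfLe hR).toEquiv).symm
    _ ≤ Nat.card (Q' : Subgroup C) := Subgroup.card_le_of_le hQ'
    _ = _ := Q'.card_eq_multiplicity.trans Q.card_eq_multiplicity.symm

variable {P : Sylow 2 G} {σ k : G} {m : ℕ} {N : Subgroup G}

section

variable (D : Data P σ k m) (hi : N.index = 2) (hσ : σ ∉ N) (hk : k ∈ N)
include D hi hσ hk

theorem refl_mem_inner_iff (i : ℕ) : σ ^ i * k ∈ N ↔ Even i := by
  rw [N.mul_mem_cancel_right hk, pow_mem_iff_even hi hσ]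

theorem z_mem_inner : σ ^ m ∈ N :=
  (pow_mem_iff_even hi hσ m).2 (even_iff_two_dvd.2 (DihBlock.even D))

theorem outer_refl_not_mem : σ * k ∉ N := fun e => hσ ((N.mul_mem_cancel_right hk).1 e)

/-- The Sylow subgroup of the index two subgroup. -/
theorem exists_sylow_inner : ∃ S : Sylow 2 N, (S : Subgroup N) = (P : Subgroup G).subgroupOf N ∧
    Nonempty ((S : Subgroup N) ≃* DihedralGroup m) ∧ Nat.card (S : Subgroup N) = 2 * m ∧
      Nat.card N = 2 * m * (P : Subgroup G).index := by
  haveI := Fact.mk Nat.prime_two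
  have hm2 := two_le D
  set P0 : Subgroup N := (P : Subgroup G).subgroupOf N
  have hc0 : Nat.card P0 = 2 * m := by
    have h2 := card_two_coset (H := (P : Subgroup G)) (K := (P : Subgroup G) ⊓ N) inf_le_left D.memσ
      (fun e => hσ e.2) fun a ha => (mem_or_mul_mem hi hσ a).imp (fun e => ⟨ha, e⟩)
        fun e => ⟨mul_mem D.memσ ha, e⟩
    rw [D.card] at h2
    have e : Nat.card P0 = Nat.card ↥((P : Subgroup G) ⊓ N) := by
      rw [← Subgroup.card_map_of_injective N.subtype_injective, Subgroup.subgroupOf_map_subtype]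
    omega
  have hN : Nat.card N = 2 * m * (P : Subgroup G).index := by
    have h1 := N.card_mul_index
    have h2 := (P : Subgroup G).card_mul_index
    rw [hi] at h1
    rw [D.card] at h2
    have h3 : 4 * m * (P : Subgroup G).index = 2 * (2 * m * (P : Subgroup G).index) := by ring
    omega
  have hidx : P0.index = (P : Subgroup G).index := by
    have h := P0.card_mul_index
    rw [hc0, hN] at h
    exact Nat.eq_of_mul_eq_mul_left (by omega) h
  have hP0 : IsPGroup 2 P0 := P.2.comap_of_injective N.subtype N.subtype_injective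
  refine ⟨hP0.toSylow (hidx ▸ P.not_dvd_index), IsPGroup.toSylow_coe _ _, ?_, ?_, hN⟩
  · rw [IsPGroup.toSylow_coe]
    haveI : NeZero m := ⟨by omega⟩
    let s : P0 := ⟨⟨σ ^ 2, (pow_mem_iff_even hi hσ 2).2 even_two⟩, pow_mem D.memσ 2⟩
    let x : P0 := ⟨⟨k, hk⟩, D.memτ⟩
    refine CyclicNorm.equiv_dihedral hc0 (s := s) (x := x) ?_ (Subtype.ext (Subtype.ext D.sqτ)) ?_ ?_
    · rw [← Subgroup.orderOf_coe, ← Subgroup.orderOf_coe]
      show orderOf (σ ^ 2) = m
      rw [orderOf_pow' σ two_ne_zero, D.ordσ, Nat.gcd_mul_right_left, Nat.mul_div_cancel_left _ two_pos]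
    · intro hx
      obtain ⟨i, e⟩ := Subgroup.mem_zpowers_iff.1 hx
      have e' : (σ ^ 2) ^ i = k := by simpa [s, x] using congrArg (fun y : P0 => ((y : N) : G)) e
      exact tau_not_mem D (e' ▸ zpow_mem (pow_mem (Subgroup.mem_zpowers σ) 2) i)
    · exact Subtype.ext (Subtype.ext (tau_conj_pow D 2))
  · rw [IsPGroup.toSylow_coe]; exact hc0

/-- The inner subgroup has one class of involutions. -/
theorem one_inner [N.Normal] (hns : ¬ Group.IsSolvable G)
    (h4 : ∀ M : Subgroup G, M.Normal → M.index ≠ 4) :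
    ∀ s t : N, orderOf s = 2 → orderOf t = 2 → IsConj s t := by
  haveI := Fact.mk Nat.prime_two
  obtain ⟨S, -, eS, -, hN⟩ := exists_sylow_inner D hi hσ hk
  have hnsN : ¬ Group.IsSolvable N := fun h => hns (solvable_of_index_two_four h (k := 1) (by simpa using hi))
  obtain ⟨l, hl, rfl⟩ := D.pow_two
  rcases Nat.lt_or_ge l 2 with h1 | h1
  · obtain rfl : l = 1 := by omega
    have hodd : Odd (P : Subgroup G).index := by
      rw [← Nat.not_even_iff_odd, even_iff_two_dvd]; exact P.not_dvd_index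
    haveI := Fintype.ofFinite N
    refine (Invol.klein_of_order hodd (by rw [hN]; ring) ?_ S).2
    rintro ⟨K, hK, hKc⟩
    haveI := hK
    refine hnsN (solvable_of_index_two_four (Cfsg.Agent.S0205.result (hKc ▸ hodd)) (k := 2) ?_)
    have h := K.card_mul_index
    rw [hKc, hN] at h
    exact Nat.eq_of_mul_eq_mul_left hodd.pos (by rw [h]; ring)
  · rcases classes_of_dihedral hnsN S h1 eS with h | ⟨-, ⟨M, hM, hMi⟩, hM4⟩
    · exact h
    exfalso
    haveI := hM
    have huniq : ∀ M' : Subgroup N, M'.Normal → M'.index = 2 → M' = M := by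
      intro M' hM' hMi'
      by_contra hne
      haveI := hM'
      refine hM4 (M' ⊓ M) inferInstance ?_
      have h1 := Subgroup.relIndex_mul_index (inf_le_left : M' ⊓ M ≤ M')
      rw [Subgroup.inf_relIndex_left, hMi'] at h1
      have hsup : M' ⊔ M = ⊤ := by
        rw [← Subgroup.index_eq_one]
        have hd := Subgroup.index_dvd_of_le (le_sup_left : M' ≤ M' ⊔ M)
        rw [hMi'] at hd
        rcases (Nat.dvd_prime Nat.prime_two).1 hd with e | e
        · exact e
        · exfalso
          refine hne (le_antisymm ?_ ?_)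
          · have := Subgroup.eq_of_le_of_card_ge (le_sup_right : M ≤ M' ⊔ M) (by
              have a1 := (M' ⊔ M).card_mul_index
              have a2 := M.card_mul_index
              rw [e] at a1; rw [hMi] at a2; omega)
            exact le_sup_left.trans this.ge
          · have := Subgroup.eq_of_le_of_card_ge (le_sup_left : M' ≤ M' ⊔ M) (by
              have a1 := (M' ⊔ M).card_mul_index
              have a2 := M'.card_mul_index
              rw [e] at a1; rw [hMi'] at a2; omega)
            exact le_sup_right.trans this.ge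
      have h3 : M.relIndex M' = 2 := by
        rw [← Subgroup.relIndex_sup_right (H := M') (K := M), hsup, Subgroup.relIndex_top_right]
        exact hMi
      rw [h3] at h1
      exact h1.symm
    haveI : M.Characteristic := Subgroup.characteristic_iff_map_eq.2 fun φ =>
      huniq _ (hM.map φ.toMonoidHom φ.surjective) ((Subgroup.index_map_equiv M φ).trans hMi)
    refine h4 (M.map N.subtype) ConjAct.normal_of_characteristic_of_normal ?_
    rw [Subgroup.index_map_subtype, hMi, hi]

/-- The odd core of `C(j)` and its dihedral data, from the data at `z`. -/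
theorem outer_data {n : ℕ} (hn : 2 ≤ n) (eP : Nonempty ((P : Subgroup G) ≃* DihedralGroup n))
    [N.Normal] {A : Subgroup G} {x : G} (d : DihData (σ ^ m) A x) :
    ∃ A' : Subgroup G, DihData (σ * k) A' (σ ^ m) := by
  haveI := Fact.mk Nat.prime_two
  set z := σ ^ m with hzd
  set j := σ * k with hjd
  have hz : orderOf z = 2 := orderOf_z D
  have hj : orderOf j = 2 := by simpa [hjd] using orderOf_refl D 1
  have hjP : j ∈ (P : Subgroup G) := mul_mem D.memσ D.memτ
  have hjN : j ∉ N := outer_refl_not_mem D hi hσ hk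
  have hjz : Commute j z := (z_commute D hjP).symm
  have hne : j ≠ z := fun e => hjN (by rw [e]; exact z_mem_inner D hi hσ hk)
  obtain ⟨O, hO, -, hOconj, hdec⟩ := exists_odd_core P hn eP hj
  have hfix : ∀ a ∈ O, z * a * z⁻¹ = a⁻¹ := inverts_fpf hz (hOconj z hjz.symm) fun a ha hc => by
    have e := d.inv_outside hjz (d.not_mem_of_invol hj hne) (d.odd_mem (hO a ha).1 hc)
    rw [← (hO a ha).2.eq, mul_inv_cancel_right] at e
    exact eq_one_of_odd_sq (hO a ha).1 (eq_inv_iff_mul_eq_one.mp e)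
  have hj2 := mul_self_of_orderOf_two hj
  set T : Subgroup G := (P : Subgroup G) ⊓ Subgroup.centralizer ({j} : Set G) with hT
  have hmax : ∀ g : G, g * j * g⁻¹ ∈ (P : Subgroup G) →
      Nat.card ↥((P : Subgroup G) ⊓ Subgroup.centralizer ({g * j * g⁻¹} : Set G)) ≤ Nat.card T := by
    intro g hg
    have hout : g * j * g⁻¹ ∉ N := fun e => hjN (by
      simpa [mul_assoc] using Subgroup.Normal.conj_mem inferInstance _ e g⁻¹)
    obtain ⟨i, e | e⟩ := D.cases _ hg
    · exfalso
      have h2 := conj_orderOf_two hj g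
      rw [e] at h2 hout
      have hsq := mul_self_of_orderOf_two h2
      rw [← pow_add, pow_eq_one_iff D] at hsq
      obtain ⟨c, hc⟩ := hsq
      refine hout ((pow_mem_iff_even hi hσ i).2 ?_)
      rw [show i = m * c by linarith [Nat.mul_assoc 2 m c]]
      exact (even_iff_two_dvd.2 (DihBlock.even D)).mul_right c
    · rw [e, card_centralizer_refl D i, hT, hjd,
        show σ * k = σ ^ 1 * k by rw [pow_one], card_centralizer_refl D 1]
  obtain ⟨Q, hQ⟩ := exists_sylow_centralizer D hjP hmax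
  have hTR : ∀ R : Subgroup G, R ≤ Subgroup.centralizer ({j} : Set G) → IsPGroup 2 R →
      Nat.card R ≤ Nat.card T := fun R hR hR2 => by
    rw [hT, ← hQ, Subgroup.card_map_of_injective (Subgroup.subtype_injective _)]
    exact IsPGroup.card_le_of_sylow Q hR hR2
  have hTcases : ∀ t ∈ T, t = 1 ∨ t = z ∨ t = j ∨ t = z * j := by
    intro t ht
    simpa [hjd] using centralizer_refl D 1 t (by simpa [hT, hjd] using ht)
  refine dihData_mk (r := j) (l := 1) (Subgroup.mem_zpowers j) (Commute.refl j) hjz.symm hO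
    (comm_of_inverted hfix) (fun a ha => (hO a ha).2) hfix ?_ (z_mul_self D) (ne_one_of_orderOf_two hz)
    (Ne.symm hne) (by simpa using hj) ?_ ?_
  · rw [inv_of_orderOf_two hj, ← hjz.eq, mul_inv_cancel_right]
  · intro y hy _
    obtain ⟨i, rfl⟩ := Subgroup.mem_zpowers_iff.1 hy
    rcases Int.even_or_odd' i with ⟨c, rfl | rfl⟩
    · left; rw [zpow_mul, zpow_two, hj2, one_zpow]
    · right; rw [zpow_add, zpow_mul, zpow_two, hj2, one_zpow, zpow_one, one_mul]
  · intro h hh
    obtain ⟨o, ho, t, ht, rfl⟩ := hdec T inf_le_right (P.2.to_le inf_le_left) hTR h hh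
    refine ⟨o, ho, ?_⟩
    rcases hTcases t ht with rfl | rfl | rfl | rfl
    · exact ⟨0, Or.inl (by simp)⟩
    · exact ⟨0, Or.inr (by simp)⟩
    · exact ⟨1, Or.inl (by simp)⟩
    · exact ⟨1, Or.inr (by rw [zpow_one, mul_assoc, hjz.eq])⟩

/-- The dihedral data at `z`, from the data at `j`. -/
theorem inner_data {n : ℕ} (hn : 2 ≤ n) (eP : Nonempty ((P : Subgroup G) ≃* DihedralGroup n))
    [N.Normal] (hcore : oddCore G = ⊥) (hone : ∀ s t : N, orderOf s = 2 → orderOf t = 2 → IsConj s t)
    {A : Subgroup G} {x : G} (d : DihData (σ * k) A x) :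
    ∃ A' : Subgroup G, DihData (σ ^ m) A' k := by
  haveI := Fact.mk Nat.prime_two
  set z := σ ^ m with hzd
  set j := σ * k with hjd
  have hz : orderOf z = 2 := orderOf_z D
  have hzN : z ∈ N := z_mem_inner D hi hσ hk
  have hk2 : orderOf k = 2 := orderOf_tau D
  have hj : orderOf j = 2 := by simpa [hjd] using orderOf_refl D 1
  have hjP : j ∈ (P : Subgroup G) := mul_mem D.memσ D.memτ
  have hjN : j ∉ N := outer_refl_not_mem D hi hσ hk
  have hjz : Commute j z := (z_commute D hjP).symm
  have hkz : Commute k z := (z_commute D D.memτ).symm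
  have hσz : Commute σ z := (z_commute D D.memσ).symm
  have hne : z ≠ j := fun e => hjN (by rw [← e]; exact hzN)
  have hj2 := mul_self_of_orderOf_two hj
  have hki : k⁻¹ = k := inv_of_orderOf_two hk2
  obtain ⟨O, hO, hOmem, hOconj, hdec⟩ := exists_odd_core P hn eP hz
  have hfix : ∀ a ∈ O, j * a * j⁻¹ = a⁻¹ := inverts_fpf hj (hOconj j hjz) fun a ha hc => by
    have e := d.inv_outside hjz.symm (d.not_mem_of_invol hz hne) (d.odd_mem (hO a ha).1 hc)
    rw [← (hO a ha).2.eq, mul_inv_cancel_right] at e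
    exact eq_one_of_odd_sq (hO a ha).1 (eq_inv_iff_mul_eq_one.mp e)
  have hOc := comm_of_inverted hfix
  have hdecP : ∀ h, Commute h z → ∃ o ∈ O, ∃ t ∈ (P : Subgroup G), h = o * t :=
    hdec P (sylow_le_centralizer_z D) P.2 fun R _ hR2 => by
      obtain ⟨Q, hQ⟩ := hR2.exists_le_sylow
      exact (Subgroup.card_le_of_le hQ).trans_eq (Q.card_eq_multiplicity.trans P.card_eq_multiplicity.symm)
  -- `σ = j k`, so `σ` acts on `O` as inversion composed with `k`
  have hσjk : σ = j * k := by rw [hjd, mul_assoc, D.sqτ, mul_one]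
  have hσact : ∀ a ∈ O, σ * a * σ⁻¹ = (k * a * k⁻¹)⁻¹ := fun a ha => by
    rw [hσjk, show j * k * a * (j * k)⁻¹ = j * (k * a * k⁻¹) * j⁻¹ by group,
      hfix _ (hOconj k hkz a ha)]
  have hsq : ∀ a ∈ O, ∀ i : ℕ, Even i → σ ^ i * a * (σ ^ i)⁻¹ = a := by
    rintro a ha i ⟨c, rfl⟩
    induction c with
    | zero => simp
    | succ c ih =>
      rw [show c + 1 + (c + 1) = c + c + 2 by omega, pow_add, pow_two]
      have h2 : σ * (σ * a * σ⁻¹) * σ⁻¹ = a := by
        rw [hσact a ha, hσact _ (inv_mem (hOconj k hkz a ha)), conj_inv, inv_inv, hki]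
        rw [show k * (k * a * k) * k = (k * k) * a * (k * k) by group, D.sqτ, one_mul, mul_one]
      rw [show σ ^ (c + c) * (σ * σ) * a * (σ ^ (c + c) * (σ * σ))⁻¹ =
        σ ^ (c + c) * (σ * (σ * a * σ⁻¹) * σ⁻¹) * (σ ^ (c + c))⁻¹ by group, h2, ih]
  -- every element of `P ∩ N` acts on `O` as `1` or as `k`
  have hPN : ∀ t ∈ (P : Subgroup G), t ∈ N →
      (t ∈ Subgroup.zpowers σ ∧ ∀ a ∈ O, t * a * t⁻¹ = a) ∨
        ∀ a ∈ O, t * a * t⁻¹ = k * a * k⁻¹ := by
    intro t ht htN
    obtain ⟨i, rfl | rfl⟩ := D.cases t ht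
    · exact Or.inl ⟨pow_mem (Subgroup.mem_zpowers σ) i, fun a ha =>
        hsq a ha i ((pow_mem_iff_even hi hσ i).1 htN)⟩
    · refine Or.inr fun a ha => ?_
      rw [show σ ^ i * k * a * (σ ^ i * k)⁻¹ = σ ^ i * (k * a * k⁻¹) * (σ ^ i)⁻¹ by group,
        hsq _ (hOconj k hkz a ha) i ((refl_mem_inner_iff D hi hσ hk i).1 htN)]
  -- `D₀ = C_O(k)` and its normaliser in `N`
  set D₀ : Subgroup G := O ⊓ Subgroup.centralizer ({k} : Set G) with hD₀
  have hD₀k : ∀ a ∈ D₀, k * a * k⁻¹ = a := fun a ha => by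
    rw [← (Subgroup.mem_centralizer_singleton_iff.1 ha.2), mul_inv_cancel_right]
  have hNodd : ∀ a ∈ O, a ∈ N := fun a ha => CyclicNorm.odd_mem_of_index_two hi (hO a ha).1
  have hcentN : ∀ g : G, Commute g z → g ∈ N → ∀ a ∈ D₀, g * a * g⁻¹ = a := by
    intro g hg hgN a ha
    obtain ⟨o, ho, t, ht, rfl⟩ := hdecP g hg
    have hta : t * a * t⁻¹ = a := by
      rcases hPN t ht ((N.mul_mem_cancel_left (hNodd o ho)).1 hgN) with ⟨-, h⟩ | h
      · exact h a ha.1
      · rw [h a ha.1, hD₀k a ha]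
    rw [show o * t * a * (o * t)⁻¹ = o * (t * a * t⁻¹) * o⁻¹ by group, hta, hOc o ho a ha.1,
      mul_inv_cancel_right]
  have hD₀bot : D₀ = ⊥ := by
    by_contra hne0
    obtain ⟨a, ha, ha1⟩ := (Subgroup.bot_or_exists_ne_one D₀).resolve_left hne0
    set M : Subgroup N := (Subgroup.normalizer (D₀ : Set G)).subgroupOf N
    have hnorm : ∀ g : G, (∀ b ∈ D₀, g * b * g⁻¹ ∈ D₀) → g ∈ Subgroup.normalizer (D₀ : Set G) := by
      intro g hg
      let f : D₀ → D₀ := fun b => ⟨g * b * g⁻¹, hg b b.2⟩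
      have hf : Function.Injective f := fun b c e => Subtype.ext (by simpa [f] using congrArg Subtype.val e)
      refine Subgroup.mem_normalizer_iff.2 fun b => ⟨hg b, fun hb => ?_⟩
      obtain ⟨c, hc⟩ := Finite.surjective_of_injective hf ⟨_, hb⟩
      have e : g * (c : G) * g⁻¹ = g * b * g⁻¹ := congrArg Subtype.val hc
      exact mul_left_cancel (mul_right_cancel e) ▸ c.2
    have hC : Subgroup.centralizer ({(⟨z, hzN⟩ : N)} : Set N) ≤ M := fun g hg =>
      hnorm _ fun b hb => by
        show (g : G) * b * (g : G)⁻¹ ∈ D₀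
        rw [hcentN g (congrArg Subtype.val (Subgroup.mem_centralizer_singleton_iff.1 hg)) g.2 b hb]
        exact hb
    obtain ⟨S, hS, eS, -, -⟩ := exists_sylow_inner D hi hσ hk
    have hSM : (S : Subgroup N) ≤ M := fun y hy => hC (Subgroup.mem_centralizer_singleton_iff.2
      (Subtype.ext (z_commute D (show (y : G) ∈ (P : Subgroup G) from by
        rw [hS] at hy; exact hy)).symm.eq))
    -- every involution of `M` is conjugate to `z` in `M`
    have honez : ∀ s ∈ M, orderOf s = 2 → ∃ g ∈ M, g * s * g⁻¹ = (⟨z, hzN⟩ : N) := by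
      intro s hs hs2
      have hsp : IsPGroup 2 (Subgroup.zpowers (⟨s, hs⟩ : M)) := IsPGroup.of_card (n := 1) (by
        rw [pow_one, Nat.card_zpowers, ← Subgroup.orderOf_coe]; exact hs2)
      obtain ⟨Q, hQ⟩ := hsp.exists_le_sylow
      obtain ⟨c, hc⟩ := MulAction.exists_smul_eq M Q (S.subtype hSM)
      set r : M := c * ⟨s, hs⟩ * c⁻¹
      have hr : ((r : N) : G) ∈ (P : Subgroup G) := by
        have hmem : r ∈ (c • Q : Sylow 2 M) := by
          rw [← SetLike.mem_coe, Sylow.coe_smul]
          exact ⟨_, hQ (Subgroup.mem_zpowers _), rfl⟩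
        rw [hc] at hmem
        have h' : (r : N) ∈ (S : Subgroup N) := hmem
        rw [hS] at h'
        exact h'
      have hr2 : orderOf ((r : N) : G) = 2 := by
        rw [Subgroup.orderOf_coe, Subgroup.orderOf_coe]
        exact conj_orderOf_two (by rwa [← Subgroup.orderOf_coe]) c
      suffices h : ∃ g ∈ M, g * (r : N) * g⁻¹ = (⟨z, hzN⟩ : N) by
        obtain ⟨g, hg, e⟩ := h
        refine ⟨g * c, mul_mem hg c.2, ?_⟩
        rw [← e]
        simp only [r, Subgroup.coe_mul, Subgroup.coe_inv]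
        group
      by_cases hrz : ((r : N) : G) = z
      · exact ⟨1, one_mem _, Subtype.ext (by simpa using hrz)⟩
      -- `r` is a reflection: it acts on `O` as `k`
      have hrN : ((r : N) : G) ∈ N := (r : N).2
      have hrk : ∀ b ∈ O, ((r : N) : G) * b * ((r : N) : G)⁻¹ = k * b * k⁻¹ := by
        rcases hPN _ hr hrN with ⟨hrot, -⟩ | h
        · exfalso
          obtain ⟨i, hi'⟩ := (mem_powers_iff_mem_zpowers (x := σ)).2 hrot
          simp only at hi'
          have hsq' := mul_self_of_orderOf_two hr2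
          rw [← hi', ← pow_add, pow_eq_one_iff D] at hsq'
          obtain ⟨c', hc'⟩ := hsq'
          have hi2 : i = m * c' := by linarith [Nat.mul_assoc 2 m c']
          rcases Nat.even_or_odd' c' with ⟨e', rfl | rfl⟩
          · refine ne_one_of_orderOf_two hr2 ?_
            rw [← hi', hi2, pow_eq_one_iff D]
            exact ⟨e', by ring⟩
          · refine hrz ?_
            rw [← hi', hi2, hzd, pow_eq_pow_iff D, show m * (2 * e' + 1) = m + 2 * m * e' by ring,
              Nat.add_mul_mod_self_left]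
        · exact h
      obtain ⟨g, hg⟩ := isConj_iff.1 (hone (r : N) ⟨z, hzN⟩ (by rwa [← Subgroup.orderOf_coe])
        (by rwa [← Subgroup.orderOf_coe]))
      refine ⟨g, hnorm g fun b hb => ?_, hg⟩
      have hbr : Commute b ((r : N) : G) := by
        have h1 := (hrk b hb.1).trans (hD₀k b hb)
        exact (mul_inv_eq_iff_eq_mul.1 h1).symm
      have hbz : Commute b z := (hO b hb.1).2
      have hg' : (g : G) * ((r : N) : G) * (g : G)⁻¹ = z := congrArg Subtype.val hg
      set w := (g : G) * z * (g : G)⁻¹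
      have hb' : Commute ((g : G) * b * (g : G)⁻¹) z := by
        rw [← hg']; exact hbr.map (MulAut.conj (g : G)).toMonoidHom
      have hbw : Commute ((g : G) * b * (g : G)⁻¹) w := hbz.map (MulAut.conj (g : G)).toMonoidHom
      have hbO : (g : G) * b * (g : G)⁻¹ ∈ O := hOmem _ (by
        rw [show orderOf ((g : G) * b * (g : G)⁻¹) = orderOf b from
          (MulAut.conj (g : G)).orderOf_eq b]; exact (hO b hb.1).1) hb'
      refine ⟨hbO, Subgroup.mem_centralizer_singleton_iff.2 ?_⟩
      have hwz : Commute w z := by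
        have h := ((z_commute D hr).map (MulAut.conj (g : G)).toMonoidHom)
        simp only [MulEquiv.coe_toMonoidHom, MulAut.conj_apply, hg'] at h
        exact h
      have hwN : w ∈ N := Subgroup.Normal.conj_mem inferInstance z hzN _
      have hw2 : orderOf w = 2 := conj_orderOf_two hz _
      have hwne : w ≠ z := fun e => hrz (by
        have := e.trans hg'.symm
        exact (mul_left_cancel (mul_right_cancel this)).symm)
      obtain ⟨o, ho, t, ht, hwt⟩ := hdecP w hwz
      rcases hPN t ht ((N.mul_mem_cancel_left (hNodd o ho)).1 (hwt ▸ hwN)) with ⟨htr, ht'⟩ | ht'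
      · exfalso
        obtain ⟨i, rfl⟩ := (mem_powers_iff_mem_zpowers (x := σ)).2 htr
        simp only at hwt ht'
        have hot : Commute o (σ ^ i) := (mul_inv_eq_iff_eq_mul.1 (ht' o ho)).symm
        have hsq' := mul_self_of_orderOf_two hw2
        rw [hwt, hot.symm.mul_mul_mul_comm, ← pow_add] at hsq'
        have ho1 : o = 1 := eq_one_of_odd_sq (hO o ho).1 (by
          rw [← orderOf_eq_one_iff]
          refine Nat.eq_one_of_dvd_coprimes (a := orderOf (o * o)) (b := 2 * m) ?_ dvd_rfl ?_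
          · obtain ⟨l, -, rfl⟩ := D.pow_two
            rw [← pow_succ']
            exact (Nat.coprime_two_right.2 (hO _ (mul_mem ho ho)).1).pow_right _
          · rw [eq_inv_of_mul_eq_one_left hsq', orderOf_inv, ← D.ordσ]
            exact orderOf_pow_dvd _)
        subst ho1
        rw [one_mul] at hwt hsq'
        rw [one_mul, pow_eq_one_iff D] at hsq'
        obtain ⟨c', hc'⟩ := hsq'
        have hi2 : i = m * c' := by linarith [Nat.mul_assoc 2 m c']
        rcases Nat.even_or_odd' c' with ⟨e', rfl | rfl⟩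
        · refine ne_one_of_orderOf_two hw2 ?_
          rw [hwt, hi2, pow_eq_one_iff D]
          exact ⟨e', by ring⟩
        · refine hwne ?_
          rw [hwt, hi2, hzd, pow_eq_pow_iff D, show m * (2 * e' + 1) = m + 2 * m * e' by ring,
            Nat.add_mul_mod_self_left]
      · -- `w = o t` centralises the conjugate, and `t` acts as `k`
        set b' := (g : G) * b * (g : G)⁻¹
        have e : w * b' * w⁻¹ = b' := by rw [← hbw.eq, mul_inv_cancel_right]
        rw [hwt, show o * t * b' * (o * t)⁻¹ = o * (t * b' * t⁻¹) * o⁻¹ by group, ht' _ hbO,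
          hOc o ho _ (hOconj k hkz _ hbO), mul_inv_cancel_right] at e
        exact (mul_inv_eq_iff_eq_mul.1 e).symm
    have hone' : ∀ s ∈ M, ∀ t ∈ M, orderOf s = 2 → orderOf t = 2 → ∃ g ∈ M, g * s * g⁻¹ = t := by
      intro s hs t ht hs2 ht2
      obtain ⟨g, hg, e⟩ := honez s hs hs2
      obtain ⟨g', hg', e'⟩ := honez t ht ht2
      refine ⟨g'⁻¹ * g, mul_mem (inv_mem hg') hg, ?_⟩
      rw [show g'⁻¹ * g * s * (g'⁻¹ * g)⁻¹ = g'⁻¹ * (g * s * g⁻¹) * g' by group, e, ← e']
      group
    have htop : M = ⊤ := eq_top_of_one_class (oddCore_normal_eq_bot hcore N) S (two_le D) eS hone M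
      (v := (⟨z, hzN⟩ : N)) (by rwa [← Subgroup.orderOf_coe]) hC hone'
      (a := (⟨a, hNodd a ha.1⟩ : N)) (fun e => ha1 (congrArg Subtype.val e))
      (by rw [← Subgroup.orderOf_coe]; exact (hO a ha.1).1) (Subtype.ext (hO a ha.1).2.eq)
    have hjn : j ∈ Subgroup.normalizer (D₀ : Set G) := hnorm j fun b hb => by
      rw [hfix b hb.1]; exact inv_mem hb
    have hall : ∀ g : G, g ∈ Subgroup.normalizer (D₀ : Set G) := by
      intro g
      rcases mem_or_mul_mem hi hjN g with h | h
      · have : (⟨g, h⟩ : N) ∈ M := htop ▸ Subgroup.mem_top _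
        exact this
      · have : (⟨j * g, h⟩ : N) ∈ M := htop ▸ Subgroup.mem_top _
        exact (Subgroup.mul_mem_cancel_left _ hjn).1 this
    haveI : D₀.Normal := Subgroup.normalizer_eq_top_iff.1 (Subgroup.eq_top_iff' _ |>.2 hall)
    have := eq_bot_of_odd_normal hcore D₀ ?_
    · exact hne0 this
    · rw [← Nat.not_even_iff_odd, even_iff_two_dvd]
      intro h2
      obtain ⟨b, hb⟩ := exists_prime_orderOf_dvd_card' 2 h2
      have := (hO (b : G) b.2.1).1
      rw [Subgroup.orderOf_coe, hb] at this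
      exact absurd this (by decide)
  -- hence `k` inverts `O` and `σ` centralises it
  have hkfix : ∀ a ∈ O, k * a * k⁻¹ = a⁻¹ := inverts_fpf hk2 (hOconj k hkz) fun a ha hc => by
    have h : a ∈ D₀ := ⟨ha, Subgroup.mem_centralizer_singleton_iff.2 hc.eq⟩
    rw [hD₀bot] at h
    exact h
  have hσO : ∀ a ∈ O, Commute a σ := fun a ha => by
    have e := hσact a ha
    rw [hkfix a ha, inv_inv] at e
    exact (mul_inv_eq_iff_eq_mul.1 e).symm
  obtain ⟨l, -, hl⟩ := D.pow_two
  refine dihData_mk (r := σ) (l := l + 1) (pow_mem (Subgroup.mem_zpowers σ) m) hσz hkz hO hOc hσO hkfix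
    D.rel D.sqτ (ne_one_of_orderOf_two hk2)
    (fun e => tau_not_mem D (e.symm ▸ pow_mem (Subgroup.mem_zpowers σ) m))
    (by rw [D.ordσ, hl, pow_succ']) ?_ ?_
  · intro y hy hy2
    obtain ⟨i, rfl⟩ := (mem_powers_iff_mem_zpowers (x := σ)).2 hy
    simp only at hy2 ⊢
    rw [← pow_add, pow_eq_one_iff D] at hy2
    obtain ⟨c', hc'⟩ := hy2
    have hi2 : i = m * c' := by linarith [Nat.mul_assoc 2 m c']
    rcases Nat.even_or_odd' c' with ⟨e', rfl | rfl⟩
    · left; rw [hi2, pow_eq_one_iff D]; exact ⟨e', by ring⟩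
    · right
      rw [hi2, hzd, pow_eq_pow_iff D, show m * (2 * e' + 1) = m + 2 * m * e' by ring,
        Nat.add_mul_mod_self_left]
  · intro h hh
    obtain ⟨o, ho, t, ht, rfl⟩ := hdecP h hh
    refine ⟨o, ho, ?_⟩
    obtain ⟨i, rfl | rfl⟩ := D.cases t ht
    · exact ⟨(i : ℤ), Or.inl (by rw [zpow_natCast])⟩
    · exact ⟨(i : ℤ), Or.inr (by rw [zpow_natCast, mul_assoc])⟩

end

/-- Two classes of involutions and dihedral data at one involution of the Sylow subgroup. -/
theorem twoClass_of (hcore : oddCore G = ⊥) (hns : ¬ Group.IsSolvable G) {P : Sylow 2 G} {σ τ : G}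
    {m : ℕ} (D : Data P σ τ m) {N : Subgroup G} [N.Normal] (hi : N.index = 2)
    (h3 : ∀ s t u : G, orderOf s = 2 → orderOf t = 2 → orderOf u = 2 →
      IsConj s t ∨ IsConj s u ∨ IsConj t u)
    (h4 : ∀ M : Subgroup G, M.Normal → M.index ≠ 4) {n : ℕ} (hn : 2 ≤ n)
    (eP : Nonempty ((P : Subgroup G) ≃* DihedralGroup n)) {v : G} {A : Subgroup G} {x : G}
    (hv : orderOf v = 2) (d : DihData v A x) : TwoClass G N := by
  haveI := Fact.mk Nat.prime_two
  obtain ⟨l, hl, hm⟩ := id D.pow_two
  have hσ : σ ∉ N := by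
    intro hσN
    -- otherwise the Sylow subgroup of `N` is cyclic
    have hnot : ∀ i : ℕ, σ ^ i * τ ∈ N → τ ∈ N := fun i h => (N.mul_mem_cancel_left (pow_mem hσN i)).1 h
    have hτN : τ ∉ N := fun hτN => by
      have hP : (P : Subgroup G) ≤ N := fun p hp => by
        obtain ⟨i, rfl | rfl⟩ := D.cases p hp
        · exact pow_mem hσN i
        · exact mul_mem (pow_mem hσN i) hτN
      exact P.not_dvd_index (dvd_trans (by rw [hi]) (Subgroup.index_dvd_of_le hP))
    let Q : Subgroup N := Subgroup.zpowers (⟨σ, hσN⟩ : N)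
    have hQc : Nat.card Q = 2 * m := by
      rw [Nat.card_zpowers, ← Subgroup.orderOf_coe, D.ordσ]
    have hNc : Nat.card N = 2 * m * (P : Subgroup G).index := by
      have h1 := N.card_mul_index
      have h2 := (P : Subgroup G).card_mul_index
      rw [hi] at h1
      rw [D.card] at h2
      have h3 : 4 * m * (P : Subgroup G).index = 2 * (2 * m * (P : Subgroup G).index) := by ring
      omega
    have hQi : Q.index = (P : Subgroup G).index := by
      have h := Q.card_mul_index
      rw [hQc, hNc] at h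
      exact Nat.eq_of_mul_eq_mul_left (by have := two_le D; omega) h
    have hQp : IsPGroup 2 Q := IsPGroup.of_card (n := l + 1) (by rw [hQc, hm, pow_succ'])
    refine hns (solvable_of_index_two_four ?_ (k := 1) (by simpa using hi))
    refine solvable_of_hasNormalComplement (ZStar.hasNormalPComplement_of_cyclic
      (hQp.toSylow (hQi ▸ P.not_dvd_index)) ?_)
    rw [IsPGroup.toSylow_coe]
    infer_instance
  obtain ⟨k, D', hk⟩ : ∃ k, Data P σ k m ∧ k ∈ N := by
    by_cases hτ : τ ∈ N
    · exact ⟨τ, D, hτ⟩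
    · exact ⟨σ * τ, swap D, (Subgroup.mul_mem_iff_of_index_two hi).2 (iff_of_false hσ hτ)⟩
  have hone := one_inner D' hi hσ hk hns h4
  have hz : orderOf (σ ^ m) = 2 := orderOf_z D'
  have hzN := z_mem_inner D' hi hσ hk
  have hjN := outer_refl_not_mem D' hi hσ hk
  have hj : orderOf (σ * k) = 2 := by simpa using orderOf_refl D' 1
  have hk2 : orderOf k = 2 := orderOf_tau D'
  have hkne : k ≠ σ ^ m := fun e => tau_not_mem D' (e.symm ▸ pow_mem (Subgroup.mem_zpowers σ) m)
  have hkz : Commute k (σ ^ m) := (z_commute D' D'.memτ).symm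
  have hcl : ∀ u : G, orderOf u = 2 →
      (u ∈ N → IsConj (σ ^ m) u) ∧ (u ∉ N → IsConj (σ * k) u) := by
    intro u hu
    refine ⟨fun huN => ?_, fun huN => ?_⟩
    · obtain ⟨g, hg⟩ := isConj_iff.1 (hone ⟨_, hzN⟩ ⟨u, huN⟩ (by rwa [← Subgroup.orderOf_coe])
        (by rwa [← Subgroup.orderOf_coe]))
      exact isConj_iff.2 ⟨g, congrArg Subtype.val hg⟩
    · rcases h3 (σ ^ m) (σ * k) u hz hj hu with h | h | h
      · obtain ⟨g, hg⟩ := isConj_iff.1 h
        exact absurd (hg ▸ Subgroup.Normal.conj_mem inferInstance _ hzN g) hjN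
      · obtain ⟨g, hg⟩ := isConj_iff.1 h
        exact absurd (hg ▸ Subgroup.Normal.conj_mem inferInstance _ hzN g) huN
      · exact h
  obtain ⟨Az, xz, dz⟩ : ∃ A' x', DihData (σ ^ m) A' x' := by
    by_cases hvN : v ∈ N
    · obtain ⟨g, hg⟩ := isConj_iff.1 ((hcl v hv).1 hvN).symm
      exact ⟨_, _, hg ▸ d.conj g⟩
    · obtain ⟨g, hg⟩ := isConj_iff.1 ((hcl v hv).2 hvN).symm
      obtain ⟨A', d'⟩ := inner_data D' hi hσ hk hn eP hcore hone (hg ▸ d.conj g)
      exact ⟨A', k, d'⟩
  obtain ⟨Aj, dj⟩ := outer_data D' hi hσ hk hn eP dz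
  obtain ⟨S, -, eS, -, -⟩ := exists_sylow_inner D' hi hσ hk
  refine ⟨hcore, dihCent_of_reps fun u hu => ?_, fun S' => ⟨n, hn, ⟨(S'.equiv P).trans eP.some⟩⟩, hi,
    ⟨oddCore_normal_eq_bot hcore N, dihCent_of_reps fun u hu => ?_, hone,
      fun S' => ⟨m, two_le D', ⟨(S'.equiv S).trans eS.some⟩⟩⟩, ⟨_, hj, hjN⟩, fun s t hs ht hsN htN =>
        ((hcl s hs).2 hsN).symm.trans ((hcl t ht).2 htN)⟩
  · by_cases huN : u ∈ N
    · exact ⟨_, _, _, (hcl u hu).1 huN, dz⟩
    · exact ⟨_, _, _, (hcl u hu).2 huN, dj⟩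
  · exact ⟨⟨_, hzN⟩, _, _, hone _ _ (by rwa [← Subgroup.orderOf_coe]) hu,
      dz.restrict N hzN hk hk2 hkne hkz⟩

end CfsgLib.DGroup
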